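import Mathlib
import Groth.Agent.GenFreeRed.Main

universe u
set_option autoImplicit false
open AlgebraicGeometry CategoryTheory TopologicalSpace
open scoped TensorProduct

namespace FlatMisc

theorem awayMap_flat_of_free {R S : Type u} [CommRing R] [CommRing S] [Algebra R S] (c : R)
    [Module.Free (Localization.Away c) (LocalizedModule (Submonoid.powers c) S)] :
    (Localization.awayMap (algebraMap R S) c).Flat := by
  haveI : Module.Free (Localization.Away c) (Localization.Away c ⊗[R] S) := Module.Free.of_equiv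
      ((IsLocalizedModule.isBaseChange (Submonoid.powers c) (Localization.Away c)
        (LocalizedModule.mkLinearMap (Submonoid.powers c) S)).equiv).symm
  letI := (Localization.awayMap (algebraMap R S) c).toAlgebra
  haveI : IsScalarTower R (Localization.Away c) (Localization.Away (algebraMap R S c)) :=
    IsScalarTower.of_algebraMap_eq (fun x => by
      change _ = Localization.awayMap (algebraMap R S) c (algebraMap R _ x)
      rw [Localization.awayMap, IsLocalization.Away.map, IsLocalization.map_eq]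
      exact IsScalarTower.algebraMap_apply R S (Localization.Away (algebraMap R S c)) x)
  haveI : IsLocalization (Algebra.algebraMapSubmonoid S (Submonoid.powers c)) (Localization.Away (algebraMap R S c)) := by
    rw [show Algebra.algebraMapSubmonoid S (Submonoid.powers c) = Submonoid.powers (algebraMap R S c) from Submonoid.map_powers _ c]
    infer_instance
  haveI : Algebra.IsPushout R (Localization.Away c) S (Localization.Away (algebraMap R S c)) :=
    (Algebra.isPushout_of_isLocalization (Submonoid.powers c) _ S _).symm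
  exact Module.Flat.of_linearEquiv
    (Algebra.IsPushout.equiv R (Localization.Away c) S (Localization.Away (algebraMap R S c))).toLinearEquiv.symm

variable {X S : Scheme.{u}} (f : X ⟶ S)

/-- one affine piece: shrink the base basic open -/
theorem exists_good_basicOpen [LocallyOfFiniteType f] {U : S.Opens} (hU : IsAffineOpen U) {V : X.Opens}
    (hV : IsAffineOpen V) (e : V ≤ f ⁻¹ᵁ U) (g : Γ(S, U)) (hg : g ≠ 0) :
    ∃ c, g * c ≠ 0 ∧ ∃ e' : X.basicOpen ((f.appLE U V e).hom (g * c)) ≤ f ⁻¹ᵁ S.basicOpen (g * c),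
      Flat (f.resLE (S.basicOpen (g * c)) (X.basicOpen ((f.appLE U V e).hom (g * c))) e') ∧
      LocallyOfFinitePresentation (f.resLE (S.basicOpen (g * c)) (X.basicOpen ((f.appLE U V e).hom (g * c))) e') := by
  letI := (f.appLE U V e).hom.toAlgebra
  haveI : Algebra.FiniteType Γ(S, U) Γ(X, V) := f.finiteType_appLE hU hV e
  obtain ⟨c, hc, -, hfree, hfp, -⟩ := Groth.Agent.GenFreeRed.exists_isGood Γ(S, U) Γ(X, V) Γ(X, V) g hg
  haveI := hfree
  have hflat := awayMap_flat_of_free (R := Γ(S, U)) (S := Γ(X, V)) (g * c)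
  refine ⟨c, hc, ?_⟩
  set d := g * c
  set φd : Γ(X, V) := (f.appLE U V e).hom d
  have e' : X.basicOpen φd ≤ f ⁻¹ᵁ S.basicOpen d := by
    rw [Scheme.basicOpen_appLE, Scheme.preimage_basicOpen]; exact inf_le_right
  refine ⟨e', ?_⟩
  haveI : IsAffine (S.basicOpen d) := hU.basicOpen d
  haveI : IsAffine (X.basicOpen φd) := hV.basicOpen φd
  letI := (S.presheaf.map (homOfLE (S.basicOpen_le d)).op).hom.toAlgebra
  haveI : IsLocalization.Away d Γ(S, S.basicOpen d) := hU.isLocalization_basicOpen d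
  letI := (X.presheaf.map (homOfLE (X.basicOpen_le φd)).op).hom.toAlgebra
  haveI : IsLocalization.Away φd Γ(X, X.basicOpen φd) := hV.isLocalization_basicOpen φd
  let e1 : Localization.Away d ≃+* Γ(S, S.basicOpen d) :=
    (IsLocalization.algEquiv (Submonoid.powers d) (Localization.Away d) Γ(S, S.basicOpen d)).toRingEquiv
  let e2 : Localization.Away φd ≃+* Γ(X, X.basicOpen φd) :=
    (IsLocalization.algEquiv (Submonoid.powers φd) (Localization.Away φd) Γ(X, X.basicOpen φd)).toRingEquiv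
  have hcomm : (f.appLE (S.basicOpen d) (X.basicOpen φd) e').hom =
      (e2.toRingHom.comp (Localization.awayMap (algebraMap Γ(S, U) Γ(X, V)) d)).comp e1.symm.toRingHom := by
    suffices h : (f.appLE (S.basicOpen d) (X.basicOpen φd) e').hom.comp e1.toRingHom =
        e2.toRingHom.comp (Localization.awayMap (algebraMap Γ(S, U) Γ(X, V)) d) by
      rw [← h, RingHom.comp_assoc]
      ext z
      simp
    refine IsLocalization.ringHom_ext (Submonoid.powers d) ?_
    ext z
    simp only [RingHom.comp_apply, RingEquiv.toRingHom_eq_coe, RingHom.coe_coe, e1, e2, AlgEquiv.coe_ringEquiv]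
    rw [AlgEquiv.commutes, Localization.awayMap, IsLocalization.Away.map, IsLocalization.map_eq]
    erw [AlgEquiv.commutes]
    simp only [RingHom.algebraMap_toAlgebra]
    rw [← CommRingCat.comp_apply, ← CommRingCat.comp_apply, Scheme.Hom.map_appLE, Scheme.Hom.appLE_map]
  refine ⟨?_, ?_⟩
  · rw [HasRingHomProperty.iff_of_isAffine (P := @Flat),
      RingHom.Flat.respectsIso.arrow_mk_iso_iff (arrowResLEAppIso f _ _ e'), hcomm]
    exact (RingHom.Flat.of_bijective e1.symm.bijective).comp (hflat.comp (RingHom.Flat.of_bijective e2.bijective))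
  · rw [HasRingHomProperty.iff_of_isAffine (P := @LocallyOfFinitePresentation),
      RingHom.finitePresentation_respectsIso.arrow_mk_iso_iff (arrowResLEAppIso f _ _ e'), hcomm]
    exact ((RingHom.FinitePresentation.of_bijective e2.bijective).comp hfp).comp
      (RingHom.FinitePresentation.of_bijective e1.symm.bijective)

/-- Generic flatness over a reduced base, one nonempty open inside any given one. -/
theorem exists_flat_open [IsReduced S] [LocallyOfFiniteType f] [QuasiCompact f] (O : S.Opens)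
    (hO : (O : Set S).Nonempty) :
    ∃ W : S.Opens, (W : Set S).Nonempty ∧ W ≤ O ∧ Flat (f ∣_ W) ∧ LocallyOfFinitePresentation (f ∣_ W) := by
  classical
  obtain ⟨s, hs⟩ := hO
  obtain ⟨_, ⟨U, hU, rfl⟩, hsU, hUO⟩ := S.isBasis_affineOpens.exists_subset_of_mem_open hs O.isOpen
  replace hU : IsAffineOpen U := hU
  obtain ⟨t, ht, htf, htc⟩ := X.isBasis_affineOpens.exists_finite_of_isCompact
    (f.isCompact_preimage (hU.isCompact) : IsCompact ((f ⁻¹ᵁ U : X.Opens) : Set X))
  have hkey : ∀ t' : Finset X.Opens, (↑t' : Set X.Opens) ⊆ t → ∃ g : Γ(S, U), g ≠ 0 ∧ ∀ V ∈ t',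
      ∀ (W : X.Opens) (hW : W ≤ f ⁻¹ᵁ S.basicOpen g), W ≤ V →
        Flat (f.resLE (S.basicOpen g) W hW) ∧ LocallyOfFinitePresentation (f.resLE (S.basicOpen g) W hW) := by
    intro t' ht'
    induction t' using Finset.induction with
    | empty =>
      haveI : Nonempty U := ⟨⟨s, hsU⟩⟩
      haveI : Nontrivial Γ(S, U) := Scheme.component_nontrivial S U
      exact ⟨1, one_ne_zero, fun V hV => absurd hV (by simp)⟩
    | @insert V t' _ ih =>
      rw [Finset.coe_insert, Set.insert_subset_iff] at ht'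
      obtain ⟨g, hg, hgood⟩ := ih ht'.2
      have hVU : V ≤ f ⁻¹ᵁ U := by
        rw [htc]; exact le_sSup ht'.1
      obtain ⟨c, hc, e', hfl, hfp⟩ := exists_good_basicOpen f hU (ht ht'.1) hVU g hg
      have hle : S.basicOpen (g * c) ≤ S.basicOpen g := by rw [Scheme.basicOpen_mul]; exact inf_le_left
      refine ⟨g * c, hc, fun V' hV' W hW hWV => ?_⟩
      rcases Finset.mem_insert.mp hV' with rfl | hV'
      · have hWb : W ≤ X.basicOpen ((f.appLE U V' hVU).hom (g * c)) := by
          rw [Scheme.basicOpen_appLE]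
          exact le_inf hWV hW
        rw [← f.map_resLE e' hWb]
        haveI := hfl; haveI := hfp
        exact ⟨inferInstance, inferInstance⟩
      · have hWg : W ≤ f ⁻¹ᵁ S.basicOpen g := hW.trans (fun z hz => hle hz)
        obtain ⟨h1, h2⟩ := hgood V' hV' W hWg hWV
        have h3 : f.resLE (S.basicOpen (g * c)) W hW ≫ S.homOfLE hle = f.resLE (S.basicOpen g) W hWg := by
          rw [← cancel_mono (S.basicOpen g).ι, Category.assoc, Scheme.homOfLE_ι, Scheme.Hom.resLE_comp_ι,
            Scheme.Hom.resLE_comp_ι]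
        rw [← h3] at h1 h2
        exact ⟨MorphismProperty.of_postcomp @Flat _ (S.homOfLE hle) (inferInstance : IsOpenImmersion _) h1,
          MorphismProperty.of_postcomp @LocallyOfFinitePresentation _ (S.homOfLE hle) (inferInstance : IsOpenImmersion _) h2⟩
  obtain ⟨g, hg, hgood⟩ := hkey htf.toFinset (by simp)
  refine ⟨S.basicOpen g, ?_, (S.basicOpen_le g).trans hUO, ?_⟩
  · by_contra hemp
    exact hg ((AlgebraicGeometry.basicOpen_eq_bot_iff g).mp (Opens.coe_inj.mp (by simpa using Set.not_nonempty_iff_eq_empty.mp hemp)))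
  · have hcov : ⨆ V : htf.toFinset, (f ⁻¹ᵁ S.basicOpen g).ι ⁻¹ᵁ V.1 = ⊤ := by
      rw [eq_top_iff]
      rintro z -
      have : z.1 ∈ f ⁻¹ᵁ U := S.basicOpen_le g z.2
      rw [htc] at this
      obtain ⟨V, hVt, hzV⟩ := Opens.mem_sSup.mp this
      exact Opens.mem_iSup.mpr ⟨⟨V, htf.mem_toFinset.mpr hVt⟩, hzV⟩
    have hpiece : ∀ V : htf.toFinset,
        Flat (((f ⁻¹ᵁ S.basicOpen g).ι ⁻¹ᵁ V.1).ι ≫ (f ∣_ S.basicOpen g)) ∧
        LocallyOfFinitePresentation (((f ⁻¹ᵁ S.basicOpen g).ι ⁻¹ᵁ V.1).ι ≫ (f ∣_ S.basicOpen g)) := by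
      intro V
      let W : X.Opens := (f ⁻¹ᵁ S.basicOpen g).ι ''ᵁ ((f ⁻¹ᵁ S.basicOpen g).ι ⁻¹ᵁ V.1)
      have hWV : W ≤ V.1 := by
        rintro _ ⟨z, hz, rfl⟩; exact hz
      have hW : W ≤ f ⁻¹ᵁ S.basicOpen g := by
        rintro _ ⟨z, hz, rfl⟩; exact z.2
      obtain ⟨h1, h2⟩ := hgood V.1 V.2 W hW hWV
      have h3 : ((f ⁻¹ᵁ S.basicOpen g).ι ⁻¹ᵁ V.1).ι ≫ (f ∣_ S.basicOpen g) =
          ((f ⁻¹ᵁ S.basicOpen g).ι.isoImage ((f ⁻¹ᵁ S.basicOpen g).ι ⁻¹ᵁ V.1)).hom ≫ f.resLE (S.basicOpen g) W hW := by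
        rw [← cancel_mono (S.basicOpen g).ι]
        simp only [Category.assoc, morphismRestrict_ι, Scheme.Hom.resLE_comp_ι]
        exact (Scheme.Hom.isoImage_hom_ι_assoc _ _ f).symm
      rw [h3]
      exact ⟨inferInstance, inferInstance⟩
    exact ⟨IsZariskiLocalAtSource.of_iSup_eq_top (P := @Flat) _ hcov (fun V => (hpiece V).1),
      IsZariskiLocalAtSource.of_iSup_eq_top (P := @LocallyOfFinitePresentation) _ hcov (fun V => (hpiece V).2)⟩

/-- Generic flatness over a reduced base. -/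
theorem exists_dense_flat [IsReduced S] [LocallyOfFiniteType f] [QuasiCompact f] :
    ∃ U : S.Opens, Dense (U : Set S) ∧ Flat (f ∣_ U) ∧ LocallyOfFinitePresentation (f ∣_ U) := by
  let T := {W : S.Opens // Flat (f ∣_ W) ∧ LocallyOfFinitePresentation (f ∣_ W)}
  refine ⟨⨆ W : T, W.1, ?_, ?_⟩
  · rw [dense_iff_inter_open]
    intro O hO hne
    obtain ⟨W, ⟨z, hz⟩, hWO, hW⟩ := exists_flat_open f ⟨O, hO⟩ hne
    exact ⟨z, hWO hz, Opens.mem_iSup.mpr ⟨⟨W, hW⟩, hz⟩⟩
  · set U := ⨆ W : T, W.1
    have hcov : ⨆ W : T, U.ι ⁻¹ᵁ W.1 = ⊤ := by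
      rw [eq_top_iff]
      rintro z -
      obtain ⟨W, hW⟩ := Opens.mem_iSup.mp z.2
      exact Opens.mem_iSup.mpr ⟨W, hW⟩
    have e : ∀ W : T, U.ι ''ᵁ U.ι ⁻¹ᵁ W.1 = W.1 := fun W => by
      rw [Scheme.Hom.image_preimage_eq_opensRange_inf, Scheme.Opens.opensRange_ι, inf_eq_right]
      exact le_iSup (fun W : T => W.1) W
    refine ⟨IsZariskiLocalAtTarget.of_iSup_eq_top (P := @Flat) _ hcov (fun W => ?_),
      IsZariskiLocalAtTarget.of_iSup_eq_top (P := @LocallyOfFinitePresentation) _ hcov (fun W => ?_)⟩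
    · rw [MorphismProperty.arrow_mk_iso_iff @Flat (morphismRestrictRestrict f U (U.ι ⁻¹ᵁ W.1)), e]
      exact W.2.1
    · rw [MorphismProperty.arrow_mk_iso_iff @LocallyOfFinitePresentation (morphismRestrictRestrict f U (U.ι ⁻¹ᵁ W.1)), e]
      exact W.2.2

end FlatMisc
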