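import Mathlib

/-!
# Affine reduction of fibre properties near the generic point of an irreducible base
-/

universe u
set_option autoImplicit false
open AlgebraicGeometry CategoryTheory CategoryTheory.Limits TopologicalSpace Topology TensorProduct

namespace Groth.Agent.FlatMisc.GenericReduction

theorem isPullback_spec_tensor {A B C : Type u} [CommRing A] [CommRing B] [CommRing C] [Algebra A B] [Algebra A C] :
    IsPullback (Spec.map (CommRingCat.ofHom (Algebra.TensorProduct.includeLeftRingHom : B →+* B ⊗[A] C)))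
      (Spec.map (CommRingCat.ofHom (Algebra.TensorProduct.includeRight : C →ₐ[A] B ⊗[A] C).toRingHom))
      (Spec.map (CommRingCat.ofHom (algebraMap A B))) (Spec.map (CommRingCat.ofHom (algebraMap A C))) :=
  isPullback_SpecMap_of_isPushout _ _ _ _ (CommRingCat.isPushout_tensorProduct A B C)

variable {X Y : Scheme.{u}} (f : X ⟶ Y)

/-- An affine chart of the target around the generic point, with finitely many affine charts over it. -/
structure Chart [IrreducibleSpace ↑Y] where
  U : Y.Opens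
  hU : IsAffineOpen U
  hη : genericPoint ↑Y ∈ U
  t : Set X.Opens
  fin : t.Finite
  aff : ∀ V ∈ t, IsAffineOpen V
  cov : f ⁻¹ᵁ U = sSup t

theorem exists_chart [IrreducibleSpace ↑Y] [QuasiCompact f] : Nonempty (Chart f) := by
  obtain ⟨U, hU, hηU, -⟩ := exists_isAffineOpen_mem_and_subset (x := genericPoint ↑Y) (U := (⊤ : Y.Opens)) (by simp)
  obtain ⟨t, ht, htf, htc⟩ := X.isBasis_affineOpens.exists_finite_of_isCompact
    (f.isCompact_preimage hU.isCompact : IsCompact ((f ⁻¹ᵁ U : X.Opens) : Set X))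
  exact ⟨⟨U, hU, hηU, t, htf, fun V hV => ht hV, htc⟩⟩

namespace Chart

variable {f} [IrreducibleSpace ↑Y] (C : Chart f)

/-- The reduced coordinate ring of the base chart. -/
abbrev R : Type u := Γ(Y, C.U) ⧸ nilradical Γ(Y, C.U)

instance isPrime_nilradical : (nilradical Γ(Y, C.U)).IsPrime := by
  have h : nilradical Γ(Y, C.U) = (C.hU.primeIdealOf ⟨genericPoint ↑Y, C.hη⟩).asIdeal := by
    refine le_antisymm (nilradical_le_prime _) ?_
    rw [nilradical_eq_sInf]
    refine le_sInf fun Q hQ => ?_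
    let q : PrimeSpectrum Γ(Y, C.U) := ⟨Q, hQ⟩
    have h1 : genericPoint ↑Y ⤳ C.hU.fromSpec q := (genericPoint_spec ↑Y).specializes (Set.mem_univ _)
    rw [show genericPoint ↑Y = C.hU.fromSpec (C.hU.primeIdealOf ⟨genericPoint ↑Y, C.hη⟩) from
      (C.hU.fromSpec_primeIdealOf ⟨genericPoint ↑Y, C.hη⟩).symm,
      C.hU.fromSpec.isOpenEmbedding.isInducing.specializes_iff] at h1
    exact (PrimeSpectrum.le_iff_specializes (C.hU.primeIdealOf ⟨genericPoint ↑Y, C.hη⟩) q).mpr h1
  rw [h]; exact (C.hU.primeIdealOf _).2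

instance : IsDomain C.R := Ideal.Quotient.isDomain _

theorem le_preimage (V : C.t) : V.1 ≤ f ⁻¹ᵁ C.U := by rw [C.cov]; exact le_sSup V.2

noncomputable instance algebraV (V : C.t) : Algebra Γ(Y, C.U) Γ(X, V.1) := (f.appLE C.U V.1 (C.le_preimage V)).hom.toAlgebra

/-- The coordinate ring of a chart over the reduced base. -/
abbrev S (V : C.t) : Type u := C.R ⊗[Γ(Y, C.U)] Γ(X, V.1)

instance finiteType_S [LocallyOfFiniteType f] (V : C.t) : Algebra.FiniteType C.R (C.S V) := by
  haveI : Algebra.FiniteType Γ(Y, C.U) Γ(X, V.1) := f.finiteType_appLE C.hU (C.aff V.1 V.2) (C.le_preimage V)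
  infer_instance

/-- The chart of the base, as a morphism. -/
noncomputable def ι : Spec (CommRingCat.of C.R) ⟶ Y :=
  Spec.map (CommRingCat.ofHom (Ideal.Quotient.mk (nilradical Γ(Y, C.U)))) ≫ C.hU.fromSpec

theorem ι_injective : Function.Injective C.ι :=
  C.hU.fromSpec.isOpenEmbedding.injective.comp
    (PrimeSpectrum.comap_injective_of_surjective _ Ideal.Quotient.mk_surjective)

theorem ι_bot : C.ι (⊥ : PrimeSpectrum C.R) = genericPoint ↑Y := by
  refine Eq.trans ?_ (C.hU.fromSpec_primeIdealOf ⟨genericPoint ↑Y, C.hη⟩)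
  refine congrArg C.hU.fromSpec (PrimeSpectrum.ext ?_)
  show Ideal.comap (Ideal.Quotient.mk (nilradical Γ(Y, C.U))) ⊥ = _
  rw [← RingHom.ker_eq_comap_bot, Ideal.mk_ker]
  refine le_antisymm (nilradical_le_prime _) ?_
  rw [nilradical_eq_sInf]
  refine le_sInf fun Q hQ => ?_
  let q : PrimeSpectrum Γ(Y, C.U) := ⟨Q, hQ⟩
  have h1 : genericPoint ↑Y ⤳ C.hU.fromSpec q := (genericPoint_spec ↑Y).specializes (Set.mem_univ _)
  rw [show genericPoint ↑Y = C.hU.fromSpec (C.hU.primeIdealOf ⟨genericPoint ↑Y, C.hη⟩) from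
    (C.hU.fromSpec_primeIdealOf ⟨genericPoint ↑Y, C.hη⟩).symm,
    C.hU.fromSpec.isOpenEmbedding.isInducing.specializes_iff] at h1
  exact (PrimeSpectrum.le_iff_specializes (C.hU.primeIdealOf ⟨genericPoint ↑Y, C.hη⟩) q).mpr h1

/-- The open of the base on which an element of the reduced coordinate ring is invertible. -/
noncomputable def D (a : C.R) : Y.Opens :=
  ⟨C.ι '' ((PrimeSpectrum.basicOpen a : Opens (PrimeSpectrum C.R)) : Set (PrimeSpectrum C.R)), by
    obtain ⟨b, rfl⟩ := Ideal.Quotient.mk_surjective a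
    have h : C.ι '' ((PrimeSpectrum.basicOpen (Ideal.Quotient.mk (nilradical Γ(Y, C.U)) b) : Opens (PrimeSpectrum C.R)) : Set (PrimeSpectrum C.R)) =
        C.hU.fromSpec '' ((PrimeSpectrum.basicOpen b : Opens (PrimeSpectrum Γ(Y, C.U))) : Set (PrimeSpectrum Γ(Y, C.U))) := by
      ext y
      constructor
      · rintro ⟨q, hq, rfl⟩
        exact ⟨PrimeSpectrum.comap (Ideal.Quotient.mk _) q, hq, rfl⟩
      · rintro ⟨q, hq, rfl⟩
        obtain ⟨q', rfl⟩ : q ∈ Set.range (PrimeSpectrum.comap (Ideal.Quotient.mk (nilradical Γ(Y, C.U)))) := by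
          rw [_root_.range_comap_of_surjective _ _ Ideal.Quotient.mk_surjective, Ideal.mk_ker]
          exact nilradical_le_prime q.asIdeal
        exact ⟨q', hq, rfl⟩
    rw [h]
    exact C.hU.fromSpec.isOpenEmbedding.isOpenMap _ (PrimeSpectrum.basicOpen b).isOpen⟩

theorem mem_D {a : C.R} (ha : a ≠ 0) : genericPoint ↑Y ∈ C.D a :=
  ⟨(⊥ : PrimeSpectrum C.R), ha, C.ι_bot⟩

theorem D_le (a : C.R) : C.D a ≤ C.U := by
  rintro _ ⟨q, -, rfl⟩
  exact C.hU.range_fromSpec.le ⟨_, rfl⟩

/-- The point given by an algebra over the reduced coordinate ring. -/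
noncomputable def pt (L : Type u) [Field L] [Algebra C.R L] : Spec (CommRingCat.of L) ⟶ Y :=
  Spec.map (CommRingCat.ofHom (algebraMap C.R L)) ≫ C.ι

theorem pt_mem_D {L : Type u} [Field L] [Algebra C.R L] (a : C.R) :
    C.pt L (IsLocalRing.closedPoint L) ∈ C.D a ↔ algebraMap C.R L a ≠ 0 := by
  show C.ι (PrimeSpectrum.comap (algebraMap C.R L) (IsLocalRing.closedPoint L)) ∈ C.ι '' _ ↔ _
  rw [C.ι_injective.mem_set_image]
  show a ∉ Ideal.comap (algebraMap C.R L) (IsLocalRing.maximalIdeal L) ↔ _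
  rw [Ideal.mem_comap, IsLocalRing.maximalIdeal_eq_bot, Ideal.mem_bot]

theorem injective_of_pt_eq {L : Type u} [Field L] [Algebra C.R L]
    (h : C.pt L (IsLocalRing.closedPoint L) = genericPoint ↑Y) : Function.Injective (algebraMap C.R L) := by
  refine (injective_iff_map_eq_zero _).mpr fun a ha => ?_
  by_contra h0
  have := C.mem_D h0
  rw [← h, C.pt_mem_D] at this
  exact this ha

theorem pt_eq_of_injective {L : Type u} [Field L] [Algebra C.R L] (h : Function.Injective (algebraMap C.R L)) :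
    C.pt L (IsLocalRing.closedPoint L) = genericPoint ↑Y := by
  refine Eq.trans (congrArg C.ι (PrimeSpectrum.ext ?_)) C.ι_bot
  show Ideal.comap (algebraMap C.R L) (IsLocalRing.closedPoint L).asIdeal = ⊥
  rw [show (IsLocalRing.closedPoint L).asIdeal = ⊥ from IsLocalRing.maximalIdeal_eq_bot, ← RingHom.ker_eq_comap_bot]
  exact (RingHom.injective_iff_ker_eq_bot _).mp h

theorem exists_pt {L : Type u} [Field L] (y : Spec (CommRingCat.of L) ⟶ Y) (hy : y (IsLocalRing.closedPoint L) ∈ C.U) :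
    ∃ _ : Algebra C.R L, C.pt L = y := by
  have hr : Set.range y ⊆ Set.range C.hU.fromSpec := by
    rintro _ ⟨x, rfl⟩
    rw [C.hU.range_fromSpec, Subsingleton.elim x (IsLocalRing.closedPoint L)]
    exact hy
  let g := IsOpenImmersion.lift C.hU.fromSpec y hr
  obtain ⟨φ, hφ⟩ := Spec.map_surjective g
  letI : Algebra C.R L := (Ideal.Quotient.lift (nilradical Γ(Y, C.U)) φ.hom fun a ha => (IsNilpotent.map ha φ.hom).eq_zero).toAlgebra
  refine ⟨inferInstance, ?_⟩
  rw [pt, Chart.ι, ← Spec.map_comp_assoc]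
  conv_rhs => rw [← IsOpenImmersion.lift_fac C.hU.fromSpec y hr]
  rw [show IsOpenImmersion.lift C.hU.fromSpec y hr = g from rfl, ← hφ]
  congr 2

theorem algebraMap_of_tower {L : Type u} [Field L] [Algebra C.R L] (L' : Type u) [Field L'] [Algebra L L'] [Algebra C.R L']
    [IsScalarTower C.R L L'] : Spec.map (CommRingCat.ofHom (algebraMap L L')) ≫ C.pt L = C.pt L' := by
  rw [pt, pt, ← Spec.map_comp_assoc, ← CommRingCat.ofHom_comp, ← IsScalarTower.algebraMap_eq]

/-- Reducedness of a fibre, read on the charts. -/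
theorem isReduced_pullback_iff (L : Type u) [Field L] [Algebra C.R L] :
    AlgebraicGeometry.IsReduced (pullback f (C.pt L)) ↔ ∀ V : C.t, _root_.IsReduced (L ⊗[C.R] C.S V) := by
  letI : Algebra Γ(Y, C.U) L := ((algebraMap C.R L).comp (Ideal.Quotient.mk (nilradical Γ(Y, C.U)))).toAlgebra
  haveI : IsScalarTower Γ(Y, C.U) C.R L := IsScalarTower.of_algebraMap_eq fun _ => rfl
  have hpt : C.pt L = Spec.map (CommRingCat.ofHom (algebraMap Γ(Y, C.U) L)) ≫ C.hU.fromSpec := by
    rw [pt, Chart.ι, ← Spec.map_comp_assoc]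
    rfl
  let j : ∀ V : C.t, pullback (Spec.map (CommRingCat.ofHom (algebraMap Γ(Y, C.U) Γ(X, V.1))))
      (Spec.map (CommRingCat.ofHom (algebraMap Γ(Y, C.U) L))) ⟶ pullback f (C.pt L) := fun V =>
    pullback.map _ _ f (C.pt L) (C.aff V.1 V.2).fromSpec (𝟙 _) C.hU.fromSpec
      (C.hU.SpecMap_appLE_fromSpec f (C.aff V.1 V.2) (C.le_preimage V)) (by rw [Category.id_comp, hpt])
  haveI : ∀ V, IsOpenImmersion (j V) := fun V => by
    haveI := (C.aff V.1 V.2).isOpenImmersion_fromSpec
    haveI := C.hU.isOpenImmersion_fromSpec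
    infer_instance
  let e : ∀ V : C.t, Spec (CommRingCat.of (Γ(X, V.1) ⊗[Γ(Y, C.U)] L)) ≅
      pullback (Spec.map (CommRingCat.ofHom (algebraMap Γ(Y, C.U) Γ(X, V.1))))
        (Spec.map (CommRingCat.ofHom (algebraMap Γ(Y, C.U) L))) := fun V =>
    isPullback_spec_tensor.isoPullback
  have hiff : ∀ V : C.t, _root_.IsReduced (L ⊗[C.R] C.S V) ↔
      AlgebraicGeometry.IsReduced (Spec (CommRingCat.of (Γ(X, V.1) ⊗[Γ(Y, C.U)] L))) := fun V => by
    rw [affine_isReduced_iff]
    let ε := (Algebra.TensorProduct.cancelBaseChange Γ(Y, C.U) C.R L L Γ(X, V.1)).toRingEquiv.trans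
      (Algebra.TensorProduct.comm Γ(Y, C.U) L Γ(X, V.1)).toRingEquiv
    exact ⟨fun _ => isReduced_of_injective ε.symm ε.symm.injective, fun _ => isReduced_of_injective ε ε.injective⟩
  simp only [hiff]
  constructor
  · intro h V
    exact isReduced_of_isOpenImmersion ((e V).hom ≫ j V)
  · intro h
    let 𝒰 : (pullback f (C.pt L)).OpenCover :=
      { I₀ := C.t
        X := fun V => Spec (CommRingCat.of (Γ(X, V.1) ⊗[Γ(Y, C.U)] L))
        f := fun V => (e V).hom ≫ j V
        mem₀ := by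
          rw [Scheme.presieve₀_mem_precoverage_iff]
          refine ⟨fun w => ?_, fun V => inferInstance⟩
          have hw : pullback.fst f (C.pt L) w ∈ f ⁻¹ᵁ C.U := by
            show (pullback.fst f (C.pt L) ≫ f) w ∈ C.U
            rw [pullback.condition]
            show C.pt L (pullback.snd f (C.pt L) w) ∈ C.U
            rw [congrArg (fun g : Spec (CommRingCat.of L) ⟶ Y => g (pullback.snd f (C.pt L) w)) hpt]
            exact C.hU.range_fromSpec.le ⟨_, rfl⟩
          rw [C.cov] at hw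
          obtain ⟨V, hV, hwV⟩ := Opens.mem_sSup.mp hw
          obtain ⟨v, hv⟩ : w ∈ Set.range (j ⟨V, hV⟩) := by
            rw [show j ⟨V, hV⟩ = pullback.map _ _ _ _ _ _ _ _ _ from rfl, Scheme.Pullback.range_map]
            exact ⟨(C.aff V hV).range_fromSpec.ge hwV, ⟨_, rfl⟩⟩
          refine ⟨⟨V, hV⟩, (e ⟨V, hV⟩).inv v, ?_⟩
          rw [← hv]
          show j ⟨V, hV⟩ ((e ⟨V, hV⟩).hom ((e ⟨V, hV⟩).inv v)) = _
          rw [show (e ⟨V, hV⟩).hom ((e ⟨V, hV⟩).inv v) = v from congr($((e ⟨V, hV⟩).inv_hom_id) v)] }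
    haveI : ∀ V, AlgebraicGeometry.IsReduced (𝒰.X V) := h
    exact IsReduced.of_openCover _ 𝒰

end Chart

end Groth.Agent.FlatMisc.GenericReduction
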