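import Mathlib
import Groth.Agent.FlatMisc.GenFlat
import Groth.Agent.EGA41Lib.FieldFS
import Groth.Agent.S9407
import Groth.Agent.GeomField.Algebra

/-!
# Spreading out injectivity, nonzerodivisors and smoothness from the generic fibre
-/

universe u
set_option autoImplicit false
open TensorProduct

namespace Groth.Agent.FlatMisc.SpreadRed

section basic

variable {R : Type u} [CommRing R]

/-- A field on which `c` is invertible is an algebra over the localization at `c`. -/
theorem exists_algebra_away (L : Type u) [Field L] [Algebra R L] (c : R) (hc : algebraMap R L c ≠ 0) :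
    ∃ (_ : Algebra (Localization.Away c) L), IsScalarTower R (Localization.Away c) L :=
  by
  letI := (IsLocalization.Away.lift (S := Localization.Away c) c (g := algebraMap R L) (IsUnit.mk0 _ hc)).toAlgebra
  exact ⟨inferInstance, IsScalarTower.of_algebraMap_eq fun x => (IsLocalization.Away.lift_eq c _ x).symm⟩

theorem cancel_natural (A L : Type u) [CommRing A] [CommRing L] [Algebra R A] [Algebra R L] [Algebra A L] [IsScalarTower R A L]
    {M N : Type u} [AddCommGroup M] [Module R M] [AddCommGroup N] [Module R N] (f : M →ₗ[R] N) (x : L ⊗[R] M) :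
    f.lTensor L x = AlgebraTensorModule.cancelBaseChange R A L L N
      ((f.baseChange A).lTensor L ((AlgebraTensorModule.cancelBaseChange R A L L M).symm x)) := by
  induction x with
  | zero => simp
  | tmul l m => simp
  | add a b ha hb => simp only [map_add, ha, hb]

theorem lTensor_injective_of_baseChange (A L : Type u) [CommRing A] [CommRing L] [Algebra R A] [Algebra R L] [Algebra A L]
    [IsScalarTower R A L] {M N : Type u} [AddCommGroup M] [Module R M] [AddCommGroup N] [Module R N] (f : M →ₗ[R] N)
    (h : Function.Injective ((f.baseChange A).lTensor L)) : Function.Injective (f.lTensor L) := by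
  intro x y hxy
  rw [cancel_natural A L f x, cancel_natural A L f y] at hxy
  exact (AlgebraTensorModule.cancelBaseChange R A L L M).symm.injective
    (h ((AlgebraTensorModule.cancelBaseChange R A L L N).injective hxy))

theorem lTensor_baseChange_injective (A L : Type u) [CommRing A] [CommRing L] [Algebra R A] [Algebra R L] [Algebra A L]
    [IsScalarTower R A L] {M N : Type u} [AddCommGroup M] [Module R M] [AddCommGroup N] [Module R N] (f : M →ₗ[R] N)
    (h : Function.Injective (f.lTensor L)) : Function.Injective ((f.baseChange A).lTensor L) := by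
  intro x y hxy
  obtain ⟨x, rfl⟩ := (AlgebraTensorModule.cancelBaseChange R A L L M).symm.surjective x
  obtain ⟨y, rfl⟩ := (AlgebraTensorModule.cancelBaseChange R A L L M).symm.surjective y
  refine congrArg _ (h ?_)
  rw [cancel_natural A L f x, cancel_natural A L f y, hxy]

theorem free_baseChange (c : R) (M : Type u) [AddCommGroup M] [Module R M]
    [Module.Free (Localization.Away c) (LocalizedModule (Submonoid.powers c) M)] :
    Module.Free (Localization.Away c) (Localization.Away c ⊗[R] M) :=
  Module.Free.of_equiv ((IsLocalizedModule.isBaseChange (Submonoid.powers c) (Localization.Away c)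
    (LocalizedModule.mkLinearMap (Submonoid.powers c) M)).equiv).symm

/-- Injectivity on the generic fibre spreads out if the modules are free near the generic point. -/
theorem lTensor_injective_near [IsDomain R] (c : R) (hc : c ≠ 0) {M N Q : Type u} [AddCommGroup M] [Module R M]
    [AddCommGroup N] [Module R N] [AddCommGroup Q] [Module R Q] (f : M →ₗ[R] N) (π : N →ₗ[R] Q)
    (hex : Function.Exact f π) (hπ : Function.Surjective π)
    [Module.Free (Localization.Away c) (Localization.Away c ⊗[R] M)] [Module.Flat (Localization.Away c) (Localization.Away c ⊗[R] Q)]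
    (L₀ : Type u) [Field L₀] [Algebra R L₀] (hL₀ : Function.Injective (algebraMap R L₀)) (h : Function.Injective (f.lTensor L₀))
    (L : Type u) [Field L] [Algebra R L] (hL : algebraMap R L c ≠ 0) : Function.Injective (f.lTensor L) := by
  haveI : IsDomain (Localization.Away c) :=
    IsLocalization.isDomain_localization (powers_le_nonZeroDivisors_of_noZeroDivisors hc)
  obtain ⟨_, _⟩ := exists_algebra_away L c hL
  obtain ⟨_, _⟩ := exists_algebra_away L₀ c (fun h => hc (hL₀ (h.trans (map_zero _).symm)))
  have hinj₀ : Function.Injective (algebraMap (Localization.Away c) L₀) := by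
    refine (injective_iff_map_eq_zero _).mpr fun x hx => ?_
    obtain ⟨⟨r, s⟩, hrs⟩ := IsLocalization.surj (Submonoid.powers c) x
    have : algebraMap R L₀ r = 0 := by
      rw [IsScalarTower.algebraMap_apply R (Localization.Away c) L₀, ← hrs, map_mul, hx, zero_mul]
    rw [hL₀ (this.trans (map_zero _).symm), map_zero] at hrs
    exact (IsLocalization.map_units _ s).mul_left_eq_zero.mp hrs
  let F := f.baseChange (Localization.Away c)
  have hF : Function.Injective F := by
    have h1 := lTensor_baseChange_injective (Localization.Away c) L₀ f h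
    have hi : Function.Injective (TensorProduct.mk (Localization.Away c) L₀ (Localization.Away c ⊗[R] M) 1) := by
      have he : ⇑(TensorProduct.mk (Localization.Away c) L₀ (Localization.Away c ⊗[R] M) 1) =
          ((Algebra.linearMap (Localization.Away c) L₀).rTensor (Localization.Away c ⊗[R] M)) ∘
            (TensorProduct.lid (Localization.Away c) (Localization.Away c ⊗[R] M)).symm := by
        funext x
        simp
      rw [he]
      exact (Module.Flat.rTensor_preserves_injective_linearMap _ hinj₀).comp (LinearEquiv.injective _)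
    intro x y hxy
    exact hi (h1 (by simp only [TensorProduct.mk_apply, LinearMap.lTensor_tmul]; exact congrArg _ hxy))
  exact lTensor_injective_of_baseChange (Localization.Away c) L f
    (LinearMap.lTensor_injective_of_exact_of_flat (π.baseChange (Localization.Away c))
      (fun x => by
        obtain ⟨y, hy⟩ := LinearMap.lTensor_surjective (Localization.Away c) hπ x
        exact ⟨y, by rw [← hy]; rfl⟩)
      F hF (fun x => (lTensor_exact (Localization.Away c) hex hπ) x) L)

end basic

variable {R S : Type u} [CommRing R] [IsDomain R] [CommRing S] [Algebra R S] [Algebra.FiniteType R S]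

/-- A nonzerodivisor of the generic fibre is a nonzerodivisor of the fibres near it. -/
theorem exists_nzd_near (L₀ : Type u) [Field L₀] [Algebra R L₀] (hL₀ : Function.Injective (algebraMap R L₀)) (g : S)
    (hg : ((1 : L₀) ⊗ₜ[R] g : L₀ ⊗[R] S) ∈ nonZeroDivisors (L₀ ⊗[R] S)) :
    ∃ c : R, c ≠ 0 ∧ ∀ (L : Type u) [Field L] [Algebra R L], algebraMap R L c ≠ 0 →
      ((1 : L) ⊗ₜ[R] g : L ⊗[R] S) ∈ nonZeroDivisors (L ⊗[R] S) := by
  obtain ⟨c, hc, hT, hS, -, -⟩ := Groth.Agent.GenFreeRed.exists_isGood R S (S ⧸ Ideal.span {g}) 1 one_ne_zero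
  rw [one_mul] at hc hT hS
  refine ⟨c, hc, fun L _ _ hL => ?_⟩
  haveI := hT; haveI := hS
  haveI := free_baseChange c S
  haveI := free_baseChange c (S ⧸ Ideal.span {g})
  have key : ∀ (L : Type u) [Field L] [Algebra R L] (z : L ⊗[R] S),
      (LinearMap.mulRight R g).lTensor L z = z * ((1 : L) ⊗ₜ[R] g) := fun L _ _ z => by
    induction z with
    | zero => simp
    | tmul a b => simp
    | add a b ha hb => rw [map_add, ha, hb, add_mul]
  have hi₀ : Function.Injective ((LinearMap.mulRight R g).lTensor L₀) := by
    rw [injective_iff_map_eq_zero]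
    intro z hz
    exact (mem_nonZeroDivisors_iff_right.mp hg) z (by rw [← key]; exact hz)
  have hi := lTensor_injective_near c hc (LinearMap.mulRight R g) (Ideal.Quotient.mkₐ R (Ideal.span {g})).toLinearMap
    (fun z => by
      show Ideal.Quotient.mk (Ideal.span {g}) z = 0 ↔ _
      rw [Ideal.Quotient.eq_zero_iff_mem, Ideal.mem_span_singleton']
      exact Iff.rfl)
    Ideal.Quotient.mk_surjective L₀ hL₀ hi₀ L hL
  exact mem_nonZeroDivisors_iff_right.mpr fun z hz => hi (by rw [map_zero, key, hz])

/-- An element nonzero in the generic fibre is nonzero in the fibres near it. -/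
theorem exists_ne_zero_near (L₀ : Type u) [Field L₀] [Algebra R L₀] (hL₀ : Function.Injective (algebraMap R L₀)) (g : S)
    (hg : ((1 : L₀) ⊗ₜ[R] g : L₀ ⊗[R] S) ≠ 0) :
    ∃ c : R, c ≠ 0 ∧ ∀ (L : Type u) [Field L] [Algebra R L], algebraMap R L c ≠ 0 →
      ((1 : L) ⊗ₜ[R] g : L ⊗[R] S) ≠ 0 := by
  obtain ⟨c, hc, hT, hS, -, -⟩ := Groth.Agent.GenFreeRed.exists_isGood R S (S ⧸ Ideal.span {g}) 1 one_ne_zero
  obtain ⟨d, hd, hM, -, -, -⟩ := Groth.Agent.GenFreeRed.exists_isGood R S (Ideal.span {g}) c (by simpa using hc)
  refine ⟨c * d, hd, fun L _ _ hL h0 => ?_⟩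
  haveI := hM
  haveI := free_baseChange (c * d) (Ideal.span {g})
  haveI : Module.Flat (Localization.Away (c * d)) (Localization.Away (c * d) ⊗[R] (S ⧸ Ideal.span {g})) := by
    rw [one_mul] at hT hc
    haveI := hT
    haveI := free_baseChange c (S ⧸ Ideal.span {g})
    have hu : IsUnit (algebraMap R (Localization.Away (c * d)) c) :=
      isUnit_of_mul_isUnit_left (by rw [← map_mul]; exact IsLocalization.Away.algebraMap_isUnit (c * d))
    letI := (IsLocalization.Away.lift (S := Localization.Away c) c hu).toAlgebra
    haveI : IsScalarTower R (Localization.Away c) (Localization.Away (c * d)) :=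
      IsScalarTower.of_algebraMap_eq fun x => (IsLocalization.Away.lift_eq c hu x).symm
    exact Module.Flat.of_linearEquiv
      (AlgebraTensorModule.cancelBaseChange R (Localization.Away c) (Localization.Away (c * d)) (Localization.Away (c * d))
        (S ⧸ Ideal.span {g})).symm
  obtain ⟨_, _⟩ := exists_algebra_away L₀ (c * d) (fun h => hd (hL₀ (h.trans (map_zero _).symm)))
  let ι : Ideal.span {g} →ₗ[R] S := (Submodule.subtype (Ideal.span {g})).restrictScalars R
  have hi₀ : Function.Injective (ι.lTensor L₀) → Function.Injective (ι.lTensor L) := fun h =>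
    lTensor_injective_near (c * d) hd ι (Ideal.Quotient.mkₐ R (Ideal.span {g})).toLinearMap
      (fun z => by
        show Ideal.Quotient.mk (Ideal.span {g}) z = 0 ↔ _
        rw [Ideal.Quotient.eq_zero_iff_mem]
        exact ⟨fun hz => ⟨⟨z, hz⟩, rfl⟩, fun ⟨w, hw⟩ => hw ▸ w.2⟩)
      Ideal.Quotient.mk_surjective L₀ hL₀ h L hL
  have hflat₀ : Function.Injective (ι.lTensor L₀) := by
    refine lTensor_injective_of_baseChange (Localization.Away (c * d)) L₀ ι
      (LinearMap.lTensor_injective_of_exact_of_flat
        ((Ideal.Quotient.mkₐ R (Ideal.span {g})).toLinearMap.baseChange (Localization.Away (c * d))) (fun x => ?_) _ ?_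
        (fun x => ?_) L₀)
    · obtain ⟨y, hy⟩ := LinearMap.lTensor_surjective (Localization.Away (c * d))
        (g := (Ideal.Quotient.mkₐ R (Ideal.span {g})).toLinearMap) Ideal.Quotient.mk_surjective x
      exact ⟨y, by rw [← hy]; rfl⟩
    · exact Module.Flat.lTensor_preserves_injective_linearMap (M := Localization.Away (c * d)) ι Subtype.val_injective
    · exact lTensor_exact (Localization.Away (c * d)) (f := ι) (g := (Ideal.Quotient.mkₐ R (Ideal.span {g})).toLinearMap)
        (fun z => by
          show Ideal.Quotient.mk (Ideal.span {g}) z = 0 ↔ _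
          rw [Ideal.Quotient.eq_zero_iff_mem]
          exact ⟨fun hz => ⟨⟨z, hz⟩, rfl⟩, fun ⟨w, hw⟩ => hw ▸ w.2⟩) Ideal.Quotient.mk_surjective x
  have hinj := hi₀ hflat₀
  haveI : Nontrivial (Localization.Away (c * d) ⊗[R] Ideal.span {g}) := by
    by_contra hn
    rw [not_nontrivial_iff_subsingleton] at hn
    refine hg ?_
    have h1 : ((1 : L₀) ⊗ₜ[R] (⟨g, Ideal.mem_span_singleton_self g⟩ : Ideal.span {g})) = 0 := by
      refine (AlgebraTensorModule.cancelBaseChange R (Localization.Away (c * d)) L₀ L₀ (Ideal.span {g})).symm.injective ?_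
      rw [map_zero]
      simp [Subsingleton.elim ((1 : Localization.Away (c * d)) ⊗ₜ[R] (⟨g, Ideal.mem_span_singleton_self g⟩ : Ideal.span {g})) 0]
    simpa [ι] using congrArg (ι.lTensor L₀) h1
  obtain ⟨_, _⟩ := exists_algebra_away L (c * d) hL
  haveI : Nontrivial (L ⊗[Localization.Away (c * d)] (Localization.Away (c * d) ⊗[R] Ideal.span {g})) :=
    Module.FaithfullyFlat.nontrivial_tensorProduct_iff_left _ _ |>.mpr inferInstance
  haveI : Nontrivial (L ⊗[R] Ideal.span {g}) :=
    (AlgebraTensorModule.cancelBaseChange R (Localization.Away (c * d)) L L (Ideal.span {g})).symm.toEquiv.nontrivial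
  obtain ⟨z, hz⟩ := exists_ne (0 : L ⊗[R] Ideal.span {g})
  refine hz (hinj ?_)
  rw [map_zero]
  clear hz
  induction z with
  | zero => simp
  | tmul l s =>
    obtain ⟨t, ht⟩ := Ideal.mem_span_singleton'.mp s.2
    show l ⊗ₜ[R] (s : S) = 0
    rw [← ht, show l ⊗ₜ[R] (t * g) = (l ⊗ₜ[R] t) * ((1 : L) ⊗ₜ[R] g) by rw [Algebra.TensorProduct.tmul_mul_tmul, mul_one],
      h0, mul_zero]
  | add a b ha hb => rw [map_add, ha, hb, add_zero]

end Groth.Agent.FlatMisc.SpreadRed
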