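import Mathlib
import Groth.Agent.FlatMisc.SpreadRed
import Groth.Agent.FlatLoc6.BaseChangeHom

/-!
# Spreading out smoothness and geometric reducedness from the generic fibre
-/

universe u
set_option autoImplicit false
open TensorProduct

namespace Groth.Agent.FlatMisc.SpreadRed

theorem smooth_isGeometricallyReduced (k A : Type u) [Field k] [CommRing A] [Algebra k A] [Algebra.Smooth k A] :
    Algebra.IsGeometricallyReduced k A := by
  rw [Algebra.isGeometricallyReduced_field_iff]
  exact Groth.Agent.S9407.result (AlgebraicClosure k) (AlgebraicClosure k ⊗[k] A)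

/-- A geometrically reduced algebra of finite type over a field is smooth away from the zero set of a nonzerodivisor. -/
theorem exists_smooth_nzd (k A : Type u) [Field k] [CommRing A] [Algebra k A] [Algebra.FiniteType k A]
    [Algebra.IsGeometricallyReduced k A] :
    ∃ g ∈ nonZeroDivisors A, Algebra.Smooth k (Localization.Away g) := by
  haveI : IsNoetherianRing A := Algebra.FiniteType.isNoetherianRing k A
  haveI : Algebra.FinitePresentation k A := Algebra.FinitePresentation.of_finiteType.mp inferInstance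
  haveI : _root_.IsReduced A := Algebra.isReduced_of_isGeometricallyReduced k
  obtain ⟨J, hJ⟩ := (PrimeSpectrum.isClosed_iff_zeroLocus_ideal _).mp
    (Algebra.isOpen_smoothLocus (R := k) (A := A)).isClosed_compl
  have hmin : ∀ P ∈ minimalPrimes A, ¬ J ≤ P := by
    intro P hP hle
    haveI : P.IsPrime := hP.1.1
    let L := Localization.AtPrime P
    haveI : _root_.IsReduced L := inferInstance
    haveI : Ring.KrullDimLE 0 L := Ring.KrullDimLE.of_isLocalization P hP L
    haveI : Algebra.IsGeometricallyReduced k L := Groth.Agent.GeomField.gr_localization A L P.primeCompl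
    letI : Field L := (Ring.KrullDimLE.isField_of_isReduced (R := L)).toField
    haveI h := Groth.Agent.EGA41Lib.FieldFS.formallySmooth_of_isGeometricallyReduced k L
    have hmem : (⟨P, inferInstance⟩ : PrimeSpectrum A) ∈ (Algebra.smoothLocus k A)ᶜ := by
      rw [hJ]; exact hle
    exact hmem h
  obtain ⟨g, hgJ, hgP⟩ : ∃ g ∈ J, ∀ P ∈ minimalPrimes A, g ∉ P := by
    by_contra hn
    push Not at hn
    obtain ⟨P, hP, hle⟩ := (J.subset_union_prime_finite (minimalPrimes.finite_of_isNoetherianRing A) (f := id) ⊥ ⊥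
      fun P hP _ _ => hP.1.1).1 (fun g hg => by
        obtain ⟨P, hP, hgP⟩ := hn g hg
        exact Set.mem_biUnion hP hgP)
    exact hmin P hP hle
  refine ⟨g, mem_nonZeroDivisors_iff_right.mpr fun x hx => ?_, ?_⟩
  · have : x ∈ nilradical A := by
      rw [nilradical_eq_sInf, Ideal.mem_sInf]
      intro Q hQ
      haveI : Q.IsPrime := hQ
      obtain ⟨P, hP, hPQ⟩ := Ideal.exists_minimalPrimes_le (I := (⊥ : Ideal A)) (J := Q) bot_le
      exact hPQ ((hP.1.1.mem_or_mem (show x * g ∈ P by rw [hx]; exact zero_mem _)).resolve_right (hgP P hP))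
    simpa [nilradical_eq_zero] using this
  · rw [← Algebra.basicOpen_subset_smoothLocus_iff_smooth]
    intro Q hQ
    by_contra hn
    have : Q ∈ PrimeSpectrum.zeroLocus (J : Set A) := hJ ▸ hn
    exact hQ (this hgJ)

theorem smooth_generic_fiber {A T : Type u} [CommRing A] [IsDomain A] [CommRing T] [Algebra A T] (L : Type u) [Field L]
    [Algebra A L] (hL : RingHom.ker (algebraMap A L) = ⊥) [Algebra.Smooth L (L ⊗[A] T)] :
    Algebra.Smooth (⊥ : Ideal A).ResidueField ((⊥ : Ideal A).Fiber T) := by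
  obtain ⟨_, _⟩ := Groth.Agent.FlatLoc6.exists_residueAlgebra (L := L) (⊥ : Ideal A) hL
  haveI : Algebra.Smooth L (L ⊗[(⊥ : Ideal A).ResidueField] (⊥ : Ideal A).Fiber T) :=
    Algebra.Smooth.of_equiv (Algebra.TensorProduct.cancelBaseChange A (⊥ : Ideal A).ResidueField L L T).symm
  exact Algebra.Smooth.of_smooth_tensorProduct_of_faithfullyFlat L

variable {R S : Type u} [CommRing R] [IsDomain R] [CommRing S] [Algebra R S] [Algebra.FiniteType R S]

/-- Smoothness of the generic fibre spreads out. -/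
theorem exists_smooth_near (L₀ : Type u) [Field L₀] [Algebra R L₀] (hL₀ : Function.Injective (algebraMap R L₀))
    [Algebra.Smooth L₀ (L₀ ⊗[R] S)] :
    ∃ c : R, c ≠ 0 ∧ ∀ (L : Type u) [Field L] [Algebra R L], algebraMap R L c ≠ 0 → Algebra.Smooth L (L ⊗[R] S) := by
  obtain ⟨c, hc, -, hS, hfp, -⟩ := Groth.Agent.GenFreeRed.exists_isGood R S S 1 one_ne_zero
  rw [one_mul] at hc hS hfp
  haveI := hS
  let Rc := Localization.Away c
  haveI : IsDomain Rc := IsLocalization.isDomain_localization (powers_le_nonZeroDivisors_of_noZeroDivisors hc)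
  let T := Rc ⊗[R] S
  haveI : Module.Free Rc T := free_baseChange c S
  haveI : Algebra.FinitePresentation Rc T := by
    letI := (Localization.awayMap (algebraMap R S) c).toAlgebra
    haveI : IsScalarTower R Rc (Localization.Away (algebraMap R S c)) :=
      IsScalarTower.of_algebraMap_eq (fun x => by
        change _ = Localization.awayMap (algebraMap R S) c (algebraMap R _ x)
        rw [Localization.awayMap, IsLocalization.Away.map, IsLocalization.map_eq]
        exact IsScalarTower.algebraMap_apply R S (Localization.Away (algebraMap R S c)) x)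
    haveI : IsLocalization (Algebra.algebraMapSubmonoid S (Submonoid.powers c)) (Localization.Away (algebraMap R S c)) := by
      rw [show Algebra.algebraMapSubmonoid S (Submonoid.powers c) = Submonoid.powers (algebraMap R S c) from Submonoid.map_powers _ c]
      infer_instance
    haveI : Algebra.IsPushout R Rc S (Localization.Away (algebraMap R S c)) :=
      (Algebra.isPushout_of_isLocalization (Submonoid.powers c) _ S _).symm
    haveI : Algebra.FinitePresentation Rc (Localization.Away (algebraMap R S c)) := hfp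
    exact Algebra.FinitePresentation.equiv (Algebra.IsPushout.equiv R Rc S (Localization.Away (algebraMap R S c))).symm
  obtain ⟨_, _⟩ := exists_algebra_away L₀ c (fun h => hc (hL₀ (h.trans (map_zero _).symm)))
  haveI : Algebra.Smooth L₀ (L₀ ⊗[Rc] T) :=
    Algebra.Smooth.of_equiv (Algebra.TensorProduct.cancelBaseChange R Rc L₀ L₀ S).symm
  have hinj₀ : RingHom.ker (algebraMap Rc L₀) = ⊥ := by
    refine eq_bot_iff.mpr fun x hx => ?_
    obtain ⟨⟨r, s⟩, hrs⟩ := IsLocalization.surj (Submonoid.powers c) x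
    have : algebraMap R L₀ r = 0 := by
      rw [IsScalarTower.algebraMap_apply R Rc L₀, ← hrs, map_mul, RingHom.mem_ker.mp hx, zero_mul]
    rw [hL₀ (this.trans (map_zero _).symm), map_zero] at hrs
    exact (IsLocalization.map_units _ s).mul_left_eq_zero.mp hrs
  haveI hsm := smooth_generic_fiber (A := Rc) (T := T) L₀ hinj₀
  obtain ⟨J, hJ⟩ := (PrimeSpectrum.isClosed_iff_zeroLocus_ideal _).mp
    (Algebra.isOpen_smoothLocus (R := Rc) (A := T)).isClosed_compl
  obtain ⟨d, hd, hdJ⟩ : ∃ d : Rc, d ≠ 0 ∧ algebraMap Rc T d ∈ J := by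
    by_contra hn
    push Not at hn
    obtain ⟨P, hP, hJP, hdis⟩ := J.exists_le_prime_disjoint ((nonZeroDivisors Rc).map (algebraMap Rc T)) (by
      rw [Set.disjoint_right]
      rintro _ ⟨d, hd, rfl⟩
      exact hn d (nonZeroDivisors.ne_zero hd))
    haveI := hP
    haveI : P.LiesOver (⊥ : Ideal Rc) := ⟨(eq_bot_iff.mpr fun x hx => by
      by_contra hx0
      exact Set.disjoint_left.mp hdis hx ⟨x, mem_nonZeroDivisors_of_ne_zero hx0, rfl⟩).symm⟩
    have hmem : (⟨P, hP⟩ : PrimeSpectrum T) ∈ (Algebra.smoothLocus Rc T)ᶜ := by rw [hJ]; exact hJP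
    exact hmem (Algebra.IsSmoothAt.of_formallySmooth_fiber (⊥ : Ideal Rc) P)
  haveI hTd : Algebra.Smooth Rc (Localization.Away (algebraMap Rc T d)) := by
    rw [← Algebra.basicOpen_subset_smoothLocus_iff_smooth]
    intro Q hQ
    by_contra hn
    have : Q ∈ PrimeSpectrum.zeroLocus (J : Set T) := hJ ▸ hn
    exact hQ (this hdJ)
  obtain ⟨⟨r, s⟩, hrs⟩ := IsLocalization.surj (Submonoid.powers c) d
  have hr : r ≠ 0 := by
    intro h
    rw [h, map_zero] at hrs
    exact hd ((IsLocalization.map_units _ s).mul_left_eq_zero.mp hrs)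
  refine ⟨c * r, mul_ne_zero hc hr, fun L _ _ hL => ?_⟩
  rw [map_mul] at hL
  obtain ⟨_, _⟩ := exists_algebra_away L c (left_ne_zero_of_mul hL)
  have hdL : algebraMap Rc L d ≠ 0 := fun h0 => right_ne_zero_of_mul hL (by
    rw [IsScalarTower.algebraMap_apply R Rc L, ← hrs, map_mul, h0, zero_mul])
  let U := Localization.Away (algebraMap Rc T d)
  letI : CommRing (L ⊗[Rc] T) := inferInstance
  letI : Algebra L (L ⊗[Rc] T) := inferInstance
  have hu : IsUnit ((1 : L) ⊗ₜ[Rc] algebraMap Rc T d : L ⊗[Rc] T) := by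
    rw [← Algebra.TensorProduct.tmul_one_eq_one_tmul]
    have h1 := (IsUnit.mk0 _ hdL).map (algebraMap L (L ⊗[Rc] T))
    rwa [Algebra.TensorProduct.algebraMap_apply, Algebra.algebraMap_self_apply] at h1
  let fwd : L ⊗[Rc] T →ₐ[L] L ⊗[Rc] U := Algebra.TensorProduct.map (AlgHom.id L L) (IsScalarTower.toAlgHom Rc T U)
  have hpow : ∀ y : Submonoid.powers (algebraMap Rc T d),
      IsUnit ((Algebra.TensorProduct.includeRight : T →ₐ[Rc] L ⊗[Rc] T) y) := by
    rintro ⟨_, n, rfl⟩
    rw [map_pow]
    exact hu.pow n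
  let back₀ : U →ₐ[Rc] L ⊗[Rc] T :=
    IsLocalization.liftAlgHom (M := Submonoid.powers (algebraMap Rc T d)) (A := Rc) (S := U) (P := L ⊗[Rc] T)
      (f := Algebra.TensorProduct.includeRight) hpow
  let back : L ⊗[Rc] U →ₐ[L] L ⊗[Rc] T := Algebra.TensorProduct.lift (Algebra.ofId L _) back₀ (fun _ _ => mul_comm _ _)
  have hb₀ : ∀ t : T, back₀ (algebraMap T U t) = (1 : L) ⊗ₜ[Rc] t := fun t => IsLocalization.lift_eq hpow t
  haveI : Algebra.Smooth L (L ⊗[Rc] T) := by
    refine Algebra.Smooth.of_equiv (A := L ⊗[Rc] U) (AlgEquiv.ofAlgHom back fwd ?_ ?_)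
    · refine Algebra.TensorProduct.ext (AlgHom.ext fun l => ?_) (AlgHom.ext fun t => ?_)
      · simp [fwd, back]
      · simp [fwd, back, hb₀]
    · refine Algebra.TensorProduct.ext (AlgHom.ext fun l => ?_) ?_
      · simp [fwd, back]
      · refine IsLocalization.algHom_ext (Submonoid.powers (algebraMap Rc T d)) (AlgHom.ext fun t => ?_)
        show fwd (back ((1 : L) ⊗ₜ[Rc] algebraMap T U t)) = (1 : L) ⊗ₜ[Rc] algebraMap T U t
        rw [show back ((1 : L) ⊗ₜ[Rc] algebraMap T U t) = (1 : L) ⊗ₜ[Rc] t by simp [back, hb₀]]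
        rfl
  exact Algebra.Smooth.of_equiv (Algebra.TensorProduct.cancelBaseChange R Rc L L S)

end Groth.Agent.FlatMisc.SpreadRed
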