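import Mathlib
import Groth.Agent.FlatMisc.SpreadSmooth

/-!
# Reducedness and geometric reducedness of fibres near the generic fibre
-/

universe u
set_option autoImplicit false
open TensorProduct

namespace Groth.Agent.FlatMisc.SpreadRed

/-- An algebra which is smooth away from the zero set of a nonzerodivisor is reduced. -/
theorem isReduced_of_smooth_nzd {L A : Type u} [Field L] [CommRing A] [Algebra L A] (g : A) (hg : g ∈ nonZeroDivisors A)
    [Algebra.Smooth L (Localization.Away g)] : _root_.IsReduced A := by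
  haveI : _root_.IsReduced (Localization.Away g) := Groth.Agent.S9407.result L (Localization.Away g)
  exact isReduced_of_injective (algebraMap A (Localization.Away g))
    (IsLocalization.injective (Localization.Away g) (Submonoid.powers_le.mpr hg))

theorem map_injective_of_fields {A : Type u} [CommRing A] (K L M : Type u) [Field K] [Field L] [CommRing M] [Algebra A K]
    [Algebra A L] [Algebra K L] [IsScalarTower A K L] [Algebra A M] :
    Function.Injective (Algebra.TensorProduct.map (IsScalarTower.toAlgHom A K L) (AlgHom.id A M)) := by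
  have : Algebra.TensorProduct.map (IsScalarTower.toAlgHom A K L) (AlgHom.id A M) =
      ((Algebra.TensorProduct.cancelBaseChange A K L L M).toAlgHom.restrictScalars A).comp
        ((Algebra.TensorProduct.includeRight : K ⊗[A] M →ₐ[K] L ⊗[K] (K ⊗[A] M)).restrictScalars A) := by
    refine Algebra.TensorProduct.ext (AlgHom.ext fun x => ?_) (AlgHom.ext fun x => ?_)
    · simp [Algebra.smul_def]
    · simp
  rw [this]
  have h2 : Function.Injective (Algebra.TensorProduct.includeRight : K ⊗[A] M →ₐ[K] L ⊗[K] (K ⊗[A] M)) :=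
    Algebra.TensorProduct.includeRight_injective (algebraMap K L).injective
  exact (Algebra.TensorProduct.cancelBaseChange A K L L M).injective.comp h2

theorem eq_zero_of_isNilpotent {A : Type u} [CommRing A] (K L M : Type u) [Field K] [Field L] [CommRing M] [Algebra A K]
    [Algebra A L] [Algebra K L] [IsScalarTower A K L] [Algebra A M] [hred : _root_.IsReduced (K ⊗[A] M)] (w : M)
    (h : IsNilpotent ((1 : L) ⊗ₜ[A] w)) : (1 : L) ⊗ₜ[A] w = 0 := by
  have he : Algebra.TensorProduct.map (IsScalarTower.toAlgHom A K L) (AlgHom.id A M) ((1 : K) ⊗ₜ[A] w) = (1 : L) ⊗ₜ[A] w := by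
    simp only [Algebra.TensorProduct.map_tmul, map_one, AlgHom.coe_id, id_eq]
  rw [← he] at h ⊢
  rw [hred.eq_zero _ ((IsNilpotent.map_iff (map_injective_of_fields K L M)).mp h), map_zero]

variable {R S : Type u} [CommRing R] [IsDomain R] [CommRing S] [Algebra R S] [Algebra.FiniteType R S]
variable (K : Type u) [Field K] [Algebra R K] [IsFractionRing R K]

theorem exists_smul_eq_one_tmul (z : K ⊗[R] S) : ∃ (r : R) (g : S), r ≠ 0 ∧ r • z = (1 : K) ⊗ₜ[R] g := by
  obtain ⟨⟨g, r⟩, h⟩ := IsLocalizedModule.surj (nonZeroDivisors R) (TensorProduct.mk R K S 1) z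
  exact ⟨r, g, nonZeroDivisors.ne_zero r.2, h⟩

theorem isUnit_algebraMap_tmul {r : R} (hr : r ≠ 0) : IsUnit (algebraMap R (K ⊗[R] S) r) := by
  rw [IsScalarTower.algebraMap_apply R K (K ⊗[R] S)]
  exact (IsUnit.mk0 _ fun h => hr (IsFractionRing.injective R K (h.trans (map_zero _).symm))).map _

theorem exists_smul_eq_zero {g : S} (h : ((1 : K) ⊗ₜ[R] g : K ⊗[R] S) = 0) : ∃ r : R, r ≠ 0 ∧ r • g = 0 := by
  obtain ⟨r, hr⟩ := (IsLocalizedModule.eq_zero_iff (nonZeroDivisors R) (TensorProduct.mk R K S 1) (m := g)).mp h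
  exact ⟨r, nonZeroDivisors.ne_zero r.2, hr⟩

/-- Fields over which the fibre is reduced near a geometrically reduced generic fibre. -/
theorem exists_reduced_near [Algebra.IsGeometricallyReduced K (K ⊗[R] S)] :
    ∃ c : R, c ≠ 0 ∧ ∀ (L : Type u) [Field L] [Algebra R L], algebraMap R L c ≠ 0 →
      _root_.IsReduced (L ⊗[R] S) := by
  obtain ⟨z, hz, hzs⟩ := exists_smooth_nzd K (K ⊗[R] S)
  obtain ⟨r, g, hr, hrg⟩ := exists_smul_eq_one_tmul K z
  rw [Algebra.smul_def] at hrg
  have hg : ((1 : K) ⊗ₜ[R] g : K ⊗[R] S) ∈ nonZeroDivisors (K ⊗[R] S) :=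
    hrg ▸ mul_mem (isUnit_algebraMap_tmul K hr).mem_nonZeroDivisors hz
  haveI : Algebra.FinitePresentation K (K ⊗[R] S) := Algebra.FinitePresentation.of_finiteType.mp inferInstance
  haveI hgs : Algebra.Smooth K (Localization.Away ((1 : K) ⊗ₜ[R] g : K ⊗[R] S)) := by
    rw [← Algebra.basicOpen_subset_smoothLocus_iff_smooth (R := K)] at hzs ⊢
    refine subset_trans ?_ hzs
    intro Q hQ hzQ
    exact hQ (hrg ▸ Q.asIdeal.mul_mem_left _ hzQ)
  haveI : Algebra.Smooth K (K ⊗[R] Localization.Away g) :=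
    Algebra.Smooth.of_equiv (IsLocalization.Away.tensorProductEquivTMulRight R K g (Localization.Away g)).symm
  obtain ⟨c₁, hc₁, h₁⟩ := exists_nzd_near K (IsFractionRing.injective R K) g hg
  obtain ⟨c₂, hc₂, h₂⟩ := exists_smooth_near (S := Localization.Away g) K (IsFractionRing.injective R K)
  refine ⟨c₁ * c₂, mul_ne_zero hc₁ hc₂, fun L _ _ hL => ?_⟩
  rw [map_mul] at hL
  haveI := h₂ L (right_ne_zero_of_mul hL)
  haveI : Algebra.Smooth L (Localization.Away ((1 : L) ⊗ₜ[R] g : L ⊗[R] S)) :=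
    Algebra.Smooth.of_equiv (R := L) (A := L ⊗[R] Localization.Away g)
      (IsLocalization.Away.tensorProductEquivTMulRight R L g (Localization.Away g))
  exact isReduced_of_smooth_nzd (L := L) _ (h₁ L (left_ne_zero_of_mul hL))

/-- A non-reduced generic fibre makes the fibres near it non-reduced. -/
theorem exists_not_reduced_near (h : ¬ _root_.IsReduced (K ⊗[R] S)) :
    ∃ c : R, c ≠ 0 ∧ ∀ (L : Type u) [Field L] [Algebra R L], algebraMap R L c ≠ 0 →
      ¬ _root_.IsReduced (L ⊗[R] S) := by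
  obtain ⟨z, ⟨n, hn⟩, hz⟩ : ∃ z : K ⊗[R] S, IsNilpotent z ∧ z ≠ 0 := by
    by_contra hne
    push Not at hne
    exact h ⟨hne⟩
  obtain ⟨r, g, hr, hrg⟩ := exists_smul_eq_one_tmul K z
  have hg : ((1 : K) ⊗ₜ[R] g : K ⊗[R] S) ≠ 0 := by
    rw [← hrg, Algebra.smul_def]
    exact fun h0 => hz ((isUnit_algebraMap_tmul K hr).mul_right_eq_zero.mp h0)
  have hgn : ((1 : K) ⊗ₜ[R] (g ^ (n + 1)) : K ⊗[R] S) = 0 := by
    rw [show ((1 : K) ⊗ₜ[R] (g ^ (n + 1)) : K ⊗[R] S) = ((1 : K) ⊗ₜ[R] g) ^ (n + 1) by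
      rw [Algebra.TensorProduct.tmul_pow, one_pow], ← hrg, smul_pow, pow_succ z, hn, zero_mul, smul_zero]
  obtain ⟨s, hs, hsg⟩ := exists_smul_eq_zero K hgn
  have hne : ((1 : K) ⊗ₜ[R] (s • g) : K ⊗[R] S) ≠ 0 := by
    rw [tmul_smul, Algebra.smul_def]
    exact fun h0 => hg ((isUnit_algebraMap_tmul K hs).mul_right_eq_zero.mp h0)
  have hnil : (s • g) ^ (n + 1) = 0 := by
    rw [smul_pow, pow_succ s, mul_smul, hsg, smul_zero]
  obtain ⟨c, hc, hc'⟩ := exists_ne_zero_near K (IsFractionRing.injective R K) (s • g) hne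
  refine ⟨c, hc, fun L _ _ hL hred => hc' L hL ?_⟩
  exact IsReduced.eq_zero _ ⟨n + 1, by rw [Algebra.TensorProduct.tmul_pow, one_pow, hnil, tmul_zero]⟩


/-- A generic fibre which is not geometrically reduced makes the fibres near it not geometrically reduced. -/
theorem exists_not_geomReduced_near (L₀ : Type u) [Field L₀] [Algebra R L₀] (hL₀ : Function.Injective (algebraMap R L₀))
    (h : ¬ _root_.IsReduced (L₀ ⊗[R] S)) :
    ∃ c : R, c ≠ 0 ∧ ∀ (L : Type u) [Field L] [Algebra R L], algebraMap R L c ≠ 0 →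
      ∃ (L' : Type u) (_ : Field L') (_ : Algebra L L') (_ : Algebra R L') (_ : IsScalarTower R L L'),
        ¬ _root_.IsReduced (L' ⊗[R] S) := by
  classical
  obtain ⟨z, hzn, hz⟩ : ∃ z : L₀ ⊗[R] S, IsNilpotent z ∧ z ≠ 0 := by
    by_contra hne
    push Not at hne
    exact h ⟨hne⟩
  obtain ⟨F, hF⟩ := TensorProduct.exists_finset z
  let R' := Algebra.adjoin R (↑(F.image Prod.fst) : Set L₀)
  haveI : Algebra.FiniteType R R' := (Subalgebra.fg_iff_finiteType _).mp (Subalgebra.fg_adjoin_finset _)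
  let S' := R' ⊗[R] S
  haveI : Algebra.FiniteType R' S' := inferInstance
  let z' : S' := ∑ p ∈ F.attach, (⟨p.1.1, Algebra.subset_adjoin (by simpa using ⟨_, p.2⟩)⟩ : R') ⊗ₜ[R] p.1.2
  let e := Algebra.TensorProduct.cancelBaseChange R R' L₀ L₀ S
  have he : e ((1 : L₀) ⊗ₜ[R'] z') = z := by
    rw [hF, ← Finset.sum_attach F, TensorProduct.tmul_sum, map_sum]
    refine Finset.sum_congr rfl fun p _ => ?_
    simp [e, Algebra.smul_def]
  let K' := FractionRing R'
  letI : Algebra K' L₀ := (IsFractionRing.lift (g := algebraMap R' L₀) Subtype.val_injective).toAlgebra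
  haveI : IsScalarTower R' K' L₀ :=
    IsScalarTower.of_algebraMap_eq fun x => (IsFractionRing.lift_algebraMap _ x).symm
  have hnr : ¬ _root_.IsReduced (K' ⊗[R'] S') := by
    intro hred
    haveI := hred
    apply hz
    rw [← he, eq_zero_of_isNilpotent K' L₀ S' z' ((IsNilpotent.map_iff e.injective).mp (by rw [he]; exact hzn)), map_zero]
  obtain ⟨c', hc', hgood⟩ := exists_not_reduced_near K' hnr
  let Q := Localization.Away c'
  haveI : Algebra.FiniteType R' Q := by
    haveI : Algebra.FinitePresentation R' Q := IsLocalization.Away.finitePresentation c'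
    infer_instance
  haveI : Algebra.FiniteType R Q := Algebra.FiniteType.trans (S := R') inferInstance inferInstance
  have h1 : ((1 : L₀) ⊗ₜ[R] (1 : Q) : L₀ ⊗[R] Q) ≠ 0 := by
    intro h1
    have hu : IsUnit (algebraMap R' L₀ c') :=
      IsUnit.mk0 _ fun hh => hc' (Subtype.val_injective (hh.trans (map_zero (algebraMap R' L₀)).symm))
    let ι : Q →ₐ[R] L₀ := { IsLocalization.Away.lift c' hu with
      commutes' := fun r => by
        show IsLocalization.Away.lift c' hu (algebraMap R Q r) = _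
        rw [IsScalarTower.algebraMap_apply R R' Q, IsLocalization.Away.lift_eq, ← IsScalarTower.algebraMap_apply] }
    have := congrArg (Algebra.TensorProduct.lift (AlgHom.id R L₀) ι (fun _ _ => Commute.all _ _)) h1
    simp at this
  obtain ⟨c, hc, hne⟩ := exists_ne_zero_near L₀ hL₀ (1 : Q) h1
  refine ⟨c, hc, fun L _ _ hL => ?_⟩
  haveI : Nontrivial (L ⊗[R] Q) := ⟨⟨_, _, hne L hL⟩⟩
  obtain ⟨m, hm⟩ := Ideal.exists_maximal (L ⊗[R] Q)
  let L' := (L ⊗[R] Q) ⧸ m
  letI : Field L' := Ideal.Quotient.field m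
  let ψ : Q →+* L' := (Ideal.Quotient.mk m).comp (Algebra.TensorProduct.includeRight : Q →ₐ[R] L ⊗[R] Q).toRingHom
  letI : Algebra R' L' := (ψ.comp (algebraMap R' Q)).toAlgebra
  haveI : IsScalarTower R R' L' := IsScalarTower.of_algebraMap_eq fun r => by
    show algebraMap R L' r = ψ (algebraMap R' Q (algebraMap R R' r))
    rw [← IsScalarTower.algebraMap_apply]
    show _ = Ideal.Quotient.mk m ((Algebra.TensorProduct.includeRight : Q →ₐ[R] L ⊗[R] Q) (algebraMap R Q r))
    rw [AlgHom.commutes]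
    rfl
  refine ⟨L', inferInstance, inferInstance, inferInstance, inferInstance, fun hred => ?_⟩
  haveI := hred
  refine hgood L' (((IsLocalization.Away.algebraMap_isUnit c').map ψ).ne_zero) ?_
  exact isReduced_of_injective (Algebra.TensorProduct.cancelBaseChange R R' L' L' S)
    (AlgEquiv.injective _)

end Groth.Agent.FlatMisc.SpreadRed
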