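import Mathlib
import Groth.Agent.FlatMisc.GenericReduction
import Groth.Agent.FlatMisc.SpreadGeomRed

/-!
# Reduced and geometrically reduced fibres near the generic point
-/

universe u
set_option autoImplicit false
open AlgebraicGeometry CategoryTheory CategoryTheory.Limits TopologicalSpace Topology TensorProduct

namespace Groth.Agent.FlatMisc.NearGeneric
open Groth.Agent.FlatMisc.GenericReduction Groth.Agent.FlatMisc.SpreadRed

theorem exists_factor_residueField {Y : Scheme.{u}} {L : Type u} [Field L] (y : Spec (CommRingCat.of L) ⟶ Y) (p : Y)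
    (h : y (IsLocalRing.closedPoint L) = p) :
    ∃ i : Y.residueField p ⟶ CommRingCat.of L, Spec.map i ≫ Y.fromSpecResidueField p = y := by
  subst h
  exact ⟨_, Scheme.descResidueField_stalkClosedPointTo_fromSpecResidueField L Y y⟩

theorem fromSpecResidueField_closedPoint {Y : Scheme.{u}} (p : Y) (x : Spec (Y.residueField p)) :
    Y.fromSpecResidueField p x = p := Y.fromSpecResidueField_apply p x

theorem comp_fromSpecResidueField_apply {Y W : Scheme.{u}} {p : Y} (y : W ⟶ Spec (Y.residueField p)) (x : W) :
    (y ≫ Y.fromSpecResidueField p) x = p :=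
  (Scheme.Hom.comp_apply y (Y.fromSpecResidueField p) x).trans (fromSpecResidueField_closedPoint p (y x))

theorem fromSpecResidueField_mem {Y : Scheme.{u}} {p : Y} {U : Y.Opens} (h : p ∈ U) (x : Spec (Y.residueField p)) :
    Y.fromSpecResidueField p x ∈ U := (fromSpecResidueField_closedPoint p x).symm ▸ h

variable {X Y : Scheme.{u}} {f : X ⟶ Y} [IrreducibleSpace ↑Y]

theorem exists_residueField_algebra (C : Chart f) {y : Y} (hy : y ∈ C.U) :
    ∃ _ : Algebra C.R (Y.residueField y), C.pt (Y.residueField y) = Y.fromSpecResidueField y ∧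
      ∀ a : C.R, y ∈ C.D a → algebraMap C.R (Y.residueField y) a ≠ 0 := by
  obtain ⟨i, hi⟩ := C.exists_pt (L := Y.residueField y) (Y.fromSpecResidueField y) (fromSpecResidueField_mem hy _)
  refine ⟨i, hi, fun a ha => (C.pt_mem_D a).mp ?_⟩
  rw [hi]
  exact fromSpecResidueField_mem ha _

/-- The residue field at the generic point is the fraction field of the reduced coordinate ring of a chart. -/
theorem isFractionRing_residueField (C : Chart f) [Algebra C.R (Y.residueField (genericPoint ↑Y))]
    (h : C.pt (Y.residueField (genericPoint ↑Y)) = Y.fromSpecResidueField (genericPoint ↑Y)) :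
    IsFractionRing C.R (Y.residueField (genericPoint ↑Y)) := by
  let η := genericPoint ↑Y
  let K := FractionRing C.R
  have hinj : Function.Injective (algebraMap C.R (Y.residueField η)) :=
    C.injective_of_pt_eq (by rw [h]; exact fromSpecResidueField_closedPoint _ _)
  letI : Algebra K (Y.residueField η) := (IsFractionRing.lift (g := algebraMap C.R (Y.residueField η)) hinj).toAlgebra
  haveI : IsScalarTower C.R K (Y.residueField η) :=
    IsScalarTower.of_algebraMap_eq fun x => (IsFractionRing.lift_algebraMap hinj x).symm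
  obtain ⟨i, hi⟩ := exists_factor_residueField (C.pt K) η (C.pt_eq_of_injective (IsFractionRing.injective C.R K))
  have h1 : i ≫ CommRingCat.ofHom (algebraMap K (Y.residueField η)) = 𝟙 (Y.residueField η) := by
    rw [← Spec.map_inj, ← cancel_mono (Y.fromSpecResidueField η), Spec.map_comp, Category.assoc, hi,
      C.algebraMap_of_tower, Spec.map_id]
    exact h.trans (Category.id_comp _).symm
  have hbij : Function.Bijective (algebraMap K (Y.residueField η)) :=
    ⟨RingHom.injective _, fun x => ⟨i x, congr($h1 x)⟩⟩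
  exact IsLocalization.isLocalization_of_algEquiv (nonZeroDivisors C.R)
    (AlgEquiv.ofBijective (IsScalarTower.toAlgHom C.R K (Y.residueField η)) hbij)

/-- Near the generic point the fibres are not reduced if the generic fibre is not. -/
theorem exists_open_not_reduced [LocallyOfFiniteType f] [QuasiCompact f] (h : ¬ IsReduced (f.fiber (genericPoint ↑Y))) :
    ∃ V : Y.Opens, (V : Set ↑Y).Nonempty ∧ ∀ y ∈ V, ¬ IsReduced (f.fiber y) := by
  obtain ⟨C⟩ := exists_chart f
  obtain ⟨_, hptη, -⟩ := exists_residueField_algebra C C.hη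
  haveI := isFractionRing_residueField C hptη
  have h' : ¬ IsReduced (pullback f (C.pt (Y.residueField (genericPoint ↑Y)))) := by rw [hptη]; exact h
  rw [C.isReduced_pullback_iff] at h'
  push Not at h'
  obtain ⟨V, hV⟩ := h'
  obtain ⟨c, hc, hc'⟩ := exists_not_reduced_near (S := C.S V) (Y.residueField (genericPoint ↑Y)) hV
  refine ⟨C.D c, ⟨_, C.mem_D hc⟩, fun y hy hred => ?_⟩
  obtain ⟨_, hpt, hD⟩ := exists_residueField_algebra C (C.D_le c hy)
  have hc0 : algebraMap C.R (Y.residueField y) c ≠ 0 := hD c hy
  refine hc' _ hc0 ((C.isReduced_pullback_iff _).mp ?_ V)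
  rw [hpt]; exact hred

/-- Near the generic point the fibres are not geometrically reduced if the generic fibre is not. -/
theorem exists_open_not_geomReduced [LocallyOfFiniteType f] [QuasiCompact f]
    (h : ¬ GeometricallyReduced (f.fiberToSpecResidueField (genericPoint ↑Y))) :
    ∃ V : Y.Opens, (V : Set ↑Y).Nonempty ∧ ∀ y ∈ V, ¬ GeometricallyReduced (f.fiberToSpecResidueField y) := by
  obtain ⟨C⟩ := exists_chart f
  obtain ⟨L, hL, y₀, hy₀⟩ : ∃ (L : Type u) (_ : Field L) (y₀ : Spec (CommRingCat.of L) ⟶ Spec (Y.residueField (genericPoint ↑Y))),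
      ¬ IsReduced (pullback f (y₀ ≫ Y.fromSpecResidueField (genericPoint ↑Y))) := by
    by_contra hn
    push Not at hn
    refine h ⟨geometrically_iff_of_isClosedUnderIsomorphisms.mpr fun K _ y => ?_⟩
    haveI : IsReduced (pullback f (y ≫ Y.fromSpecResidueField (genericPoint ↑Y))) := hn K inferInstance y
    exact @isReduced_of_isOpenImmersion _ _ (pullbackLeftPullbackSndIso f (Y.fromSpecResidueField (genericPoint ↑Y)) y).hom
      (@IsOpenImmersion.of_isIso _ _ _ (Iso.isIso_hom _)) this
  let y₁ := y₀ ≫ Y.fromSpecResidueField (genericPoint ↑Y)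
  have hy₁ : y₁ (IsLocalRing.closedPoint L) = genericPoint ↑Y := comp_fromSpecResidueField_apply y₀ _
  obtain ⟨_, hpt⟩ := C.exists_pt y₁ (by rw [hy₁]; exact C.hη)
  have hinj := C.injective_of_pt_eq (L := L) (by rw [hpt]; exact hy₁)
  have h' : ¬ IsReduced (pullback f (C.pt L)) := by rw [hpt]; exact hy₀
  rw [C.isReduced_pullback_iff] at h'
  push Not at h'
  obtain ⟨V, hV⟩ := h'
  obtain ⟨c, hc, hc'⟩ := exists_not_geomReduced_near (S := C.S V) L hinj hV
  refine ⟨C.D c, ⟨_, C.mem_D hc⟩, fun y hy hgr => ?_⟩
  obtain ⟨_, hpty, hD⟩ := exists_residueField_algebra C (C.D_le c hy)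
  have hc0 : algebraMap C.R (Y.residueField y) c ≠ 0 := hD c hy
  obtain ⟨L', _, _, _, _, hL'⟩ := hc' _ hc0
  refine hL' ((C.isReduced_pullback_iff L').mp ?_ V)
  rw [← C.algebraMap_of_tower (L := Y.residueField y) L', hpty]
  haveI : IsReduced (pullback (pullback.snd f (Y.fromSpecResidueField y))
      (Spec.map (CommRingCat.ofHom (algebraMap (Y.residueField y) L')))) :=
    pullback_of_geometrically hgr.geometrically_isReduced L' _
  exact isReduced_of_isOpenImmersion
    (pullbackLeftPullbackSndIso f (Y.fromSpecResidueField y) (Spec.map (CommRingCat.ofHom (algebraMap (Y.residueField y) L')))).inv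

/-- Near the generic point the fibres are geometrically reduced if the generic fibre is. -/
theorem exists_open_geomReduced [LocallyOfFiniteType f] [QuasiCompact f]
    (h : GeometricallyReduced (f.fiberToSpecResidueField (genericPoint ↑Y))) :
    ∃ V : Y.Opens, (V : Set ↑Y).Nonempty ∧ GeometricallyReduced (f ∣_ V) := by
  obtain ⟨C⟩ := exists_chart f
  let K := FractionRing C.R
  haveI hgr : ∀ V : C.t, Algebra.IsGeometricallyReduced K (K ⊗[C.R] C.S V) := by
    intro V
    rw [Algebra.isGeometricallyReduced_field_iff]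
    let L := AlgebraicClosure K
    have hinj : Function.Injective (algebraMap C.R L) := by
      rw [IsScalarTower.algebraMap_eq C.R K L]
      exact (algebraMap K L).injective.comp (IsFractionRing.injective C.R K)
    obtain ⟨i, hi⟩ := exists_factor_residueField (C.pt L) _ (C.pt_eq_of_injective hinj)
    haveI : _root_.IsReduced (L ⊗[C.R] C.S V) := by
      refine (C.isReduced_pullback_iff L).mp ?_ V
      rw [← hi]
      haveI : IsReduced (pullback (pullback.snd f (Y.fromSpecResidueField (genericPoint ↑Y))) (Spec.map i)) :=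
        pullback_of_geometrically h.geometrically_isReduced L _
      exact isReduced_of_isOpenImmersion (pullbackLeftPullbackSndIso f _ (Spec.map i)).inv
    exact isReduced_of_injective (Algebra.TensorProduct.cancelBaseChange C.R K L L (C.S V))
      (AlgEquiv.injective _)
  choose c hc hc' using fun V : C.t => (haveI := hgr V; exists_reduced_near (R := C.R) (S := C.S V) K)
  haveI := C.fin.fintype
  let a := ∏ V : C.t, c V
  have ha : a ≠ 0 := Finset.prod_ne_zero_iff.mpr fun V _ => hc V
  refine ⟨C.D a, ⟨_, C.mem_D ha⟩, ⟨geometrically_iff_of_isClosedUnderIsomorphisms.mpr fun L _ y => ?_⟩⟩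
  have hy : (y ≫ (C.D a).ι) (IsLocalRing.closedPoint L) ∈ C.D a := (y (IsLocalRing.closedPoint L)).2
  obtain ⟨_, hpt⟩ := C.exists_pt (y ≫ (C.D a).ι) (C.D_le a hy)
  have ha0 : algebraMap C.R L a ≠ 0 := by rw [← C.pt_mem_D, hpt]; exact hy
  rw [map_prod, Finset.prod_ne_zero_iff] at ha0
  haveI : IsReduced (pullback f (y ≫ (C.D a).ι)) := by
    rw [← hpt, C.isReduced_pullback_iff]
    exact fun V => hc' V L (ha0 V (Finset.mem_univ _))
  exact isReduced_of_isOpenImmersion
    ((IsPullback.of_hasPullback (f ∣_ C.D a) y).paste_horiz (isPullback_morphismRestrict f (C.D a)).flip).isoPullback.hom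

end Groth.Agent.FlatMisc.NearGeneric
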