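import Mathlib
import Groth.Agent.FlatMisc.NearGeneric
import Groth.Agent.S2162

/-!
# Smoothness at the generic point
-/

universe u
set_option autoImplicit false
open AlgebraicGeometry CategoryTheory CategoryTheory.Limits TopologicalSpace Topology TensorProduct

namespace Groth.Agent.FlatMisc.SmoothGeneric
open Groth.Agent.FlatMisc.GenericReduction Groth.Agent.FlatMisc.SpreadRed Groth.Agent.FlatMisc.NearGeneric

attribute [local instance] Algebra.TensorProduct.rightAlgebra in
theorem isSmoothAt_bot {R S : Type u} [CommRing R] [IsDomain R] [CommRing S] [IsDomain S] [Algebra R S] [FaithfulSMul R S]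
    [Algebra.FiniteType R S] (K : Type u) [Field K] [Algebra R K] [IsFractionRing R K]
    [Algebra.IsGeometricallyReduced K (K ⊗[R] S)] : Algebra.IsSmoothAt R (⊥ : Ideal S) := by
  let L := FractionRing S
  have hinj : Function.Injective (algebraMap R L) := by
    rw [IsScalarTower.algebraMap_eq R S L]
    exact (IsFractionRing.injective S L).comp (FaithfulSMul.algebraMap_injective R S)
  letI : Algebra K L := (IsFractionRing.lift (g := algebraMap R L) hinj).toAlgebra
  haveI : IsScalarTower R K L := IsScalarTower.of_algebraMap_eq fun x => (IsFractionRing.lift_algebraMap hinj x).symm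
  let φ : K ⊗[R] S →ₐ[K] L :=
    Algebra.TensorProduct.lift (Algebra.ofId K L) (IsScalarTower.toAlgHom R S L) (fun _ _ => mul_comm _ _)
  letI : Algebra (K ⊗[R] S) L := φ.toRingHom.toAlgebra
  haveI : IsScalarTower K (K ⊗[R] S) L := IsScalarTower.of_algebraMap_eq fun x => (φ.commutes x).symm
  haveI : IsScalarTower S (K ⊗[R] S) L := IsScalarTower.of_algebraMap_eq fun s => by
    show algebraMap S L s = φ ((1 : K) ⊗ₜ[R] s)
    simp [φ]
  haveI : IsLocalization (Algebra.algebraMapSubmonoid S (nonZeroDivisors R)) (K ⊗[R] S) := IsLocalization.tensorRight (S := S) (A := K) (nonZeroDivisors R)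
  haveI : IsLocalization ((nonZeroDivisors S).map (algebraMap S (K ⊗[R] S))) L :=
    IsLocalization.isLocalization_of_submonoid_le (K ⊗[R] S) L (Algebra.algebraMapSubmonoid S (nonZeroDivisors R)) (nonZeroDivisors S) (by
      rintro _ ⟨r, hr, rfl⟩
      exact mem_nonZeroDivisors_of_ne_zero fun h =>
        nonZeroDivisors.ne_zero hr (FaithfulSMul.algebraMap_injective R S (h.trans (map_zero _).symm)))
  haveI := Groth.Agent.GeomField.gr_localization (k := K) (K ⊗[R] S) L ((nonZeroDivisors S).map (algebraMap S (K ⊗[R] S)))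
  exact (Groth.Agent.S2162.result (R := R) (S := S) (K := K) (L := L)).mpr inferInstance

/-- A dominant morphism of integral schemes with geometrically reduced generic fibre is smooth at the generic point. -/
theorem genericPoint_mem_smoothLocus {X Y : Scheme.{u}} [IsIntegral X] [IsIntegral Y] (f : X ⟶ Y) [IsDominant f]
    [LocallyOfFinitePresentation f] (hη : f (genericPoint ↑X) = genericPoint ↑Y)
    (h : GeometricallyReduced (f.fiberToSpecResidueField (genericPoint ↑Y))) :
    genericPoint ↑X ∈ f.smoothLocus := by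
  obtain ⟨U, hU, hηU, -⟩ := exists_isAffineOpen_mem_and_subset (x := genericPoint ↑Y) (U := (⊤ : Y.Opens)) (by simp)
  obtain ⟨V, hV, hξV, hVU⟩ := exists_isAffineOpen_mem_and_subset (x := genericPoint ↑X) (U := f ⁻¹ᵁ U)
    (show f (genericPoint ↑X) ∈ U by rw [hη]; exact hηU)
  replace hVU : V ≤ f ⁻¹ᵁ U := hVU
  haveI : Nonempty U := ⟨⟨_, hηU⟩⟩
  haveI : Nonempty V := ⟨⟨_, hξV⟩⟩
  letI := (f.appLE U V hVU).hom.toAlgebra
  haveI : IsDomain Γ(Y, U) := inferInstance
  haveI : IsDomain Γ(X, V) := inferInstance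
  haveI : FaithfulSMul Γ(Y, U) Γ(X, V) := by
    rw [faithfulSMul_iff_algebraMap_injective]
    refine (injective_iff_map_eq_zero _).mpr fun a ha => ?_
    by_contra ha0
    have hne : genericPoint ↑Y ∈ Y.basicOpen a := by
      refine ((genericPoint_spec ↑Y).mem_open_set_iff (Y.basicOpen a).isOpen).mpr ?_
      rw [Set.univ_inter, Set.nonempty_iff_ne_empty]
      exact fun hh => ha0 ((basicOpen_eq_bot_iff a).mp (SetLike.coe_injective (hh.trans Opens.coe_bot.symm)))
    have h1 : genericPoint ↑X ∈ X.basicOpen (f.appLE U V hVU a) := by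
      rw [Scheme.basicOpen_appLE]
      exact ⟨hξV, show f (genericPoint ↑X) ∈ Y.basicOpen a by rw [hη]; exact hne⟩
    rw [show f.appLE U V hVU a = 0 from ha, Scheme.basicOpen_zero] at h1
    exact h1
  haveI : Algebra.FiniteType Γ(Y, U) Γ(X, V) := f.finiteType_appLE hU hV hVU
  let K := FractionRing Γ(Y, U)
  haveI : Algebra.IsGeometricallyReduced K (K ⊗[Γ(Y, U)] Γ(X, V)) := by
    rw [Algebra.isGeometricallyReduced_field_iff]
    let L := AlgebraicClosure K
    have hinj : Function.Injective (algebraMap Γ(Y, U) L) := by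
      rw [IsScalarTower.algebraMap_eq Γ(Y, U) K L]
      exact (algebraMap K L).injective.comp (IsFractionRing.injective Γ(Y, U) K)
    let y : Spec (CommRingCat.of L) ⟶ Y := Spec.map (CommRingCat.ofHom (algebraMap Γ(Y, U) L)) ≫ hU.fromSpec
    have hy : y (IsLocalRing.closedPoint L) = genericPoint ↑Y := by
      have h1 : hU.primeIdealOf ⟨genericPoint ↑Y, hηU⟩ = genericPoint (Spec Γ(Y, U)) := hU.primeIdealOf_genericPoint
      refine Eq.trans ?_ (hU.fromSpec_primeIdealOf ⟨genericPoint ↑Y, hηU⟩)
      rw [h1, genericPoint_eq_bot_of_affine]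
      refine congrArg hU.fromSpec (PrimeSpectrum.ext ?_)
      show Ideal.comap (algebraMap Γ(Y, U) L) (IsLocalRing.maximalIdeal L) = ⊥
      rw [IsLocalRing.maximalIdeal_eq_bot, ← RingHom.ker_eq_comap_bot]
      exact (RingHom.injective_iff_ker_eq_bot _).mp hinj
    obtain ⟨i, hi⟩ := exists_factor_residueField y _ hy
    haveI : IsReduced (pullback f y) := by
      rw [← hi]
      haveI : IsReduced (pullback (pullback.snd f (Y.fromSpecResidueField (genericPoint ↑Y))) (Spec.map i)) :=
        pullback_of_geometrically h.geometrically_isReduced L _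
      exact isReduced_of_isOpenImmersion (pullbackLeftPullbackSndIso f _ (Spec.map i)).inv
    let m : pullback (Spec.map (CommRingCat.ofHom (algebraMap Γ(Y, U) Γ(X, V))))
        (Spec.map (CommRingCat.ofHom (algebraMap Γ(Y, U) L))) ⟶ pullback f y :=
      pullback.map _ _ f y hV.fromSpec (𝟙 _) hU.fromSpec (hU.SpecMap_appLE_fromSpec f hV hVU) (Category.id_comp y).symm
    haveI : IsOpenImmersion m := by
      haveI := hV.isOpenImmersion_fromSpec
      haveI := hU.isOpenImmersion_fromSpec
      infer_instance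
    let e : Spec (CommRingCat.of (Γ(X, V) ⊗[Γ(Y, U)] L)) ≅
        pullback (Spec.map (CommRingCat.ofHom (algebraMap Γ(Y, U) Γ(X, V))))
          (Spec.map (CommRingCat.ofHom (algebraMap Γ(Y, U) L))) := isPullback_spec_tensor.isoPullback
    haveI : _root_.IsReduced (Γ(X, V) ⊗[Γ(Y, U)] L) :=
      (affine_isReduced_iff (CommRingCat.of (Γ(X, V) ⊗[Γ(Y, U)] L))).mp (isReduced_of_isOpenImmersion (e.hom ≫ m))
    let ε : L ⊗[K] (K ⊗[Γ(Y, U)] Γ(X, V)) ≃+* Γ(X, V) ⊗[Γ(Y, U)] L :=
      (Algebra.TensorProduct.cancelBaseChange Γ(Y, U) K L L Γ(X, V)).toRingEquiv.trans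
        (Algebra.TensorProduct.comm Γ(Y, U) L Γ(X, V)).toRingEquiv
    exact isReduced_of_injective ε ε.injective
  have hs := isSmoothAt_bot (R := Γ(Y, U)) (S := Γ(X, V)) K
  rw [Scheme.Hom.mem_smoothLocus, formallySmooth_stalkMap_iff U hU V hV hVU hξV]
  have hp : (hV.primeIdealOf ⟨genericPoint ↑X, hξV⟩).asIdeal = ⊥ := by
    have : hV.primeIdealOf ⟨genericPoint ↑X, hξV⟩ = genericPoint (Spec Γ(X, V)) :=
      hV.primeIdealOf_genericPoint
    rw [this, genericPoint_eq_bot_of_affine]
    rfl
  show Algebra.IsSmoothAt _ (hV.primeIdealOf ⟨genericPoint ↑X, hξV⟩).asIdeal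
  simpa only [hp] using hs

end Groth.Agent.FlatMisc.SmoothGeneric
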