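import Mathlib

universe u
set_option autoImplicit false
set_option backward.isDefEq.respectTransparency false
set_option backward.isDefEq.respectTransparency.types false
open AlgebraicGeometry CategoryTheory TopologicalSpace Opposite

namespace FlatMisc

theorem bijective_app_basicOpen {X Y : Scheme.{u}} (f : X ⟶ Y) [QuasiCompact f] [QuasiSeparated f] {V : Y.Opens} (hV : IsAffineOpen V)
    {r s : Γ(Y, V)} (hr : ∀ a, f.app V a = 0 → r * a = 0) (hr' : ∀ b, ∃ a, f.app V a = f.app V r * b)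
    (hs : Y.basicOpen s ≤ Y.basicOpen r) : Function.Bijective (f.app (Y.basicOpen s)) := by
  let A0 := Γ(Y, V)
  let B0 := Γ(X, f ⁻¹ᵁ V)
  haveI := hV.isLocalization_basicOpen s
  haveI := isLocalization_basicOpen_of_qcqs (f.isCompact_preimage hV.isCompact)
    (f.isQuasiSeparated_preimage hV.isQuasiSeparated) (f.app V s)
  have he : f ⁻¹ᵁ Y.basicOpen s = X.basicOpen (f.app V s) := f.preimage_basicOpen s
  let resA : A0 →+* Γ(Y, Y.basicOpen s) := algebraMap _ _
  let E := X.presheaf.map (eqToHom he.symm).op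
  let resB : B0 →+* Γ(X, X.basicOpen (f.app V s)) := algebraMap _ _
  have hF : ∀ a, E (f.app (Y.basicOpen s) (resA a)) = resB (f.app V a) := fun a => by
    show E (f.app (Y.basicOpen s) (Y.presheaf.map (homOfLE (Y.basicOpen_le s)).op a)) = X.presheaf.map _ (f.app V a)
    refine (congrArg E (congr($(f.naturality (homOfLE (Y.basicOpen_le s)).op) a))).trans ?_
    simp only [← ConcreteCategory.comp_apply, Category.assoc]
    erw [← Functor.map_comp]
    rfl
  have hru : IsUnit (resA r) := by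
    have h1 : IsUnit (Y.presheaf.map (homOfLE (Y.basicOpen_le r)).op r) :=
      RingedSpace.isUnit_res_basicOpen Y.toLocallyRingedSpace.toRingedSpace r
    have h2 := h1.map (Y.presheaf.map (homOfLE hs).op).hom
    have e : Y.presheaf.map (homOfLE hs).op (Y.presheaf.map (homOfLE (Y.basicOpen_le r)).op r) = resA r := by
      rw [← ConcreteCategory.comp_apply, ← Functor.map_comp]
      rfl
    exact e ▸ h2
  suffices h : Function.Bijective (fun z => E (f.app (Y.basicOpen s) z)) from
    ((ConcreteCategory.bijective_of_isIso E).of_comp_iff' _).1 h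
  refine ⟨fun z w hzw => ?_, fun w => ?_⟩
  · rw [← sub_eq_zero]
    have h0 : E (f.app (Y.basicOpen s) (z - w)) = 0 := by rw [map_sub, map_sub]; exact sub_eq_zero.2 hzw
    obtain ⟨⟨a, t⟩, ht⟩ := IsLocalization.surj (Submonoid.powers s) (z - w)
    have h1 : resB (f.app V a) = 0 := by
      rw [← hF, ← show (z - w) * resA t = resA a from ht, map_mul, map_mul, h0, zero_mul]
    obtain ⟨⟨_, n, rfl⟩, hn⟩ := (IsLocalization.map_eq_zero_iff (Submonoid.powers (f.app V s)) _ _).1 h1
    have h2 : f.app V (s ^ n * a) = 0 := by rw [map_mul, map_pow]; exact hn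
    have h3 : resA r * (resA (s ^ n) * resA a) = 0 := by
      rw [← map_mul, ← map_mul, hr _ h2, map_zero]
    rw [hru.mul_right_eq_zero, (IsLocalization.map_units (M := Submonoid.powers s) _ (⟨s ^ n, n, rfl⟩ : Submonoid.powers s)).mul_right_eq_zero] at h3
    rw [h3] at ht
    exact (IsLocalization.map_units _ t).mul_left_eq_zero.1 ht
  · obtain ⟨⟨b, ⟨_, n, rfl⟩⟩, hb⟩ := IsLocalization.surj (Submonoid.powers (f.app V s)) w
    obtain ⟨a, ha⟩ := hr' b
    have hu : IsUnit (resA (s ^ n)) := IsLocalization.map_units _ (⟨s ^ n, n, rfl⟩ : Submonoid.powers s)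
    refine ⟨resA a * ↑(hru.unit⁻¹ : _ˣ) * ↑(hu.unit⁻¹ : _ˣ), ?_⟩
    have h1 : IsUnit (E (f.app (Y.basicOpen s) (resA r * resA (s ^ n)))) := ((hru.mul hu).map (f.app (Y.basicOpen s)).hom).map E.hom
    refine h1.mul_left_inj.1 ?_
    rw [← map_mul, ← map_mul, show resA a * ↑(hru.unit⁻¹ : _ˣ) * ↑(hu.unit⁻¹ : _ˣ) * (resA r * resA (s ^ n)) = resA a by
      rw [mul_comm (resA r), ← mul_assoc, mul_assoc (resA a * _), hu.val_inv_mul, mul_one, mul_assoc, hru.val_inv_mul, mul_one]]
    rw [← map_mul resA, hF, hF, ha, map_mul (f.app V).hom, map_pow, map_mul, map_mul, ← hb]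
    ring


theorem bijective_app_of_isBasis {X N : Scheme.{u}} (g : X ⟶ N) {B : Set N.Opens} (hB : Opens.IsBasis B)
    (h : ∀ T ∈ B, Function.Bijective (g.app T)) (W : N.Opens) : Function.Bijective (g.app W) := by
  have hres : ∀ {U V : N.Opens} (e : V ≤ U) (s : Γ(N, U)),
      g.app V (N.presheaf.map (homOfLE e).op s) = X.presheaf.map (homOfLE (g.preimage_mono e)).op (g.app U s) :=
    fun e s => congr($(g.naturality (homOfLE e).op) s)
  have hinj : ∀ U : N.Opens, Function.Injective (g.app U) := by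
    intro U a b hab
    have hx : ∀ p : U, ∃ V : N.Opens, V ∈ B ∧ p.1 ∈ V ∧ V ≤ U := fun p => Opens.isBasis_iff_nbhd.1 hB p.2
    choose V hVB hpV hVU using hx
    refine N.sheaf.eq_of_locally_eq' V U (fun p => homOfLE (hVU p))
      (fun p hp => Opens.mem_iSup.2 ⟨⟨p, hp⟩, hpV ⟨p, hp⟩⟩) _ _ fun p => (h _ (hVB p)).1 ?_
    exact ((hres (hVU p) a).trans (congrArg _ hab)).trans (hres (hVU p) b).symm
  refine ⟨hinj W, fun y => ?_⟩
  have hx : ∀ p : W, ∃ V : N.Opens, V ∈ B ∧ p.1 ∈ V ∧ V ≤ W := fun p => Opens.isBasis_iff_nbhd.1 hB p.2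
  choose V hVB hpV hVW using hx
  choose x hx using fun p => (h (V p) (hVB p)).2 (X.presheaf.map (homOfLE (g.preimage_mono (hVW p))).op y)
  obtain ⟨s, hs, -⟩ := N.sheaf.existsUnique_gluing' V W (fun p => homOfLE (hVW p))
    (fun p hp => Opens.mem_iSup.2 ⟨⟨p, hp⟩, hpV ⟨p, hp⟩⟩) x fun p q => by
      refine hinj _ ?_
      refine ((hres inf_le_left (x p)).trans ?_).trans (hres inf_le_right (x q)).symm
      rw [hx, hx, ← ConcreteCategory.comp_apply, ← ConcreteCategory.comp_apply, ← X.presheaf.map_comp,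
        ← X.presheaf.map_comp]
      rfl
  refine ⟨s, X.sheaf.eq_of_locally_eq' (fun p => g ⁻¹ᵁ V p) (g ⁻¹ᵁ W) (fun p => homOfLE (g.preimage_mono (hVW p)))
    (fun z hz => Opens.mem_iSup.2 ⟨⟨g z, hz⟩, hpV ⟨g z, hz⟩⟩) _ _ fun p => ?_⟩
  exact (hres (hVW p) s).symm.trans ((congrArg _ (hs p)).trans (hx p))


theorem bijective_toNormalization_app_preimage {X S : Scheme.{u}} (f : X ⟶ S) [UniversallyClosed f] [QuasiSeparated f]
    (U : S.affineOpens) : Function.Bijective (f.toNormalization.app (f.fromNormalization ⁻¹ᵁ U.1)) := by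
  letI := (f.app U.1).hom.toAlgebra
  haveI : IsAffine U.1.toScheme := U.2
  haveI : UniversallyClosed (f ∣_ U.1) := MorphismProperty.of_isPullback (isPullback_morphismRestrict f U.1).flip inferInstance
  have hint : (f.app U.1).hom.IsIntegral := by
    have h1 := isIntegral_appTop_of_universallyClosed (f ∣_ U.1)
    rw [← Scheme.Hom.resLE_eq_morphismRestrict, RingHom.isIntegral_respectsIso.arrow_mk_iso_iff (arrowResLEAppIso f _ _ le_rfl), Scheme.Hom.appLE_eq_app] at h1
    exact h1
  haveI : Algebra.IsIntegral Γ(S, U.1) Γ(X, f ⁻¹ᵁ U.1) := algebraMap_isIntegral_iff.mp hint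
  rw [f.toNormalization_app_preimage U]
  have hval : Function.Bijective (integralClosure Γ(S, U.1) Γ(X, f ⁻¹ᵁ U.1)).val := by
    refine ⟨Subtype.val_injective, fun x => ⟨⟨x, Algebra.IsIntegral.isIntegral x⟩, rfl⟩⟩
  simp only [CommRingCat.hom_comp, RingHom.coe_comp]
  exact ((ConcreteCategory.bijective_of_isIso (X.presheaf.map (eqToHom _).op)).comp hval).comp
    (ConcreteCategory.bijective_of_isIso (f.normalizationObjIso U.2).hom)

theorem isIso_app_of_bijective_affine {X N : Scheme.{u}} (g : X ⟶ N) [QuasiCompact g] [QuasiSeparated g]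
    (hcov : ∀ z : N, ∃ A : N.Opens, IsAffineOpen A ∧ z ∈ A ∧ Function.Bijective (g.app A))
    (W : N.Opens) : IsIso (g.app W) := by
  let B : Set N.Opens :=
    {T | ∃ (A : N.Opens) (_ : IsAffineOpen A) (_ : Function.Bijective (g.app A)) (s : Γ(N, A)), T = N.basicOpen s}
  have hB : Opens.IsBasis B := by
    rw [Opens.isBasis_iff_nbhd]
    intro T z hz
    obtain ⟨A, hA, hzA, hb⟩ := hcov z
    obtain ⟨s, hs, hzs⟩ := hA.exists_basicOpen_le (V := T) ⟨z, hz⟩ hzA
    exact ⟨_, ⟨A, hA, hb, s, rfl⟩, hzs, hs⟩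
  have hψ : ∀ T ∈ B, Function.Bijective (g.app T) := fun T hT => by
    obtain ⟨A, hA, hb, s, rfl⟩ := hT
    refine bijective_app_basicOpen g hA (r := 1) (fun a ha => ?_) (fun b => ?_) ?_
    · rw [one_mul]; exact hb.1 (ha.trans (map_zero _).symm)
    · obtain ⟨a, ha⟩ := hb.2 b; exact ⟨a, by rw [map_one, one_mul]; exact ha⟩
    · rw [Scheme.basicOpen_of_isUnit _ isUnit_one]; exact Scheme.basicOpen_le _ s
  exact (ConcreteCategory.isIso_iff_bijective _).2 (bijective_app_of_isBasis g hB hψ W)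

theorem isIso_toNormalization_app {X S : Scheme.{u}} (f : X ⟶ S) [UniversallyClosed f] [QuasiSeparated f]
    (W : f.normalization.Opens) : IsIso (f.toNormalization.app W) := by
  refine isIso_app_of_bijective_affine f.toNormalization (fun z => ?_) W
  obtain ⟨_, ⟨U, hU, rfl⟩, hzU, -⟩ :=
    S.isBasis_affineOpens.exists_subset_of_mem_open (Set.mem_univ (f.fromNormalization z)) isOpen_univ
  exact ⟨f.fromNormalization ⁻¹ᵁ U, IsAffineOpen.preimage hU f.fromNormalization, hzU,
    bijective_toNormalization_app_preimage f ⟨U, hU⟩⟩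

end FlatMisc
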