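import Mathlib

universe u
set_option autoImplicit false
open TensorProduct

namespace FlatMisc

theorem flat_of_exact {R K N Q : Type*} [CommRing R] [AddCommGroup K] [Module R K]
    [AddCommGroup N] [Module R N] [AddCommGroup Q] [Module R Q] [Module.Flat R N] [Module.Flat R Q]
    (i : K →ₗ[R] N) (g : N →ₗ[R] Q) (hi : Function.Injective i) (hg : Function.Surjective g)
    (h : Function.Exact i g) : Module.Flat R K := by
  rw [Module.Flat.iff_rTensor_injective']
  intro J
  have h1 : Function.Injective (i.lTensor J) := LinearMap.lTensor_injective_of_exact_of_flat g hg i hi h J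
  have h2 : Function.Injective (J.subtype.rTensor N) :=
    Module.Flat.rTensor_preserves_injective_linearMap _ J.injective_subtype
  have hcomp : i.lTensor R ∘ₗ J.subtype.rTensor K = J.subtype.rTensor N ∘ₗ i.lTensor J := by
    ext; simp
  intro x y hxy
  apply h1
  apply h2
  have h3 := congrArg (i.lTensor R) hxy
  rw [← LinearMap.comp_apply, ← LinearMap.comp_apply, hcomp] at h3
  exact h3

/-- A product of two flat modules is flat. -/
theorem flat_prod {R A B : Type u} [CommRing R] [AddCommGroup A] [Module R A] [AddCommGroup B]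
    [Module R B] [Module.Flat R A] [Module.Flat R B] : Module.Flat R (A × B) := by
  rw [Module.Flat.iff_rTensor_preserves_injective_linearMap]
  intro P P' _ _ _ _ f hf
  rw [injective_iff_map_eq_zero]
  intro z hz
  have h1 : (LinearMap.fst R A B).lTensor P z = 0 := by
    refine Module.Flat.rTensor_preserves_injective_linearMap f hf (Eq.trans ?_ (map_zero _).symm)
    rw [← LinearMap.comp_apply, LinearMap.rTensor_comp_lTensor, ← LinearMap.lTensor_comp_rTensor,
      LinearMap.comp_apply, hz, map_zero]
  have h2 : (LinearMap.snd R A B).lTensor P z = 0 := by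
    refine Module.Flat.rTensor_preserves_injective_linearMap f hf (Eq.trans ?_ (map_zero _).symm)
    rw [← LinearMap.comp_apply, LinearMap.rTensor_comp_lTensor, ← LinearMap.lTensor_comp_rTensor,
      LinearMap.comp_apply, hz, map_zero]
  have e : LinearMap.inl R A B ∘ₗ LinearMap.fst R A B + LinearMap.inr R A B ∘ₗ LinearMap.snd R A B =
      LinearMap.id := by ext <;> simp
  have := congrArg (fun g => LinearMap.lTensor P g z) e
  simpa [LinearMap.lTensor_add, LinearMap.lTensor_comp_apply, h1, h2] using this.symm

variable (R A B : Type u) [CommRing R] [CommRing A] [CommRing B]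
  [Algebra R A] [Algebra R B] (I : Ideal A) [Algebra B (A ⧸ I)] [IsScalarTower R B (A ⧸ I)]

abbrev ringPullback : Subalgebra R (B × A) :=
  AlgHom.equalizer ((IsScalarTower.toAlgHom R B (A ⧸ I)).comp (AlgHom.fst R B A))
    ((Ideal.Quotient.mkₐ R I).comp (AlgHom.snd R B A))

noncomputable def diffMap : (B × A) →ₗ[R] A ⧸ I :=
  (IsScalarTower.toAlgHom R B (A ⧸ I)).toLinearMap ∘ₗ LinearMap.fst R B A -
    (Ideal.Quotient.mkₐ R I).toLinearMap ∘ₗ LinearMap.snd R B A

theorem diffMap_surjective : Function.Surjective (diffMap R A B I) := fun x => by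
  obtain ⟨a, rfl⟩ := Ideal.Quotient.mk_surjective x
  refine ⟨(0, -a), ?_⟩
  change algebraMap B (A ⧸ I) 0 - Ideal.Quotient.mk I (-a) = _
  rw [map_zero, map_neg, zero_sub, neg_neg]

theorem exact_val_diffMap : Function.Exact (ringPullback R A B I).val.toLinearMap (diffMap R A B I) := by
  intro x
  change algebraMap B (A ⧸ I) x.1 - Ideal.Quotient.mk I x.2 = 0 ↔ _
  rw [sub_eq_zero]
  constructor
  · intro h; exact ⟨⟨x, h⟩, rfl⟩
  · rintro ⟨y, rfl⟩; exact y.2

theorem flat_ringPullback [Module.Flat R A] [Module.Flat R B] [Module.Flat B (A ⧸ I)] :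
    Module.Flat R (ringPullback R A B I) := by
  haveI : Module.Flat R (A ⧸ I) := Module.Flat.trans R B (A ⧸ I)
  haveI : Module.Flat R (B × A) := flat_prod
  exact flat_of_exact _ _ (fun a b h => Subtype.ext h) (diffMap_surjective R A B I) (exact_val_diffMap R A B I)

theorem lTensor_injective_of_faithfullyFlat {R B C : Type*} [CommRing R] [CommRing B] [CommRing C] [Algebra R B]
    [Algebra R C] [Algebra B C] [IsScalarTower R B C] [Module.FaithfullyFlat B C]
    (R' : Type*) [AddCommGroup R'] [Module R R'] :
    Function.Injective ((IsScalarTower.toAlgHom R B C).toLinearMap.lTensor R') := by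
  have h1 : Function.Injective ((IsScalarTower.toAlgHom R B C).toLinearMap.rTensor R') := by
    have h2 := Module.FaithfullyFlat.tensorProduct_mk_injective (A := B) (B := C) (B ⊗[R] R')
    have h3 : ∀ x, (IsScalarTower.toAlgHom R B C).toLinearMap.rTensor R' x =
        TensorProduct.AlgebraTensorModule.cancelBaseChange R B B C R' ((1 : C) ⊗ₜ[B] x) := by
      intro x
      induction x using TensorProduct.induction_on with
      | zero => simp
      | tmul b r => simp [Algebra.smul_def]
      | add u v hu hv => simp only [map_add, TensorProduct.tmul_add, hu, hv]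
    intro x y hxy
    rw [h3, h3] at hxy
    exact h2 ((TensorProduct.AlgebraTensorModule.cancelBaseChange R B B C R').injective hxy)
  exact LinearMap.lTensor_inj_iff_rTensor_inj _ _ |>.mpr h1

theorem ringPullback_baseChange (R' : Type u) [CommRing R'] [Algebra R R'] [Module.Flat R B]
    [Module.Finite B (A ⧸ I)] [Module.Flat B (A ⧸ I)] (hinj : Function.Injective (algebraMap B (A ⧸ I))) :
    Function.Injective (Algebra.TensorProduct.map (AlgHom.id R' R')
        ((AlgHom.snd R B A).comp (ringPullback R A B I).val)) ∧
    ∀ (b : R' ⊗[R] B) (a : R' ⊗[R] A),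
      Algebra.TensorProduct.map (AlgHom.id R' R') (IsScalarTower.toAlgHom R B (A ⧸ I)) b =
        Algebra.TensorProduct.map (AlgHom.id R' R') (Ideal.Quotient.mkₐ R I) a →
      ∃ x : R' ⊗[R] ↥(ringPullback R A B I),
        Algebra.TensorProduct.map (AlgHom.id R' R') ((AlgHom.fst R B A).comp (ringPullback R A B I).val) x = b ∧
        Algebra.TensorProduct.map (AlgHom.id R' R') ((AlgHom.snd R B A).comp (ringPullback R A B I).val) x = a := by
  haveI : Module.Flat R (A ⧸ I) := Module.Flat.trans R B (A ⧸ I)
  haveI : Module.FaithfullyFlat B (A ⧸ I) :=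
    Module.FaithfullyFlat.of_comap_surjective (RingHom.IsIntegral.comap_surjective
      (algebraMap_isIntegral_iff.mpr inferInstance) hinj)
  set P := ringPullback R A B I
  have hmap : ∀ {X Y : Type u} [CommRing X] [CommRing Y] [Algebra R X] [Algebra R Y] (φ : X →ₐ[R] Y) (z : R' ⊗[R] X),
      Algebra.TensorProduct.map (AlgHom.id R' R') φ z = φ.toLinearMap.lTensor R' z := by
    intro X Y _ _ _ _ φ z
    induction z using TensorProduct.induction_on with
    | zero => simp
    | tmul b r => simp
    | add u v hu hv => simp only [map_add, hu, hv]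
  have hex := lTensor_exact R' (exact_val_diffMap R A B I) (diffMap_surjective R A B I)
  have hi : Function.Injective (P.val.toLinearMap.lTensor R') :=
    LinearMap.lTensor_injective_of_exact_of_flat _ (diffMap_surjective R A B I) _
      (fun a b h => Subtype.ext h) (exact_val_diffMap R A B I) R'
  let e := TensorProduct.prodRight R R R' B A
  have hp1 : ∀ x, ((AlgHom.fst R B A).comp P.val).toLinearMap.lTensor R' x = (e (P.val.toLinearMap.lTensor R' x)).1 := by
    intro x
    induction x using TensorProduct.induction_on with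
    | zero => simp
    | tmul b r => simp [e]
    | add u v hu hv => simp only [map_add, hu, hv, Prod.fst_add]
  have hp2 : ∀ x, ((AlgHom.snd R B A).comp P.val).toLinearMap.lTensor R' x = (e (P.val.toLinearMap.lTensor R' x)).2 := by
    intro x
    induction x using TensorProduct.induction_on with
    | zero => simp
    | tmul b r => simp [e]
    | add u v hu hv => simp only [map_add, hu, hv, Prod.snd_add]
  have hd : ∀ y, (diffMap R A B I).lTensor R' y =
      (IsScalarTower.toAlgHom R B (A ⧸ I)).toLinearMap.lTensor R' (e y).1 -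
        (Ideal.Quotient.mkₐ R I).toLinearMap.lTensor R' (e y).2 := by
    intro y
    induction y using TensorProduct.induction_on with
    | zero => simp
    | tmul b r => simp [e, diffMap, TensorProduct.tmul_sub]
    | add u v hu hv =>
      simp only [map_add, Prod.fst_add, Prod.snd_add, hu, hv]
      abel
  refine ⟨?_, ?_⟩
  · rw [injective_iff_map_eq_zero]
    intro x hx
    rw [hmap, hp2] at hx
    have h0 : (diffMap R A B I).lTensor R' (P.val.toLinearMap.lTensor R' x) = 0 := hex.apply_apply_eq_zero x
    rw [hd, hx, map_zero, sub_zero] at h0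
    have h1 : (e (P.val.toLinearMap.lTensor R' x)).1 = 0 :=
      lTensor_injective_of_faithfullyFlat (R := R) (B := B) (C := A ⧸ I) R' (by rw [h0, map_zero])
    refine (injective_iff_map_eq_zero _).mp hi x (e.injective ?_)
    rw [map_zero]
    exact Prod.ext h1 hx
  · intro b a hba
    rw [hmap, hmap] at hba
    have h0 : (diffMap R A B I).lTensor R' (e.symm (b, a)) = 0 := by
      rw [hd, e.apply_symm_apply]
      exact sub_eq_zero.mpr hba
    obtain ⟨x, hx⟩ := (hex _).mp h0
    refine ⟨x, ?_, ?_⟩
    · rw [hmap, hp1, hx, e.apply_symm_apply]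
    · rw [hmap, hp2, hx, e.apply_symm_apply]

end FlatMisc
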