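import Mathlib

universe u
set_option autoImplicit false
open AlgebraicGeometry CategoryTheory Limits

namespace FlatMisc

theorem residueFieldMap_bijective_of_isPreimmersion {X Y : Scheme.{u}} (f : X ⟶ Y) [IsPreimmersion f] (x : X) :
    Function.Bijective (f.residueFieldMap x).hom := by
  refine ⟨(f.residueFieldMap x).hom.injective, fun y => ?_⟩
  obtain ⟨y, rfl⟩ := IsLocalRing.residue_surjective y
  obtain ⟨z, rfl⟩ := f.stalkMap_surjective x y
  exact ⟨IsLocalRing.residue _ z, rfl⟩

/-- A point of a closed subscheme gives a lift of the point morphism. -/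
theorem exists_lift_fromSpecResidueField {S Z : Scheme.{u}} (ι : Z ⟶ S) [IsPreimmersion ι] (z : Z) :
    ∃ g : Spec (S.residueField (ι z)) ⟶ Z, g ≫ ι = S.fromSpecResidueField (ι z) := by
  haveI : IsIso (ι.residueFieldMap z) :=
    (RingEquiv.ofBijective (ι.residueFieldMap z).hom (residueFieldMap_bijective_of_isPreimmersion ι z)).toCommRingCatIso.isIso_hom
  refine ⟨Spec.map (inv (ι.residueFieldMap z)) ≫ Z.fromSpecResidueField z, ?_⟩
  rw [Category.assoc, ← Scheme.Hom.SpecMap_residueFieldMap_fromSpecResidueField, ← Category.assoc, ← Spec.map_comp]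
  simp

/-- A base-change stable property of `X ×_S Z → Z` passes to the fibres over points of `Z`. -/
theorem fiberToSpecResidueField_of_baseChange (P : MorphismProperty Scheme.{u}) [P.IsStableUnderBaseChange]
    {X S Z : Scheme.{u}} (f : X ⟶ S) (ι : Z ⟶ S) [IsPreimmersion ι] (h : P (pullback.snd f ι))
    (s : S) (hs : s ∈ Set.range ι.base) : P (f.fiberToSpecResidueField s) := by
  obtain ⟨z, rfl⟩ := hs
  obtain ⟨g, hg⟩ := exists_lift_fromSpecResidueField ι z
  let a : f.fiber (ι z) ⟶ pullback f ι :=
    pullback.lift (f.fiberι (ι z)) (f.fiberToSpecResidueField (ι z) ≫ g) (by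
      rw [Category.assoc, hg]
      exact pullback.condition)
  have hbig : IsPullback (a ≫ pullback.fst f ι) (f.fiberToSpecResidueField (ι z)) f (g ≫ ι) := by
    rw [hg, pullback.lift_fst]
    exact IsPullback.of_hasPullback f (S.fromSpecResidueField (ι z))
  have hsq : IsPullback a (f.fiberToSpecResidueField (ι z)) (pullback.snd f ι) g :=
    IsPullback.of_right hbig (pullback.lift_snd _ _ _) (IsPullback.of_hasPullback f ι)
  exact MorphismProperty.of_isPullback hsq h

end FlatMisc

namespace FlatMisc

open TensorProduct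

theorem notMem_support_of_fibre {R A M : Type u} [CommRing R] [CommRing A] [Algebra R A] [AddCommGroup M]
    [Module R M] [Module A M] [IsScalarTower R A M] [Module.Finite A M] (q : PrimeSpectrum A)
    (h : Subsingleton ((q.asIdeal.under R).ResidueField ⊗[R] M)) : q ∉ Module.support A M := by
  intro hq
  rw [Module.mem_support_iff_nontrivial_residueField_tensorProduct] at hq
  have h1 : ∀ m : M, (1 : q.asIdeal.ResidueField) ⊗ₜ[A] m = 0 := by
    intro m
    let ι' : (q.asIdeal.under R).ResidueField →+* q.asIdeal.ResidueField :=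
      Ideal.ResidueField.map (q.asIdeal.under R) q.asIdeal (algebraMap R A) rfl
    have hι : ∀ r : R, ι' (algebraMap R _ r) = algebraMap A q.asIdeal.ResidueField (algebraMap R A r) := fun r => by
      simp [ι']
    let β : (q.asIdeal.under R).ResidueField ⊗[R] M →ₗ[R] q.asIdeal.ResidueField ⊗[A] M :=
      TensorProduct.lift (LinearMap.mk₂ R (fun c m => ι' c ⊗ₜ[A] m)
        (fun a b m => by rw [map_add, TensorProduct.add_tmul])
        (fun r c m => by
          rw [Algebra.smul_def, map_mul, hι, ← Algebra.smul_def, ← IsScalarTower.algebraMap_smul A r,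
            TensorProduct.smul_tmul'])
        (fun c a b => by rw [TensorProduct.tmul_add])
        (fun r c m => by
          rw [← IsScalarTower.algebraMap_smul A r m, TensorProduct.tmul_smul, IsScalarTower.algebraMap_smul]))
    have : β (1 ⊗ₜ[R] m) = 0 := by rw [Subsingleton.elim ((1 : (q.asIdeal.under R).ResidueField) ⊗ₜ[R] m) 0, map_zero]
    simpa [β] using this
  haveI : Subsingleton (q.asIdeal.ResidueField ⊗[A] M) := by
    refine subsingleton_of_forall_eq 0 (fun z => ?_)
    induction z using TensorProduct.induction_on with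
    | zero => rfl
    | tmul c m => rw [← mul_one c, ← smul_eq_mul, ← TensorProduct.smul_tmul', h1, smul_zero]
    | add a b ha hb => rw [ha, hb, add_zero]
  exact not_subsingleton _ this

attribute [local instance] Algebra.TensorProduct.rightAlgebra in
set_option backward.isDefEq.respectTransparency.types false in
/-- Unramifiedness at a point from the fibre, on affine charts. -/
theorem mem_unramifiedLocus_of_fibre {R A : Type u} [CommRing R] [CommRing A] [Algebra R A]
    [Algebra.FiniteType R A] (q : PrimeSpectrum A)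
    (h : FormallyUnramified ((Spec.map (CommRingCat.ofHom (algebraMap R A))).fiberToSpecResidueField
      (q.comap (algebraMap R A)))) :
    q ∈ Algebra.unramifiedLocus R A := by
  let p : PrimeSpectrum R := q.comap (algebraMap R A)
  have h1 := (MorphismProperty.arrow_mk_iso_iff @FormallyUnramified (Spec.fiberToSpecResidueFieldIso R A p)).mp h
  rw [HasRingHomProperty.Spec_iff (P := @FormallyUnramified)] at h1
  haveI : Algebra.FormallyUnramified p.asIdeal.ResidueField (p.asIdeal.Fiber A) :=
    RingHom.formallyUnramified_algebraMap.mp h1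
  rw [Algebra.unramifiedLocus_eq_compl_support]
  exact notMem_support_of_fibre q
    (KaehlerDifferential.tensorKaehlerEquivBase R p.asIdeal.ResidueField A (p.asIdeal.Fiber A)).injective.subsingleton

/-- Etale near a point: smooth there with unramified fibre. -/
theorem exists_etale_open_of_mem_smoothLocus {X S : Scheme.{u}} (f : X ⟶ S) [LocallyOfFinitePresentation f] (x : X)
    (hsm : x ∈ f.smoothLocus) (hfib : FormallyUnramified (f.fiberToSpecResidueField (f x))) :
    ∃ U : X.Opens, x ∈ U ∧ Etale (U.ι ≫ f) := by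
  obtain ⟨_, ⟨U, hU, rfl⟩, hxU, -⟩ :=
    S.isBasis_affineOpens.exists_subset_of_mem_open (Set.mem_univ (f x)) isOpen_univ
  obtain ⟨_, ⟨V, hV, rfl⟩, hxV, hVU⟩ :=
    X.isBasis_affineOpens.exists_subset_of_mem_open (show x ∈ (f ⁻¹ᵁ U : Set X) from hxU) (f ⁻¹ᵁ U).isOpen
  replace hU : IsAffineOpen U := hU
  replace hV : IsAffineOpen V := hV
  have hVU' : V ≤ f ⁻¹ᵁ U := hVU
  have hfp : (f.appLE U V hVU').hom.FinitePresentation := f.finitePresentation_appLE hU hV hVU'
  letI := (f.appLE U V hVU').hom.toAlgebra
  haveI : Algebra.FinitePresentation Γ(S, U) Γ(X, V) := hfp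
  let q := hV.primeIdealOf ⟨x, hxV⟩
  have e2 : Spec.map (CommRingCat.ofHom (algebraMap Γ(S, U) Γ(X, V))) ≫ hU.fromSpec = hV.fromSpec ≫ f :=
    hU.SpecMap_appLE_fromSpec f hV hVU'
  have hq2 : q ∈ Algebra.unramifiedLocus Γ(S, U) Γ(X, V) := by
    apply mem_unramifiedLocus_of_fibre
    let p : PrimeSpectrum Γ(S, U) := q.comap (algebraMap Γ(S, U) Γ(X, V))
    change FormallyUnramified ((Spec.map (CommRingCat.ofHom (algebraMap Γ(S, U) Γ(X, V)))).fiberToSpecResidueField p)
    let a' : Spec Γ(X, V) ⟶ pullback f hU.fromSpec := pullback.lift hV.fromSpec _ e2.symm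
    haveI : IsOpenImmersion (a' ≫ pullback.fst f hU.fromSpec) := by rw [pullback.lift_fst]; infer_instance
    haveI : IsOpenImmersion a' := IsOpenImmersion.of_comp a' (pullback.fst f hU.fromSpec)
    have hup : hU.fromSpec p = f x := by
      have : p = hU.primeIdealOf ⟨f x, hxU⟩ := IsAffineOpen.comap_primeIdealOf_appLE U hU V hV hVU' hxV
      rw [this]; exact hU.fromSpec_primeIdealOf ⟨f x, hxU⟩
    have h1 : FormallyUnramified ((pullback.snd f hU.fromSpec).fiberToSpecResidueField p) :=
      MorphismProperty.of_isPullback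
        (isPullback_fiberToSpecResidueField_of_isPullback (IsPullback.of_hasPullback f hU.fromSpec) p)
        (hup.symm ▸ hfib)
    have h2 : Spec.map (CommRingCat.ofHom (algebraMap Γ(S, U) Γ(X, V))) = a' ≫ pullback.snd f hU.fromSpec :=
      (pullback.lift_snd _ _ _).symm
    rw [h2]
    let g := (pullbackRightPullbackFstIso (pullback.snd f hU.fromSpec) ((Spec Γ(S, U)).fromSpecResidueField p) a').inv ≫
      pullback.snd a' (pullback.fst (pullback.snd f hU.fromSpec) ((Spec Γ(S, U)).fromSpecResidueField p))
    have hg : IsOpenImmersion g :=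
      MorphismProperty.comp_mem _ _ _ inferInstance
        (MorphismProperty.pullback_snd (P := @IsOpenImmersion) _ _ inferInstance)
    have h3 : (a' ≫ pullback.snd f hU.fromSpec).fiberToSpecResidueField p =
        g ≫ (pullback.snd f hU.fromSpec).fiberToSpecResidueField p := by
      simp [g, Scheme.Hom.fiberToSpecResidueField, pullbackRightPullbackFstIso_inv_snd_snd]
    rw [h3]
    exact MorphismProperty.comp_mem @FormallyUnramified g _ inferInstance h1
  have hq1 : q ∈ Algebra.smoothLocus Γ(S, U) Γ(X, V) :=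
    (formallySmooth_stalkMap_iff U hU V hV hVU' hxV).mp hsm
  haveI : Algebra.IsEtaleAt Γ(S, U) q.asIdeal := by
    rw [← Algebra.mem_etaleLocus_iff, Algebra.etaleLocus_eq_unramfiedLocus_inter_smoothLocus]
    exact ⟨hq2, hq1⟩
  obtain ⟨r, hr, het⟩ := Algebra.exists_etale_of_isEtaleAt (R := Γ(S, U)) q.asIdeal
  refine ⟨X.basicOpen r, ?_, ?_⟩
  · have h1 : q ∈ hV.fromSpec ⁻¹ᵁ X.basicOpen r := by rw [hV.fromSpec_preimage_basicOpen]; exact hr
    have h2 : hV.fromSpec q = x := hV.fromSpec_primeIdealOf ⟨x, hxV⟩
    exact h2 ▸ h1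
  · have hD : IsAffineOpen (X.basicOpen r) := hV.basicOpen r
    have hDU : X.basicOpen r ≤ f ⁻¹ᵁ U := (X.basicOpen_le r).trans hVU'
    letI := (X.presheaf.map (homOfLE (X.basicOpen_le r)).op).hom.toAlgebra
    haveI : IsLocalization.Away r Γ(X, X.basicOpen r) := hV.isLocalization_basicOpen r
    letI := (f.appLE U (X.basicOpen r) hDU).hom.toAlgebra
    haveI : IsScalarTower Γ(S, U) Γ(X, V) Γ(X, X.basicOpen r) := IsScalarTower.of_algebraMap_eq' (by
      simp only [RingHom.algebraMap_toAlgebra]
      rw [← CommRingCat.hom_comp, Scheme.Hom.appLE_map])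
    haveI : Algebra.Etale Γ(S, U) Γ(X, X.basicOpen r) :=
      Algebra.Etale.of_equiv ((IsLocalization.algEquiv (Submonoid.powers r) (Localization.Away r)
        Γ(X, X.basicOpen r)).restrictScalars Γ(S, U))
    haveI : Etale (Spec.map (f.appLE U (X.basicOpen r) hDU)) := by
      rw [HasRingHomProperty.Spec_iff (P := @Etale)]
      exact (RingHom.etale_algebraMap (R := Γ(S, U)) (S := Γ(X, X.basicOpen r))).mpr inferInstance
    have h5 : (X.basicOpen r).ι ≫ f = hD.isoSpec.hom ≫ Spec.map (f.appLE U (X.basicOpen r) hDU) ≫ hU.fromSpec := by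
      rw [hU.SpecMap_appLE_fromSpec f hD hDU, ← IsAffineOpen.isoSpec_inv_ι, ← Category.assoc, ← Category.assoc,
        Iso.hom_inv_id, Category.id_comp]
    rw [h5]
    infer_instance

end FlatMisc
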