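import Mathlib
import Groth.Agent.S1386
import Groth.Agent.S2156
import Groth.Agent.GrpSchLib.UnramifiedFibre
import Groth.Agent.FlatMisc.InfNbhd

universe u
set_option autoImplicit false
open AlgebraicGeometry CategoryTheory CategoryTheory.Limits

namespace FlatMisc

variable {X Y S : Scheme.{u}} (g : Y ⟶ S) (f : X ⟶ Y)

theorem mem_range_fiberι (s : S) (y : Y) (hy : g y = s) : y ∈ Set.range (g.fiberι s).base := by
  rw [Scheme.Hom.range_fiberι]; exact hy

/-- flatness of `f` and `g` from flatness of the fibre map -/
theorem flat_of_flat_fibre [LocallyOfFiniteType g] [LocallyOfFinitePresentation (f ≫ g)] (x : X)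
    (hflat : ((f ≫ g).stalkMap x).hom.Flat) (hs : Flat (pullback.snd f (g.fiberι (g (f x))))) :
    (g.stalkMap (f x)).hom.Flat ∧ (f.stalkMap x).hom.Flat := by
  refine ((Groth.Agent.S1386.result f g).1 x).1 ⟨hflat, ?_⟩
  have h1 := Groth.Agent.ConsPropLib.isPullback_fiberMap f g (g (f x))
  haveI : Flat (MoreMor.fiberMap f g (g (f x))) := by
    rw [← h1.isoPullback_hom_snd]; infer_instance
  exact Flat.stalkMap _ _

theorem smooth_stalk_of_smooth_fibre [LocallyOfFiniteType g] [LocallyOfFinitePresentation (f ≫ g)]
    [LocallyOfFinitePresentation f] (x : X)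
    (hflat : ((f ≫ g).stalkMap x).hom.Flat) (hs : Smooth (pullback.snd f (g.fiberι (g (f x))))) :
    x ∈ f.smoothLocus := by
  haveI : Smooth (f.fiberToSpecResidueField (f.base x)) :=
    fiberToSpecResidueField_of_baseChange @Smooth f (g.fiberι (g (f x))) hs (f x) (mem_range_fiberι g _ _ rfl)
  rw [Groth.Agent.S2156.result f x]
  exact ⟨(flat_of_flat_fibre g f x hflat inferInstance).2, by
    rw [(f.fiberToSpecResidueField (f.base x)).smoothLocus_eq_top]; trivial⟩

theorem flat_of_flat_fibres [LocallyOfFiniteType g] [LocallyOfFinitePresentation (f ≫ g)] [Flat (f ≫ g)]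
    (hs : ∀ s : S, Flat (pullback.snd f (g.fiberι s))) : Flat f :=
  Flat.of_stalkMap _ fun x => (flat_of_flat_fibre g f x (Flat.stalkMap _ _) (hs _)).2

theorem smooth_of_smooth_fibres [LocallyOfFiniteType g] [LocallyOfFinitePresentation (f ≫ g)] [Flat (f ≫ g)]
    (hs : ∀ s : S, Smooth (pullback.snd f (g.fiberι s))) : Smooth f := by
  haveI : LocallyOfFinitePresentation f := Groth.Agent.AlgSpPts.locallyOfFinitePresentation_of_comp f g
  rw [← Scheme.Hom.smoothLocus_eq_top_iff, eq_top_iff]
  intro x _
  exact smooth_stalk_of_smooth_fibre g f x (Flat.stalkMap _ _) (hs _)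

theorem etale_of_etale_fibres [LocallyOfFiniteType g] [LocallyOfFinitePresentation (f ≫ g)] [Flat (f ≫ g)]
    (hs : ∀ s : S, Etale (pullback.snd f (g.fiberι s))) : Etale f := by
  haveI : LocallyOfFinitePresentation f := Groth.Agent.AlgSpPts.locallyOfFinitePresentation_of_comp f g
  haveI : Flat f := flat_of_flat_fibres g f (fun s => by have := hs s; infer_instance)
  haveI : FormallyUnramified f := Groth.Agent.GrpSchLib.formallyUnramified_of_fibres f (fun y => by
    haveI : Etale (f.fiberToSpecResidueField y) :=
      fiberToSpecResidueField_of_baseChange @Etale f (g.fiberι (g y)) (hs _) y (mem_range_fiberι g _ _ rfl)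
    infer_instance)
  exact Etale.of_formallyUnramified_of_flat f

theorem mono_of_mono_fibres [FormallyUnramified f] [LocallyOfFiniteType f]
    (hs : ∀ y : Y, Mono (f.fiberToSpecResidueField y)) : Mono f := by
  have hsurj : Function.Surjective (pullback.diagonal f).base := by
    intro z
    let a := (pullback f f).fromSpecResidueField z ≫ pullback.fst f f
    let b := (pullback f f).fromSpecResidueField z ≫ pullback.snd f f
    have hab : a ≫ f = b ≫ f := by simp only [a, b, Category.assoc, pullback.condition]
    let y := (pullback.fst f f ≫ f) z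
    obtain ⟨c, hc⟩ : ∃ c, c ≫ Y.fromSpecResidueField y = a ≫ f :=
      ⟨Spec.map ((pullback.fst f f ≫ f).residueFieldMap z), by
        rw [Scheme.Hom.SpecMap_residueFieldMap_fromSpecResidueField]
        simp only [a, Category.assoc]⟩
    haveI := hs y
    let la : Spec ((pullback f f).residueField z) ⟶ f.fiber y := pullback.lift a c hc.symm
    let lb : Spec ((pullback f f).residueField z) ⟶ f.fiber y := pullback.lift b c (hab.symm.trans hc.symm)
    have hl : la = lb := (cancel_mono (f.fiberToSpecResidueField y)).mp
      ((pullback.lift_snd _ _ _).trans (pullback.lift_snd _ _ _).symm)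
    have : a = b := by
      have := congrArg (· ≫ pullback.fst f (Y.fromSpecResidueField y)) hl
      exact (pullback.lift_fst _ _ _).symm.trans (this.trans (pullback.lift_fst _ _ _))
    have hz : a ≫ pullback.diagonal f = (pullback f f).fromSpecResidueField z := by
      apply pullback.hom_ext
      · simp [a]
      · rw [Category.assoc, pullback.diagonal_snd, Category.comp_id, this]
    refine ⟨a (IsLocalRing.closedPoint _), ?_⟩
    rw [← Scheme.Hom.comp_apply, hz]
    exact Scheme.fromSpecResidueField_apply _ _
  haveI : Surjective (pullback.diagonal f) := ⟨hsurj⟩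
  haveI : IsIso (pullback.diagonal f) :=
    (isIso_iff_isOpenImmersion_and_surjective _).mpr ⟨inferInstance, inferInstance⟩
  exact (pullback.isIso_diagonal_iff f).mp inferInstance

theorem isOpenImmersion_of_fibres [LocallyOfFiniteType g] [LocallyOfFinitePresentation (f ≫ g)] [Flat (f ≫ g)]
    (hs : ∀ s : S, IsOpenImmersion (pullback.snd f (g.fiberι s))) : IsOpenImmersion f := by
  haveI : LocallyOfFinitePresentation f := Groth.Agent.AlgSpPts.locallyOfFinitePresentation_of_comp f g
  haveI := etale_of_etale_fibres g f (fun s => by have := hs s; infer_instance)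
  haveI : Mono f := mono_of_mono_fibres f (fun y => by
    haveI : IsOpenImmersion (f.fiberToSpecResidueField y) :=
      fiberToSpecResidueField_of_baseChange @IsOpenImmersion f (g.fiberι (g y)) (hs _) y (mem_range_fiberι g _ _ rfl)
    infer_instance)
  exact IsOpenImmersion.of_flat_of_mono f

end FlatMisc
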