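import Mathlib
import Groth.Agent.FlatMisc.NearGeneric
import Groth.Agent.ConsPropLib.Loci
import Groth.Agent.S9735

/-!
# Constructibility of the geometrically reduced fibre locus
-/

universe u
set_option autoImplicit false
open AlgebraicGeometry CategoryTheory CategoryTheory.Limits TopologicalSpace Topology

namespace Groth.Agent.FlatMisc.GeomRedConstr

variable {X Y : Scheme.{u}}

/-- The geometrically reduced fibre locus. -/
def locus (f : X ⟶ Y) : Set Y := {y : Y | GeometricallyReduced (f.fiberToSpecResidueField y)}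

theorem geometricallyReduced_fiber_iff (f : X ⟶ Y) (y : Y) :
    GeometricallyReduced (f.fiberToSpecResidueField y) ↔ ∀ (K : Type u) [Field K]
      (φ : Spec (CommRingCat.of K) ⟶ Spec (Y.residueField y)),
      AlgebraicGeometry.IsReduced (pullback f (φ ≫ Y.fromSpecResidueField y)) := by
  have e : ∀ (K : Type u) [Field K] (φ : Spec (CommRingCat.of K) ⟶ Spec (Y.residueField y)),
      pullback (f.fiberToSpecResidueField y) φ ≅ pullback f (φ ≫ Y.fromSpecResidueField y) := fun K _ φ =>
    pullbackLeftPullbackSndIso f (Y.fromSpecResidueField y) φ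
  constructor
  · intro h K _ φ
    haveI : AlgebraicGeometry.IsReduced (pullback (f.fiberToSpecResidueField y) φ) :=
      h.geometrically_isReduced φ _ _ (IsPullback.of_hasPullback _ _)
    exact isReduced_of_isOpenImmersion (e K φ).inv
  · intro h
    refine ⟨fun K _ φ Z fst snd hZ => ?_⟩
    haveI := h K φ
    haveI : AlgebraicGeometry.IsReduced (pullback (f.fiberToSpecResidueField y) φ) :=
      isReduced_of_isOpenImmersion (e K φ).hom
    exact isReduced_of_isOpenImmersion hZ.isoPullback.hom

theorem mem_locus_iff_cover (f : X ⟶ Y) (𝒰 : X.OpenCover) (y : Y) :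
    y ∈ locus f ↔ ∀ i, y ∈ locus (𝒰.f i ≫ f) := by
  simp only [locus, Set.mem_ofPred_eq, geometricallyReduced_fiber_iff]
  constructor
  · intro h i K _ φ
    exact (IsReduced.iff_of_openCover _ (Scheme.Pullback.openCoverOfLeft 𝒰 f (φ ≫ Y.fromSpecResidueField y))).mp (h K φ) i
  · intro h K _ φ
    haveI : ∀ i, AlgebraicGeometry.IsReduced ((Scheme.Pullback.openCoverOfLeft 𝒰 f (φ ≫ Y.fromSpecResidueField y)).X i) :=
      fun i => h i K φ
    exact IsReduced.of_openCover _ (Scheme.Pullback.openCoverOfLeft 𝒰 f (φ ≫ Y.fromSpecResidueField y))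

theorem locus_preimage {X' Y' : Scheme.{u}} {f : X ⟶ Y} {g : Y' ⟶ Y} {f' : X' ⟶ Y'} {g' : X' ⟶ X}
    (hc : IsPullback g' f' f g) : locus f' = g ⁻¹' locus f := S9735.result f g f' g' hc

theorem isConstructible_locus [IsNoetherian Y] (f : X ⟶ Y) [LocallyOfFiniteType f] [QuasiCompact f] :
    IsConstructible (locus f) :=
  ConsPropLib.isConstructible_of_dichotomy _ fun T j _ _ _ => by
    rw [← locus_preimage (IsPullback.of_hasPullback f j)]
    by_cases h : GeometricallyReduced ((pullback.snd f j).fiberToSpecResidueField (genericPoint ↑T))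
    · left
      obtain ⟨V, ⟨t, ht⟩, hV⟩ := NearGeneric.exists_open_geomReduced h
      haveI := hV
      refine ⟨t, mem_interior.mpr ⟨V, fun v hv => ?_, V.isOpen, ht⟩⟩
      have h1 := locus_preimage (isPullback_morphismRestrict (pullback.snd f j) V).flip
      have h2 : (⟨v, hv⟩ : V.toScheme) ∈ locus (pullback.snd f j ∣_ V) :=
        (inferInstance : GeometricallyReduced ((pullback.snd f j ∣_ V).fiberToSpecResidueField _))
      rw [h1] at h2
      exact h2
    · right
      obtain ⟨V, ⟨t, ht⟩, hV⟩ := NearGeneric.exists_open_not_geomReduced h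
      exact ⟨t, mem_interior.mpr ⟨V, fun v hv => hV v hv, V.isOpen, ht⟩⟩

theorem isConstructible_locus_affine [IsAffine Y] [IsAffine X] (f : X ⟶ Y) [LocallyOfFinitePresentation f] :
    IsConstructible (locus f) := by
  obtain ⟨S₀, X₀, _, π, u₀, _, qX, _, hS₀, hA, hl, hqc, -, -, sq, -⟩ := ConsPropLib.exists_model_pair f f
  haveI := hS₀; haveI := hA; haveI := hl; haveI := hqc
  rw [locus_preimage sq]
  refine (isConstructible_locus u₀).preimage π.continuous fun s hs hsc => ?_
  have hc : IsCompact s := by simpa using hsc isCompact_univ isOpen_univ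
  intro W hW hWo
  exact QuasiSeparatedSpace.inter_isCompact (π ⁻¹' s) W (hs.preimage π.continuous) (QuasiCompact.isCompact_preimage (f := π) _ hs hc) hWo hW

theorem isLocallyConstructible_locus (f : X ⟶ Y) [LocallyOfFinitePresentation f] [QuasiCompact f] :
    IsLocallyConstructible (locus f) :=
  ConsPropLib.lc_of_affine fun V hV => by
    haveI : IsAffine V.toScheme := hV
    rw [← locus_preimage (isPullback_morphismRestrict f V).flip]
    haveI : LocallyOfFinitePresentation (f ∣_ V) := IsZariskiLocalAtTarget.restrict ‹_› _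
    haveI : QuasiCompact (f ∣_ V) := IsZariskiLocalAtTarget.restrict ‹_› _
    haveI : CompactSpace ↥(f ⁻¹ᵁ V).toScheme := QuasiCompact.compactSpace_of_compactSpace (f ∣_ V)
    let 𝒰 := (f ⁻¹ᵁ V).toScheme.affineCover.finiteSubcover
    have : locus (f ∣_ V) = ⋂ i, locus (𝒰.f i ≫ (f ∣_ V)) := by
      ext y
      rw [Set.mem_iInter, mem_locus_iff_cover (f ∣_ V) 𝒰]
    rw [this]
    haveI : Finite 𝒰.I₀ := Finite.of_fintype _
    exact IsConstructible.iInter fun i => isConstructible_locus_affine _

end Groth.Agent.FlatMisc.GeomRedConstr
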