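import Mathlib
import Groth.Agent.FlatMisc.GenFlat
import Groth.Agent.H23.RedSub

/-!
# Over a nonempty open every point generizes into the generic fibre
-/

universe u
set_option autoImplicit false
open AlgebraicGeometry CategoryTheory CategoryTheory.Limits TopologicalSpace Topology

namespace Groth.Agent.FlatMisc.GenerizeNear

theorem generizingMap_of_flat {X Y : Scheme.{u}} (f : X ⟶ Y) [Flat f] {x : X} {y : Y} (h : y ⤳ f x) :
    ∃ z : X, z ⤳ x ∧ f z = y :=
  Flat.generalizingMap f h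

/-- Over some nonempty open, every point of the source has a generization in the generic fibre. -/
theorem exists_open {X Y : Scheme.{u}} (f : X ⟶ Y) [IrreducibleSpace ↑Y] [LocallyOfFiniteType f] [QuasiCompact f] :
    ∃ V : Y.Opens, (V : Set ↑Y).Nonempty ∧ ∀ x : X, f x ∈ V → ∃ z : X, z ⤳ x ∧ f z = genericPoint ↑Y := by
  obtain ⟨Y', i, hi, hred, hr⟩ := Groth.Agent.H23.RedSub.exists_reduced_subscheme Y (S := Set.univ) isClosed_univ.isLocallyClosed
  haveI := hi
  obtain ⟨η', hη'⟩ := (show genericPoint ↑Y ∈ Set.range i by rw [hr]; trivial)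
  haveI : Nonempty Y' := ⟨η'⟩
  obtain ⟨W, hW, -, hflat, -⟩ := _root_.FlatMisc.exists_flat_open (pullback.snd f i) ⊤ (by simp)
  obtain ⟨O, hO, hOW⟩ := i.isEmbedding.isInducing.isOpen_iff.mp W.isOpen
  refine ⟨⟨O, hO⟩, ?_, fun x hx => ?_⟩
  · obtain ⟨w, hw⟩ := hW
    exact ⟨i w, (hOW.symm ▸ hw : w ∈ i ⁻¹' O)⟩
  obtain ⟨y', hy'⟩ := (show f x ∈ Set.range i by rw [hr]; trivial)
  obtain ⟨x', hx₁, hx₂⟩ := Scheme.Pullback.exists_preimage_pullback x y' hy'.symm
  have hy'W : y' ∈ W := by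
    show y' ∈ (W : Set Y')
    rw [← hOW]
    show i y' ∈ O
    rw [hy']; exact hx
  have hηy : η' ⤳ y' := by
    rw [← i.isEmbedding.isInducing.specializes_iff, hη']
    exact (genericPoint_spec ↑Y).specializes (Set.mem_univ _)
  have hηW : η' ∈ W := hηy.mem_open W.isOpen hy'W
  haveI := hflat
  have hx'W : x' ∈ (pullback.snd f i) ⁻¹ᵁ W := by show pullback.snd f i x' ∈ W; rw [hx₂]; exact hy'W
  have hsp : (⟨η', hηW⟩ : W) ⤳ (pullback.snd f i ∣_ W) ⟨x', hx'W⟩ := by
    refine (W.ι.isOpenEmbedding.isInducing.specializes_iff).mp ?_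
    show η' ⤳ W.ι ((pullback.snd f i ∣_ W) ⟨x', hx'W⟩)
    rw [show W.ι ((pullback.snd f i ∣_ W) ⟨x', hx'W⟩) = y' from (morphismRestrict_base_coe _ W _).trans hx₂]
    exact hηy
  obtain ⟨z', hz', hz''⟩ := generizingMap_of_flat (pullback.snd f i ∣_ W) hsp
  refine ⟨pullback.fst f i z'.1, ?_, ?_⟩
  · rw [← hx₁]
    exact (hz'.map continuous_subtype_val).map (pullback.fst f i).continuous
  · have h1 : pullback.snd f i z'.1 = η' := by
      rw [← morphismRestrict_base_coe (pullback.snd f i) W z', hz'']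
    show (pullback.fst f i ≫ f) z'.1 = _
    rw [pullback.condition]
    show i (pullback.snd f i z'.1) = _
    rw [h1, hη']

/-- Closed subsets covering the generic fibre have closures covering the fibres near it. -/
theorem exists_open_covered {X Y : Scheme.{u}} (f : X ⟶ Y) [IrreducibleSpace ↑Y] [LocallyOfFiniteType f] [QuasiCompact f]
    {ι : Type*} (Z : ι → Set ↑(f.fiber (genericPoint ↑Y))) (hcov : ⋃ i, Z i = Set.univ) :
    ∃ V : Y.Opens, (V : Set ↑Y).Nonempty ∧ ∀ y ∈ V,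
      ⋃ i, (f.fiberι y) ⁻¹' closure ((f.fiberι (genericPoint ↑Y)) '' Z i) = Set.univ := by
  obtain ⟨V, hV, h⟩ := exists_open f
  refine ⟨V, hV, fun y hy => Set.eq_univ_of_forall fun w => ?_⟩
  have hw : f (f.fiberι y w) = y := (f.range_fiberι y).le ⟨w, rfl⟩
  obtain ⟨z, hz, hzη⟩ := h (f.fiberι y w) (by rw [hw]; exact hy)
  obtain ⟨w', rfl⟩ : z ∈ Set.range (f.fiberι (genericPoint ↑Y)) := by rw [f.range_fiberι]; exact hzη
  obtain ⟨i, hi⟩ := Set.mem_iUnion.mp (hcov.ge (Set.mem_univ w'))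
  exact Set.mem_iUnion.mpr ⟨i, hz.mem_closed isClosed_closure (subset_closure ⟨w', hi, rfl⟩)⟩

end Groth.Agent.FlatMisc.GenerizeNear
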