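import Mathlib
import Groth.Agent.FlatMisc.GeomRedConstr

/-!
# Noetherian approximation of affine morphisms with geometrically reduced fibres
-/

universe u
set_option autoImplicit false
open AlgebraicGeometry CategoryTheory CategoryTheory.Limits TopologicalSpace Topology

namespace Groth.Agent.FlatMisc.ApproxGeomRed

open ConsPropLib in
theorem exists_affine_model {X S : Scheme.{u}} (f : X ⟶ S) [IsAffine X] [IsAffine S] [LocallyOfFinitePresentation f] :
    ∃ (j : (Finset Γ(S, ⊤))ᵒᵖ) (X₀ : Scheme.{u}) (f₀ : X₀ ⟶ (NoethApprox.diagram Γ(S, ⊤)).obj j) (g : X ⟶ X₀),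
      IsAffine X₀ ∧ LocallyOfFinitePresentation f₀ ∧
        IsPullback g f f₀ (S.isoSpec.hom ≫ (NoethApprox.cone Γ(S, ⊤)).π.app j) := by
  classical
  let E := NoethApprox.diagram Γ(S, ⊤)
  let e := NoethApprox.cone Γ(S, ⊤)
  have he : IsLimit e := NoethApprox.isLimit _
  let h : X ⟶ e.pt := f ≫ S.isoSpec.hom
  haveI : IsAffine e.pt := Scheme.isAffine_of_isLimit _ he
  haveI : IsIso S.isoSpec.hom := Iso.isIso_hom _
  haveI : LocallyOfFinitePresentation h := inferInstanceAs (LocallyOfFinitePresentation (f ≫ S.isoSpec.hom))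
  have hfp : h.appTop.hom.FinitePresentation :=
    (HasRingHomProperty.iff_of_isAffine (P := @LocallyOfFinitePresentation)).1 inferInstance
  letI := h.appTop.hom.toAlgebra
  haveI : Algebra.FinitePresentation Γ(e.pt, ⊤) Γ(X, ⊤) := hfp
  let P := Algebra.Presentation.ofFinitePresentation Γ(e.pt, ⊤) Γ(X, ⊤)
  have lift : ∀ r : Γ(e.pt, ⊤), ∃ (i : (Finset Γ(S, ⊤))ᵒᵖ) (t : Γ(E.obj i, ⊤)), (e.π.app i).appTop t = r :=
    fun r => exists_appTop_π_eq_of_isAffine_of_isLimit _ _ he r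
  choose st t ht using lift
  obtain ⟨j, hj⟩ := IsCofiltered.inf_objs_exists (P.finite_coeffs.toFinset.image st)
  have hcoe : P.coeffs ⊆ Set.range (e.π.app j).appTop.hom := fun r hr => by
    let φ := (@hj (st r) (Finset.mem_image.2 ⟨r, P.finite_coeffs.mem_toFinset.2 hr, rfl⟩)).some
    refine ⟨(E.map φ).appTop (t r), ?_⟩
    have := ht r
    rw [← e.w φ] at this
    simpa [-Cone.w] using this
  obtain ⟨S₀, χ, ρ, hχ, hpo⟩ := exists_isPushout_of_coeffs (e.π.app j).appTop h.appTop P hcoe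
  haveI : LocallyOfFinitePresentation (Spec.map χ) :=
    (HasRingHomProperty.Spec_iff (P := @LocallyOfFinitePresentation)).2 hχ
  let π : e.pt ⟶ E.obj j := e.π.app j
  have sq : IsPullback (X.toSpecΓ ≫ Spec.map ρ) h (Spec.map χ ≫ (E.obj j).isoSpec.inv) π :=
    (isPullback_SpecMap_of_isPushout _ _ _ _ hpo).flip.of_iso X.isoSpec.symm (Iso.refl _) e.pt.isoSpec.symm
      (E.obj j).isoSpec.symm (by simp [Scheme.isoSpec_hom]) (by
        rw [Iso.symm_hom, Iso.symm_hom, Scheme.isoSpec_inv_naturality])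
      (by simp) (Scheme.isoSpec_inv_naturality π)
  refine ⟨j, Spec S₀, Spec.map χ ≫ (E.obj j).isoSpec.inv, X.toSpecΓ ≫ Spec.map ρ, inferInstance, inferInstance, ?_⟩
  have hsq : IsPullback (𝟙 X) f h S.isoSpec.hom := IsPullback.of_horiz_isIso ⟨by simp [h]⟩
  have h2 := hsq.paste_horiz sq
  rw [Category.id_comp] at h2
  exact h2

theorem isIndConstructible {T : Type u} [TopologicalSpace T] {E : Set T} (h : IsLocallyConstructible E) :
    ProCons.IsIndConstructible E := fun _ =>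
  ⟨Set.univ, isOpen_univ, trivial, {Subtype.val ⁻¹' E}, by
    rintro _ rfl; exact h.preimage_of_isOpenEmbedding isOpen_univ.isOpenEmbedding_subtypeVal, by simp⟩

open ConsPropLib in
theorem exists_model_geomReduced {X S : Scheme.{u}} (f : X ⟶ S) [IsAffine X] [IsAffine S]
    [LocallyOfFinitePresentation f] [GeometricallyReduced f] :
    ∃ (X₀ S₀ : Scheme.{u}) (f₀ : X₀ ⟶ S₀) (g : S ⟶ S₀) (g' : X ⟶ X₀), IsAffine X₀ ∧ IsAffine S₀ ∧ IsPullback g' f f₀ g ∧
      Algebra.FiniteType ℤ Γ(S₀, ⊤) ∧ LocallyOfFiniteType f₀ ∧ GeometricallyReduced f₀ := by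
  obtain ⟨i, X₀, f₀, g, hX, hfp, sq⟩ := exists_affine_model f
  haveI := hX; haveI := hfp
  let e := NoethApprox.cone Γ(S, ⊤)
  let D := NoethApprox.diagram Γ(S, ⊤)
  haveI : ∀ {i j} (φ : i ⟶ j), IsAffineHom (D.map φ) := fun φ => NoethApprox.isAffineHom_map _ φ
  haveI : IsNoetherian (D.obj i) := NoethApprox.isNoetherian_obj _ i
  haveI : QuasiCompact f₀ := inferInstance
  have hsub : e.π.app i ⁻¹' (((⊤ : (D.obj i).Opens) : Set (D.obj i)) ∩ Set.univ) ⊆ e.π.app i ⁻¹' GeomRedConstr.locus f₀ := by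
    intro s _
    have hs : S.isoSpec.inv s ∈ GeomRedConstr.locus f :=
      (inferInstance : GeometricallyReduced (f.fiberToSpecResidueField _))
    rw [GeomRedConstr.locus_preimage sq, Set.mem_preimage, Scheme.Hom.comp_apply,
      ← Scheme.Hom.comp_apply S.isoSpec.inv, Iso.inv_hom_id] at hs
    exact hs
  obtain ⟨j, φ, hj⟩ := MorLib.LimCons.exists_subset_open (NoethApprox.isLimit Γ(S, ⊤)) i ⊤ isCompact_univ
    (MorLib.LimCons.pro_univ) (isIndConstructible
      (GeomRedConstr.isConstructible_locus f₀).isLocallyConstructible) hsub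
  haveI : IsAffine (D.obj j) := NoethApprox.isAffine_obj _ j
  haveI : IsAffine (D.obj i) := NoethApprox.isAffine_obj _ i
  have hπ : ∀ (πi : S ⟶ D.obj i), πi = S.isoSpec.hom ≫ e.π.app i →
      (S.isoSpec.hom ≫ e.π.app j : S ⟶ D.obj j) ≫ D.map φ = πi := fun πi h => by
    rw [h]; exact (Category.assoc _ _ _).trans (congrArg _ (e.w φ))
  have hw : g ≫ f₀ = (f ≫ (S.isoSpec.hom ≫ e.π.app j : S ⟶ D.obj j)) ≫ D.map φ :=
    sq.w.trans ((congrArg (f ≫ ·) (hπ _ rfl).symm).trans (Category.assoc _ _ _).symm)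
  refine ⟨pullback f₀ (D.map φ), D.obj j, pullback.snd f₀ (D.map φ), S.isoSpec.hom ≫ e.π.app j,
    pullback.lift g _ hw, inferInstance, inferInstance, ?_, ?_, inferInstance, ?_⟩
  · refine IsPullback.of_right ?_ (pullback.lift_snd _ _ _) (IsPullback.of_hasPullback f₀ (D.map φ))
    rw [pullback.lift_fst, hπ _ rfl]
    exact sq
  · haveI : Algebra.FiniteType ℤ (Algebra.adjoin ℤ ((j.unop : Finset Γ(S, ⊤)) : Set Γ(S, ⊤))) :=
      Algebra.FiniteType.adjoin_of_finite (Finset.finite_toSet _)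
    exact Algebra.FiniteType.equiv ‹_›
      ((Scheme.ΓSpecIso (CommRingCat.of (Algebra.adjoin ℤ ((j.unop : Finset Γ(S, ⊤)) : Set Γ(S, ⊤))))).symm.commRingCatIsoToRingEquiv.toIntAlgEquiv)
  · rw [GeometricallyReduced.eq_geometrically, geometrically_iff_forall_fiberToSpecResidueField,
      ← GeometricallyReduced.eq_geometrically]
    intro y
    show y ∈ GeomRedConstr.locus (pullback.snd f₀ (D.map φ))
    rw [GeomRedConstr.locus_preimage (IsPullback.of_hasPullback f₀ (D.map φ))]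
    exact hj ⟨trivial, trivial⟩

end Groth.Agent.FlatMisc.ApproxGeomRed
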