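import Mathlib
import Groth.Agent.FibDim.LocDim
import Groth.Agent.FibDim.Semicont

/-!
# Constructibility of the level sets of the fibre dimension
-/

universe u
set_option autoImplicit false
open AlgebraicGeometry CategoryTheory TopologicalSpace Topology

namespace Groth.Agent.FlatMisc.DimConstr

variable {X Y : Scheme.{u}} (f : X ⟶ Y) [LocallyOfFinitePresentation f] [QuasiCompact f]

omit f in
theorem compl {s : Set X} (hs : IsLocallyConstructible s) : IsLocallyConstructible sᶜ := fun x => by
  obtain ⟨U, hU, hUo, hc⟩ := hs x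
  exact ⟨U, hU, hUo, hc.compl⟩

theorem isLocallyConstructible_le_dim (n : ℕ) :
    IsLocallyConstructible {y : Y | (n : WithBot ℕ∞) ≤ topologicalKrullDim ↥(f.fiber y)} := by
  cases n with
  | zero =>
    have : {y : Y | ((0 : ℕ) : WithBot ℕ∞) ≤ topologicalKrullDim ↥(f.fiber y)} = f '' Set.univ := by
      ext y
      rw [Set.mem_setOf_eq, FibDim.le_topologicalKrullDim_fiber_iff]
      exact ⟨fun ⟨z, hz, _⟩ => ⟨z, trivial, hz⟩, fun ⟨z, _, hz⟩ => ⟨z, hz, Nat.zero_le _⟩⟩
    rw [this]
    exact f.isLocallyConstructible_image IsConstructible.univ.isLocallyConstructible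
  | succ n =>
    have : {y : Y | ((n + 1 : ℕ) : WithBot ℕ∞) ≤ topologicalKrullDim ↥(f.fiber y)} =
        f '' {x : X | FlatMor.fibreDimAt f x ≤ n}ᶜ := by
      ext y
      rw [Set.mem_setOf_eq, FibDim.le_topologicalKrullDim_fiber_iff]
      constructor
      · rintro ⟨z, hz, hn⟩
        refine ⟨z, fun (hle : FlatMor.fibreDimAt f z ≤ n) => ?_, hz⟩
        have h1 := le_trans (FibDim.fibreDimAt_ge_rd f (specializes_refl z)) hle
        have h2 : FibDim.rd f z ≤ n := by exact_mod_cast h1
        omega
      · rintro ⟨x, hx, rfl⟩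
        obtain ⟨z, -, hfz, -, he⟩ := FibDim.exists_fibMax_generization f x
        refine ⟨z, hfz, ?_⟩
        by_contra hn
        apply hx
        show FlatMor.fibreDimAt f x ≤ _
        rw [he]
        exact_mod_cast (show FibDim.rd f z ≤ n by omega)
    rw [this]
    exact f.isLocallyConstructible_image (compl ((FibDim.isRetrocompact_setOf_fibreDimAt_le f n).isConstructible
      (FibDim.isOpen_fibreDimAt_le f n)).isLocallyConstructible)

theorem exists_dim_le (y : Y) : ∃ n : ℕ, topologicalKrullDim ↥(f.fiber y) ≤ (n : WithBot ℕ∞) := by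
  have hc : IsCompact (f ⁻¹' {y}) := f.isCompact_preimage_singleton y
  obtain ⟨n, hn⟩ := hc.elim_directed_cover (fun n : ℕ => {x : X | FlatMor.fibreDimAt f x ≤ n})
    (fun n => FibDim.isOpen_fibreDimAt_le f n)
    (fun x _ => by
      obtain ⟨z, -, -, -, he⟩ := FibDim.exists_fibMax_generization f x
      exact Set.mem_iUnion.mpr ⟨FibDim.rd f z, by rw [Set.mem_setOf_eq, he]; rfl⟩)
    (fun a b => ⟨max a b, fun x (hx : FlatMor.fibreDimAt f x ≤ a) => show _ ≤ _ from hx.trans (by exact_mod_cast le_max_left a b),
      fun x (hx : FlatMor.fibreDimAt f x ≤ b) => show _ ≤ _ from hx.trans (by exact_mod_cast le_max_right a b)⟩)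
  refine ⟨n, ?_⟩
  rw [FibDim.topologicalKrullDim_fiber]
  exact iSup_le fun z => (FibDim.fibreDimAt_ge_rd f (specializes_refl _)).trans (hn z.2)

theorem isLocallyConstructible_dim_eq (n : WithBot ℕ∞) :
    IsLocallyConstructible {y : Y | topologicalKrullDim ↥(f.fiber y) = n} := by
  induction n using WithBot.recBotCoe with
  | bot =>
    convert compl (isLocallyConstructible_le_dim f 0) using 1
    ext y
    simp only [Set.mem_setOf_eq, Set.mem_compl_iff, Nat.cast_zero]
    constructor
    · intro h; rw [h]; simp
    · intro h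
      by_contra hne
      obtain ⟨a, ha⟩ := WithBot.ne_bot_iff_exists.mp hne
      apply h
      rw [← ha]
      exact WithBot.coe_le_coe.mpr zero_le
  | coe a =>
    induction a using ENat.recTopCoe with
    | top =>
      convert IsConstructible.empty.isLocallyConstructible using 1
      ext y
      simp only [Set.mem_setOf_eq, Set.mem_empty_iff_false, iff_false]
      intro h
      obtain ⟨m, hm⟩ := exists_dim_le f y
      rw [h] at hm
      exact absurd (WithBot.coe_le_coe.mp hm) (by simp)
    | coe a =>
      convert (isLocallyConstructible_le_dim f a).inter (compl (isLocallyConstructible_le_dim f (a + 1))) using 1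
      ext y
      simp only [Set.mem_setOf_eq, Set.mem_inter_iff, Set.mem_compl_iff]
      generalize topologicalKrullDim ↥(f.fiber y) = d
      induction d using WithBot.recBotCoe with
      | bot => simp
      | coe d =>
        induction d using ENat.recTopCoe with
        | top =>
          refine iff_of_false (fun h => ?_) (fun h => h.2 ?_)
          · exact ENat.top_ne_natCast a (WithBot.coe_inj.mp h)
          · exact WithBot.coe_le_coe.mpr le_top
        | coe d =>
          show ((d : ℕ∞) : WithBot ℕ∞) = ((a : ℕ∞) : WithBot ℕ∞) ↔ ((a : ℕ∞) : WithBot ℕ∞) ≤ _ ∧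
            ¬ (((a + 1 : ℕ) : ℕ∞) : WithBot ℕ∞) ≤ _
          simp only [WithBot.coe_inj, WithBot.coe_le_coe, Nat.cast_inj, Nat.cast_le]
          omega

end Groth.Agent.FlatMisc.DimConstr
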