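import Mathlib
import Groth.Agent.FlatMisc.ApproxGeomRed
import Groth.Agent.FlatMisc.DimConstr
import Groth.Agent.FibDim.BaseChange

/-!
# Noetherian approximation keeping the fibre dimension
-/

universe u
set_option autoImplicit false
open AlgebraicGeometry CategoryTheory CategoryTheory.Limits TopologicalSpace Topology

namespace Groth.Agent.FlatMisc.ApproxDim

theorem fibre_dim_baseChange {X Y X' Y' : Scheme.{u}} {f : X ⟶ Y} {g : Y' ⟶ Y} {f' : X' ⟶ Y'} {g' : X' ⟶ X}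
    [LocallyOfFiniteType f] (hc : IsPullback g' f' f g) (y' : Y') :
    topologicalKrullDim ↥(f'.fiber y') = topologicalKrullDim ↥(f.fiber (g y')) := by
  haveI : LocallyOfFiniteType f' := MorphismProperty.of_isPullback hc ‹_›
  rw [FibDim.topologicalKrullDim_fiber, FibDim.topologicalKrullDim_fiber]
  refine le_antisymm (iSup_le fun z => ?_) (iSup_le fun z => ?_)
  · have hz : f (g' z.1) = g y' := by
      rw [← Scheme.Hom.comp_apply, hc.w, Scheme.Hom.comp_apply, show f' z.1 = y' from z.2]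
    exact le_trans (by exact_mod_cast FibDim.rd_baseChange_le hc z.1) (le_iSup _ (⟨g' z.1, hz⟩ : ↥(f ⁻¹' {g y'})))
  · obtain ⟨x', hx', hfx', he⟩ := FibDim.exists_rd_baseChange_eq hc z.1 y' z.2
    exact le_trans (by rw [he]) (le_iSup _ (⟨x', hfx'⟩ : ↥(f' ⁻¹' {y'})))

open ConsPropLib in
theorem exists_model_dim {X S : Scheme.{u}} (f : X ⟶ S) [IsAffine X] [IsAffine S]
    [LocallyOfFinitePresentation f] (d : ℕ) (hd : ∀ s : S, topologicalKrullDim ↥(f.fiber s) = d) :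
    ∃ (X₀ S₀ : Scheme.{u}) (f₀ : X₀ ⟶ S₀) (g : S ⟶ S₀) (g' : X ⟶ X₀), IsAffine X₀ ∧ IsAffine S₀ ∧ IsPullback g' f f₀ g ∧
      Algebra.FiniteType ℤ Γ(S₀, ⊤) ∧ LocallyOfFiniteType f₀ ∧ ∀ s₀ : S₀, topologicalKrullDim ↥(f₀.fiber s₀) = d := by
  obtain ⟨i, X₀, f₀, g, hX, hfp, sq⟩ := ApproxGeomRed.exists_affine_model f
  haveI := hX; haveI := hfp
  let e := NoethApprox.cone Γ(S, ⊤)
  let D := NoethApprox.diagram Γ(S, ⊤)
  haveI : ∀ {i j} (φ : i ⟶ j), IsAffineHom (D.map φ) := fun φ => NoethApprox.isAffineHom_map _ φ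
  haveI : IsNoetherian (D.obj i) := NoethApprox.isNoetherian_obj _ i
  haveI : QuasiCompact f₀ := inferInstance
  let L : Set (D.obj i) := {y | topologicalKrullDim ↥(f₀.fiber y) = ((d : ℕ∞) : WithBot ℕ∞)}
  have hsub : e.π.app i ⁻¹' (((⊤ : (D.obj i).Opens) : Set (D.obj i)) ∩ Set.univ) ⊆ e.π.app i ⁻¹' L := by
    intro s _
    have hs := hd (S.isoSpec.inv s)
    rw [fibre_dim_baseChange sq, Scheme.Hom.comp_apply,
      ← Scheme.Hom.comp_apply S.isoSpec.inv, Iso.inv_hom_id] at hs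
    exact hs
  obtain ⟨j, φ, hj⟩ := MorLib.LimCons.exists_subset_open (NoethApprox.isLimit Γ(S, ⊤)) i ⊤ isCompact_univ
    (MorLib.LimCons.pro_univ) (ApproxGeomRed.isIndConstructible
      (DimConstr.isLocallyConstructible_dim_eq f₀ _)) hsub
  haveI : IsAffine (D.obj j) := NoethApprox.isAffine_obj _ j
  haveI : IsAffine (D.obj i) := NoethApprox.isAffine_obj _ i
  have hπ : ∀ (πi : S ⟶ D.obj i), πi = S.isoSpec.hom ≫ e.π.app i →
      (S.isoSpec.hom ≫ e.π.app j : S ⟶ D.obj j) ≫ D.map φ = πi := fun πi h => by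
    rw [h]; exact (Category.assoc _ _ _).trans (congrArg _ (e.w φ))
  have hw : g ≫ f₀ = (f ≫ (S.isoSpec.hom ≫ e.π.app j : S ⟶ D.obj j)) ≫ D.map φ :=
    sq.w.trans ((congrArg (f ≫ ·) (hπ _ rfl).symm).trans (Category.assoc _ _ _).symm)
  refine ⟨pullback f₀ (D.map φ), D.obj j, pullback.snd f₀ (D.map φ), S.isoSpec.hom ≫ e.π.app j,
    pullback.lift g _ hw, inferInstance, inferInstance, ?_, ?_, inferInstance, ?_⟩
  · refine IsPullback.of_right ?_ (pullback.lift_snd _ _ _) (IsPullback.of_hasPullback f₀ (D.map φ))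
    rw [pullback.lift_fst, hπ _ rfl]
    exact sq
  · haveI : Algebra.FiniteType ℤ (Algebra.adjoin ℤ ((j.unop : Finset Γ(S, ⊤)) : Set Γ(S, ⊤))) :=
      Algebra.FiniteType.adjoin_of_finite (Finset.finite_toSet _)
    exact Algebra.FiniteType.equiv ‹_›
      ((Scheme.ΓSpecIso (CommRingCat.of (Algebra.adjoin ℤ ((j.unop : Finset Γ(S, ⊤)) : Set Γ(S, ⊤))))).symm.commRingCatIsoToRingEquiv.toIntAlgEquiv)
  · intro y
    rw [fibre_dim_baseChange (IsPullback.of_hasPullback f₀ (D.map φ))]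
    exact hj ⟨trivial, trivial⟩

end Groth.Agent.FlatMisc.ApproxDim
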