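import Mathlib
import Groth.Agent.GrpSchLib.HomFibre
import Groth.Agent.S3694

/-!
A proper morphism from a flat proper finitely presented scheme is an isomorphism near an isomorphic
fibre.
-/

set_option autoImplicit false

universe u

open CategoryTheory CategoryTheory.Limits AlgebraicGeometry

namespace Groth.Agent.FibreIsoLocus

open GrpSchLib

/-- The complement of the image of a closed set under a closed map, as an open. -/
def avoid {X S : Scheme.{u}} (g : X ⟶ S) [UniversallyClosed g] (C : Set X) (hC : IsClosed C) :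
    S.Opens :=
  ⟨(g '' C)ᶜ, (g.isClosedMap C hC).isOpen_compl⟩

theorem mem_avoid {X S : Scheme.{u}} {g : X ⟶ S} [UniversallyClosed g] {C : Set X} {hC : IsClosed C}
    {s : S} : s ∈ avoid g C hC ↔ ∀ x ∈ C, g x ≠ s := by
  simp [avoid]

variable {S : Scheme.{u}} {G H : Over S} (u : G ⟶ H)

theorem exists_nhd [IsProper G.hom] [LocallyOfFinitePresentation G.hom] [Flat G.hom]
    [IsProper H.hom] (s : S) [IsIso (HomFibre.fib u s).left] :
    ∃ W : S.Opens, s ∈ W ∧ IsIso (u.left ∣_ (H.hom ⁻¹ᵁ W)) := by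
  let f := u.left
  let F := (HomFibre.fib u s).left
  have hw : f ≫ H.hom = G.hom := Over.w u
  haveI : IsProper (f ≫ H.hom) := by rw [hw]; infer_instance
  haveI : IsProper f := IsProper.of_comp f H.hom
  have hsq : IsPullback (HomFibre.incl G s) F f (HomFibre.incl H s) := HomFibre.map_isPullback u _
  -- points of `H` over `s`
  have hrange : ∀ y : H.left, H.hom y = s → ∃ y', HomFibre.incl H s y' = y := fun y hy ↦ by
    obtain ⟨z, hz⟩ := HomFibre.exists_incl (G := H) y
    subst hy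
    exact ⟨z, hz⟩
  -- the étale locus
  let E : Set G.left := Loci.loc @Etale f
  have hE : ∀ x, G.hom x = s → x ∈ E := by
    intro x hx
    obtain ⟨z, hz⟩ := HomFibre.exists_incl (G := G) x
    subst hx
    rw [← hz]
    refine (HomFibre.etale_iff u _ z).mp ⟨⊤, trivial, ?_⟩
    haveI : IsIso (HomFibre.fib u (G.hom x)).left := ‹_›
    infer_instance
  let Δ := pullback.diagonal f
  have hΔE : IsOpen (Δ '' E) := by
    refine isOpen_iff_forall_mem_open.mpr ?_
    rintro _ ⟨x, ⟨U, hxU, hU⟩, rfl⟩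
    haveI := hU
    let m := pullback.map (U.ι ≫ f) (U.ι ≫ f) f f U.ι U.ι (𝟙 _) (Category.comp_id _) (Category.comp_id _)
    haveI : IsOpenImmersion m := inferInstance
    have e : U.ι ≫ Δ = pullback.diagonal (U.ι ≫ f) ≫ m := by
      apply pullback.hom_ext <;> simp [Δ, m, pullback.map]
      all_goals first
        | erw [pullback.lift_fst, pullback.diagonal_fst_assoc]
        | erw [pullback.lift_snd, pullback.diagonal_snd_assoc]
    refine ⟨Set.range (U.ι ≫ Δ), ?_, ?_, ⟨⟨x, hxU⟩, rfl⟩⟩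
    · rintro _ ⟨z, rfl⟩
      exact ⟨U.ι z, ⟨U, z.2, hU⟩, rfl⟩
    · rw [e]
      exact (pullback.diagonal (U.ι ≫ f) ≫ m).isOpenEmbedding.isOpen_range
  have hfE : IsOpen (f '' E) := by
    refine isOpen_iff_forall_mem_open.mpr ?_
    rintro _ ⟨x, ⟨U, hxU, hU⟩, rfl⟩
    haveI := hU
    refine ⟨Set.range (U.ι ≫ f), ?_, (U.ι ≫ f).isOpenMap.isOpen_range, ⟨⟨x, hxU⟩, rfl⟩⟩
    rintro _ ⟨z, rfl⟩
    exact ⟨U.ι z, ⟨U, z.2, hU⟩, rfl⟩
  let p := pullback.fst f f ≫ f ≫ H.hom
  haveI : IsProper p := inferInstance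
  let W1 := avoid G.hom Eᶜ (Loci.isOpen_loc _ _).isClosed_compl
  let W2 := avoid p (Δ '' E)ᶜ hΔE.isClosed_compl
  let W3 := avoid H.hom (f '' E)ᶜ hfE.isClosed_compl
  have hsW1 : s ∈ W1 := mem_avoid.mpr fun x hx h ↦ hx (hE x h)
  have hsW3 : s ∈ W3 := by
    refine mem_avoid.mpr fun y hy hys ↦ hy ?_
    obtain ⟨y', rfl⟩ := hrange y hys
    obtain ⟨z, rfl⟩ := F.surjective y'
    refine ⟨HomFibre.incl G s z, hE _ (HomFibre.hom_incl z), ?_⟩
    rw [← Scheme.Hom.comp_apply, hsq.w]
    rfl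
  have hsW2 : s ∈ W2 := by
    refine mem_avoid.mpr fun d hd hpd ↦ hd ?_
    let a := pullback.fst f f
    let b := pullback.snd f f
    have hab : a ≫ f = b ≫ f := pullback.condition
    have hy : H.hom ((a ≫ f) d) = s := hpd
    obtain ⟨y', hy'⟩ := hrange _ hy
    let q := pullback.fst (a ≫ f) (HomFibre.incl H s)
    have hd' : d ∈ Set.range q := by
      rw [Scheme.Pullback.range_fst]
      exact ⟨y', hy'⟩
    have hq : q ≫ a ≫ f = pullback.snd (a ≫ f) (HomFibre.incl H s) ≫ HomFibre.incl H s :=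
      pullback.condition
    have h1 : (q ≫ a) ≫ f = pullback.snd (a ≫ f) (HomFibre.incl H s) ≫ HomFibre.incl H s :=
      (Category.assoc _ _ _).trans hq
    have h2 : (q ≫ b) ≫ f = pullback.snd (a ≫ f) (HomFibre.incl H s) ≫ HomFibre.incl H s :=
      ((Category.assoc _ _ _).trans (congrArg (q ≫ ·) hab.symm)).trans hq
    have hl : hsq.lift _ _ h1 = hsq.lift _ _ h2 :=
      (cancel_mono F).mp ((hsq.lift_snd _ _ _).trans (hsq.lift_snd _ _ _).symm)
    have hqab : q ≫ a = q ≫ b :=
      (hsq.lift_fst _ _ h1).symm.trans ((congrArg (· ≫ HomFibre.incl G s) hl).trans (hsq.lift_fst _ _ h2))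
    have hqΔ : q = (q ≫ a) ≫ Δ := by
      apply pullback.hom_ext
      · simp [Δ, a]
      · rw [Category.assoc, pullback.diagonal_snd, Category.comp_id]
        exact hqab.symm
    obtain ⟨t, rfl⟩ := hd'
    refine ⟨(q ≫ a) t, hE _ ?_, (Scheme.Hom.comp_apply _ _ _).symm.trans (congrArg (fun k => k t) hqΔ).symm⟩
    rw [← hw]
    exact hpd
  let W := W1 ⊓ W2 ⊓ W3
  refine ⟨W, ⟨⟨hsW1, hsW2⟩, hsW3⟩, ?_⟩
  let V := H.hom ⁻¹ᵁ W
  let f' := f ∣_ V
  let j := (f ⁻¹ᵁ V).ι
  have hj : ∀ x : (f ⁻¹ᵁ V).toScheme, j x ∈ E := by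
    intro x
    by_contra h
    refine mem_avoid.mp x.2.1.1 _ h ?_
    conv_lhs => rw [← hw]
    rfl
  haveI het : Etale f' := by
    refine Loci.of_forall_mem @Etale _ fun x ↦ ?_
    obtain ⟨U, hxU, hU⟩ := hj x
    refine ⟨j ⁻¹ᵁ U, hxU, ?_⟩
    haveI := hU
    refine MorphismProperty.of_postcomp (W := @Etale) (W' := @IsOpenImmersion) _ V.ι inferInstance ?_
    rw [Category.assoc, morphismRestrict_ι, ← morphismRestrict_ι_assoc]
    infer_instance
  haveI : Mono f' := by
    haveI : Surjective (pullback.diagonal f') := by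
      refine ⟨fun d ↦ ?_⟩
      let m := pullback.map f' f' f f j j V.ι (morphismRestrict_ι _ _) (morphismRestrict_ι _ _)
      haveI : IsOpenImmersion m := inferInstance
      have hmem : p (m d) ∈ W2 := by
        have e : m ≫ p = pullback.fst f' f' ≫ f' ≫ V.ι ≫ H.hom := by
          simp only [m, p, f', j, pullback.map, pullback.lift_fst_assoc, Category.assoc,
            morphismRestrict_ι_assoc]
        rw [← Scheme.Hom.comp_apply, e]
        exact ((pullback.fst f' f' ≫ f') d).2.1.2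
      obtain ⟨x, -, hx⟩ : m d ∈ Δ '' E := not_not.mp fun h ↦ mem_avoid.mp hmem _ h rfl
      have hxj : j (pullback.fst f' f' d) = x := by
        rw [← Scheme.Hom.comp_apply, ← show m ≫ pullback.fst f f = pullback.fst f' f' ≫ j from
          pullback.lift_fst _ _ _, Scheme.Hom.comp_apply, ← hx, ← Scheme.Hom.comp_apply,
          pullback.diagonal_fst]
        rfl
      refine ⟨pullback.fst f' f' d, m.isOpenEmbedding.injective ?_⟩
      rw [← hx, ← hxj, ← Scheme.Hom.comp_apply, ← Scheme.Hom.comp_apply]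
      have e : pullback.diagonal f' ≫ m = j ≫ Δ := by
        apply pullback.hom_ext <;> simp [m, Δ, pullback.map]
        all_goals first
          | erw [pullback.lift_fst, pullback.diagonal_fst_assoc]
          | erw [pullback.lift_snd, pullback.diagonal_snd_assoc]
      exact congrArg (fun k => k (pullback.fst f' f' d)) e
    rw [← pullback.isIso_diagonal_iff]
    exact (isIso_iff_isOpenImmersion_and_surjective _).mpr ⟨inferInstance, inferInstance⟩
  haveI : UniversallyInjective f' := inferInstance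
  haveI : IsOpenImmersion f' := S3694.result _
  haveI : Surjective f' := by
    refine ⟨fun y ↦ ?_⟩
    obtain ⟨x, -, hx⟩ : V.ι y ∈ f '' E := not_not.mp fun h ↦ mem_avoid.mp y.2.2 _ h rfl
    refine ⟨⟨x, ?_⟩, ?_⟩
    · show f x ∈ V
      rw [hx]
      exact y.2
    · apply V.ι.isOpenEmbedding.injective
      rw [← Scheme.Hom.comp_apply, morphismRestrict_ι]
      exact hx
  exact (isIso_iff_isOpenImmersion_and_surjective _).mpr ⟨inferInstance, inferInstance⟩

theorem isIso_fib_of_nhd (W : S.Opens) [IsIso (u.left ∣_ (H.hom ⁻¹ᵁ W))] (s : S) (hs : s ∈ W) :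
    IsIso (HomFibre.fib u s).left := by
  let V := H.hom ⁻¹ᵁ W
  have hsq := HomFibre.map_isPullback u (S.fromSpecResidueField s)
  let k := IsOpenImmersion.lift V.ι (HomFibre.incl H s) (by
    rintro _ ⟨z, rfl⟩
    rw [Scheme.Opens.range_ι]
    show H.hom (HomFibre.incl H s z) ∈ W
    rw [HomFibre.hom_incl]
    exact hs)
  let k' := IsOpenImmersion.lift (u.left ⁻¹ᵁ V).ι (HomFibre.incl G s) (by
    rintro _ ⟨z, rfl⟩
    rw [Scheme.Opens.range_ι]
    show H.hom (u.left (HomFibre.incl G s z)) ∈ W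
    rw [← Scheme.Hom.comp_apply, Over.w u, HomFibre.hom_incl]
    exact hs)
  have hk : k ≫ V.ι = HomFibre.incl H s := IsOpenImmersion.lift_fac _ _ _
  have hk' : k' ≫ (u.left ⁻¹ᵁ V).ι = HomFibre.incl G s := IsOpenImmersion.lift_fac _ _ _
  have h1 : IsPullback k' (HomFibre.fib u s).left (u.left ∣_ V) k := by
    refine IsPullback.of_right ?_ ?_ (isPullback_morphismRestrict u.left V).flip
    · rw [hk, hk']
      exact hsq
    · rw [← cancel_mono V.ι, Category.assoc, Category.assoc, morphismRestrict_ι, reassoc_of% hk', hk]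
      exact hsq.w
  exact MorphismProperty.of_isPullback (P := MorphismProperty.isomorphisms Scheme) h1
    (show IsIso (u.left ∣_ V) from ‹_›)

end Groth.Agent.FibreIsoLocus
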