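import Mathlib

/-!
# Finite modules over polynomial rings over valuation rings, flat over the base, are finitely presented
-/

universe u v
set_option autoImplicit false

namespace Groth.Agent.FlatMisc.ValuationFP

open MvPolynomial

section Rees

variable {k : Type u} [CommRing k] {n : ℕ}

/-- The homogenization map onto the Rees algebra of the degree filtration. -/
noncomputable def rees : MvPolynomial (Option (Fin n)) k →ₐ[k] Polynomial (MvPolynomial (Fin n) k) :=
  MvPolynomial.aeval fun o => o.elim Polynomial.X fun i => Polynomial.C (X i) * Polynomial.X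

theorem totalDegree_coeff_rees [Nontrivial k] (h : MvPolynomial (Option (Fin n)) k) (d : ℕ) :
    ((rees h).coeff d).totalDegree ≤ d := by
  induction h using MvPolynomial.induction_on generalizing d with
  | C a =>
    rw [rees, aeval_C, IsScalarTower.algebraMap_apply k (MvPolynomial (Fin n) k) (Polynomial (MvPolynomial (Fin n) k)),
      Polynomial.algebraMap_apply, Polynomial.coeff_C]
    split <;> simp [MvPolynomial.algebraMap_eq]
  | add p q hp hq =>
    rw [map_add, Polynomial.coeff_add]
    exact (totalDegree_add _ _).trans (max_le (hp d) (hq d))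
  | mul_X p o hp =>
    rw [map_mul]
    cases o with
    | none =>
      rw [show rees (X none) = (Polynomial.X : Polynomial (MvPolynomial (Fin n) k)) by simp [rees]]
      cases d with
      | zero => simp
      | succ d => rw [Polynomial.coeff_mul_X]; exact (hp d).trans (Nat.le_succ d)
    | some i =>
      rw [show rees (X (some i)) = (Polynomial.C (X i) * Polynomial.X : Polynomial (MvPolynomial (Fin n) k)) by simp [rees],
        ← mul_assoc]
      cases d with
      | zero => simp
      | succ d =>
        rw [Polynomial.coeff_mul_X, Polynomial.coeff_mul_C]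
        refine (totalDegree_mul _ _).trans ?_
        rw [totalDegree_X]
        have := hp d
        omega

theorem exists_rees_eq (v : MvPolynomial (Fin n) k) (d : ℕ) (hv : v.totalDegree ≤ d) :
    ∃ u, rees u = Polynomial.monomial d v := by
  classical
  refine ⟨∑ a ∈ v.support, C (v.coeff a) * (∏ i, X (some i) ^ a i) * X none ^ (d - ∑ i, a i), ?_⟩
  rw [map_sum]
  conv_rhs => rw [v.as_sum, map_sum]
  refine Finset.sum_congr rfl fun a ha => ?_
  have had : ∑ i, a i ≤ d := by
    rw [← Finsupp.sum_fintype a (fun _ e => e) (fun _ => rfl)]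
    exact (le_totalDegree ha).trans hv
  have h : (monomial a) (v.coeff a) = C (v.coeff a) * ∏ i, X i ^ a i := by
    rw [monomial_eq, Finsupp.prod_fintype _ _ (fun _ => pow_zero _)]
  rw [h, ← Polynomial.C_mul_X_pow_eq_monomial, map_mul, map_mul, map_prod, map_pow]
  simp only [rees, map_pow, map_prod, map_mul, aeval_C, aeval_X, Option.elim, mul_pow, Finset.prod_mul_distrib,
    Finset.prod_pow_eq_pow_sum]
  rw [IsScalarTower.algebraMap_apply k (MvPolynomial (Fin n) k) (Polynomial (MvPolynomial (Fin n) k)),
    Polynomial.algebraMap_apply, MvPolynomial.algebraMap_eq, Algebra.algebraMap_self, RingHom.id_apply]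
  rw [mul_assoc, mul_assoc, ← pow_add, Nat.add_sub_cancel' had, ← mul_assoc]

/-- The degree filtration on a submodule is finitely generated. -/
theorem exists_degree_bound [IsNoetherianRing k] [Nontrivial k] {m : ℕ} (W : ℕ → Set (Fin m → MvPolynomial (Fin n) k))
    (hW : ∀ e v, v ∈ W e → ∀ i, (v i).totalDegree ≤ e) :
    ∃ D : ℕ, ∀ d, ∀ v ∈ W d, ∃ (s : Finset ((Fin m → MvPolynomial (Fin n) k) × ℕ))
      (p : (Fin m → MvPolynomial (Fin n) k) × ℕ → MvPolynomial (Fin n) k),
      (∀ x ∈ s, x.2 ≤ D ∧ x.1 ∈ W x.2 ∧ (p x ≠ 0 → x.2 ≤ d ∧ (p x).totalDegree + x.2 ≤ d)) ∧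
        v = ∑ x ∈ s, p x • x.1 := by
  classical
  let Q := MvPolynomial (Option (Fin n)) k
  let T : ℕ → Set (Fin m → Q) := fun D =>
    {u | ∃ e ≤ D, ∃ w ∈ W e, ∀ i, rees (u i) = Polynomial.monomial e (w i)}
  obtain ⟨D, hD⟩ := monotone_stabilizes_iff_noetherian.mpr (inferInstance : IsNoetherian Q (Fin m → Q))
    ⟨fun D => Submodule.span Q (T D), fun a b hab => Submodule.span_mono
      fun u ⟨e, he, h⟩ => ⟨e, he.trans hab, h⟩⟩
  refine ⟨D, fun d v hv => ?_⟩
  choose u hu using fun i => exists_rees_eq (v i) d (hW d v hv i)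
  have hmem : u ∈ Submodule.span Q (T D) := by
    rcases le_total d D with h | h
    · exact Submodule.subset_span ⟨d, h, v, hv, hu⟩
    · rw [show Submodule.span Q (T D) = Submodule.span Q (T d) from hD d h]
      exact Submodule.subset_span ⟨d, le_rfl, v, hv, hu⟩
  obtain ⟨t, ht, htu⟩ := Submodule.mem_span_set.mp hmem
  choose e he w hw hwu using fun x : t.support => ht x.2
  let c : t.support → MvPolynomial (Fin n) k := fun x =>
    if e x ≤ d then (rees (t x.1)).coeff (d - e x) else 0
  refine ⟨Finset.univ.image fun x : t.support => (w x, e x), fun y =>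
    ∑ x ∈ Finset.univ.filter fun x : t.support => (w x, e x) = y, c x, ?_, ?_⟩
  · intro y hy
    obtain ⟨x, -, rfl⟩ := Finset.mem_image.mp hy
    refine ⟨he x, hw x, fun hne => ?_⟩
    have hle : e x ≤ d := by
      by_contra h
      exact hne (Finset.sum_eq_zero fun z hz => by
        have hz2 : e z = e x := congrArg Prod.snd (Finset.mem_filter.mp hz).2
        simp [c, hz2, h])
    refine ⟨hle, ?_⟩
    have : (∑ z ∈ Finset.univ.filter fun z : t.support => (w z, e z) = (w x, e x), c z).totalDegree ≤ d - e x := by
      refine (totalDegree_finsetSum _ _).trans (Finset.sup_le fun z hz => ?_)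
      have hz2 : e z = e x := congrArg Prod.snd (Finset.mem_filter.mp hz).2
      simp only [c, hz2, hle, if_true]
      exact totalDegree_coeff_rees _ _
    simp only at this ⊢
    omega
  · calc v = ∑ x : t.support, c x • w x := by
          funext i
          rw [Finset.sum_apply]
          have h1 := congrArg (fun z => (rees (z i)).coeff d) htu
          simp only [hu i, Polynomial.coeff_monomial, if_true] at h1
          rw [← h1, Finsupp.sum, ← Finset.sum_coe_sort, Finset.sum_apply, map_sum, Polynomial.finset_sum_coeff]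
          refine Finset.sum_congr rfl fun x _ => ?_
          rw [Pi.smul_apply, Pi.smul_apply, smul_eq_mul, smul_eq_mul, map_mul, hwu x i,
            ← Polynomial.C_mul_X_pow_eq_monomial, ← mul_assoc, Polynomial.coeff_mul_X_pow']
          split
          · rw [Polynomial.coeff_mul_C]; simp [c, *]
          · simp [c, *]
      _ = _ := by
          rw [Finset.sum_image']
          intro y _
          rw [Finset.sum_smul]
          refine Finset.sum_congr rfl fun z hz => ?_
          rw [show w z = w y from congrArg Prod.fst (Finset.mem_filter.mp hz).2]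

end Rees

section Main

variable {R : Type u} [CommRing R] [IsDomain R] [ValuationRing R] {n : ℕ}

theorem exists_lift (p : MvPolynomial (Fin n) (IsLocalRing.ResidueField R)) :
    ∃ q : MvPolynomial (Fin n) R, MvPolynomial.map (IsLocalRing.residue R) q = p ∧ q.totalDegree ≤ p.totalDegree := by
  classical
  choose l hl using IsLocalRing.residue_surjective (R := R)
  refine ⟨∑ a ∈ p.support, monomial a (l (p.coeff a)), ?_, ?_⟩
  · rw [map_sum]
    conv_rhs => rw [p.as_sum]
    exact Finset.sum_congr rfl fun a _ => by rw [map_monomial, hl]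
  · exact (totalDegree_finsetSum _ _).trans (Finset.sup_le fun a ha =>
      (totalDegree_monomial_le _ _).trans (le_totalDegree ha))

/-- A submodule with torsion-free quotient of a free module over a polynomial ring over a valuation ring
is finitely generated. -/
theorem fg_of_saturated {m : ℕ} (N : Submodule (MvPolynomial (Fin n) R) (Fin m → MvPolynomial (Fin n) R))
    (hN : ∀ (c : R) v, c ≠ 0 → c • v ∈ N → v ∈ N) : N.FG := by
  classical
  let k := IsLocalRing.ResidueField R
  let red : (Fin m → MvPolynomial (Fin n) R) → (Fin m → MvPolynomial (Fin n) k) :=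
    fun v i => MvPolynomial.map (IsLocalRing.residue R) (v i)
  let F : ℕ → Submodule R (Fin m → MvPolynomial (Fin n) R) := fun d =>
    Submodule.pi Set.univ fun _ => restrictTotalDegree (Fin n) R d
  let Nd : ℕ → Submodule R (Fin m → MvPolynomial (Fin n) R) := fun d => F d ⊓ N.restrictScalars R
  have hmemF : ∀ {d v}, v ∈ F d ↔ ∀ i, (v i).totalDegree ≤ d := by
    intro d v
    simp [F, mem_restrictTotalDegree]
  have hFfg : ∀ d, (F d).FG := fun d => by
    refine Submodule.fg_pi fun _ => ?_
    have hfin : {a : Fin n →₀ ℕ | (a.sum fun _ e => e) ≤ d}.Finite := by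
      refine (Set.finite_Iic (Finsupp.equivFunOnFinite.symm fun _ : Fin n => d)).subset fun a ha i => ?_
      rw [Finsupp.equivFunOnFinite_symm_apply_apply]
      by_cases hi : i ∈ a.support
      · exact (Finset.single_le_sum (f := fun j => a j) (fun _ _ => Nat.zero_le _) hi).trans ha
      · rw [Finsupp.notMem_support_iff.mp hi]; exact Nat.zero_le d
    refine Submodule.fg_def.mpr ⟨(fun a => monomial a (1 : R)) '' {a | (a.sum fun _ e => e) ≤ d}, hfin.image _,
      le_antisymm (Submodule.span_le.mpr ?_) fun p hp => ?_⟩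
    · rintro _ ⟨a, ha, rfl⟩
      rw [SetLike.mem_coe, mem_restrictTotalDegree]
      exact (totalDegree_monomial_le _ _).trans ha
    · rw [mem_restrictTotalDegree] at hp
      rw [p.as_sum]
      refine Submodule.sum_mem _ fun a ha => ?_
      rw [show monomial a (p.coeff a) = p.coeff a • monomial a (1 : R) by rw [MvPolynomial.smul_monomial, smul_eq_mul, mul_one]]
      exact Submodule.smul_mem _ _ (Submodule.subset_span ⟨a, (le_totalDegree ha).trans hp, rfl⟩)
  have hNdfg : ∀ d, (Nd d).FG := fun d => by
    haveI : Module.Finite R (F d) := Module.Finite.iff_fg.mpr (hFfg d)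
    let K : Submodule R (F d) := (N.restrictScalars R).comap (F d).subtype
    haveI : Module.Flat R (F d ⧸ K) := by
      rw [Module.Flat.flat_iff_torsion_eq_bot_of_isBezout, eq_bot_iff]
      rintro x ⟨⟨c, hc⟩, hcx⟩
      obtain ⟨v, rfl⟩ := Submodule.Quotient.mk_surjective K x
      refine (Submodule.Quotient.mk_eq_zero K).mpr (hN c v.1 (nonZeroDivisors.ne_zero hc) ?_)
      exact (Submodule.Quotient.mk_eq_zero K).mp (show K.mkQ (c • v) = 0 by rw [map_smul]; exact hcx)
    haveI : Module.Free R (F d ⧸ K) := Module.free_of_flat_of_isLocalRing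
    obtain ⟨g, hg⟩ := K.mkQ.exists_rightInverse_of_surjective K.range_mkQ
    have hK : K.FG := by
      have : K = LinearMap.range ((LinearMap.id : F d →ₗ[R] F d) - g.comp K.mkQ) := by
        refine le_antisymm ?_ ?_
        · intro x hx
          exact ⟨x, by simp [(Submodule.Quotient.mk_eq_zero K).mpr hx]⟩
        · rintro _ ⟨x, rfl⟩
          rw [← Submodule.Quotient.mk_eq_zero K, ← Submodule.mkQ_apply, LinearMap.sub_apply, map_sub,
            LinearMap.comp_apply, show K.mkQ (g (K.mkQ x)) = K.mkQ x from LinearMap.congr_fun hg _]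
          simp
      rw [this, LinearMap.range_eq_map]
      exact Module.Finite.fg_top.map _
    have := hK.map (F d).subtype
    rwa [Submodule.map_comap_subtype] at this
  let W : ℕ → Set (Fin m → MvPolynomial (Fin n) k) := fun e => red '' (Nd e : Set _)
  obtain ⟨D, hD⟩ := exists_degree_bound W (by
    rintro e _ ⟨v, hv, rfl⟩ i
    refine le_trans ?_ (hmemF.mp hv.1 i)
    exact Finset.sup_mono (support_map_subset (IsLocalRing.residue R) (v i)))
  choose gen hgen using fun e => hNdfg e
  let G : Submodule (MvPolynomial (Fin n) R) (Fin m → MvPolynomial (Fin n) R) :=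
    Submodule.span _ ((Finset.range (D + 1)).biUnion gen : Set _)
  have hGN : G ≤ N := Submodule.span_le.mpr fun v hv => by
    obtain ⟨e, -, hve⟩ := Finset.mem_biUnion.mp hv
    exact ((hgen e).le (Submodule.subset_span hve)).2
  have hNdG : ∀ e ≤ D, Nd e ≤ G.restrictScalars R := fun e he => by
    rw [← hgen e, Submodule.span_le]
    exact fun v hv => Submodule.subset_span (Finset.mem_biUnion.mpr ⟨e, Finset.mem_range.mpr (by omega), hv⟩)
  have key : ∀ d, Nd d ≤ G.restrictScalars R ⊓ Nd d := fun d => by
    refine Submodule.le_of_le_smul_of_le_jacobson_bot (I := IsLocalRing.maximalIdeal R) (hNdfg d)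
      (IsLocalRing.maximalIdeal_le_jacobson _) fun v hv => ?_
    obtain ⟨s, p, hs, hsum⟩ := hD d (red v) ⟨v, hv, rfl⟩
    choose q hq hqd using fun x => exists_lift (p x)
    have hpre : ∀ x ∈ s, ∃ w ∈ Nd x.2, red w = x.1 := fun x hx => (hs x hx).2.1
    choose! w hw hwr using hpre
    let v' := ∑ x ∈ s.filter fun x => p x ≠ 0, q x • w x
    have hv'G : v' ∈ G := Submodule.sum_mem _ fun x hx => by
      have hxs := (Finset.mem_filter.mp hx).1
      exact G.smul_mem _ (hNdG _ (hs x hxs).1 (hw x hxs))
    have hv'F : v' ∈ F d := Submodule.sum_mem _ fun x hx => by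
      obtain ⟨hxs, hx0⟩ := Finset.mem_filter.mp hx
      refine hmemF.mpr fun i => ?_
      rw [Pi.smul_apply, smul_eq_mul]
      have h1 := hmemF.mp (hw x hxs).1 i
      have h2 := ((hs x hxs).2.2 hx0).2
      have h3 := hqd x
      exact (totalDegree_mul _ _).trans (by omega)
    have hv'N : v' ∈ Nd d := ⟨hv'F, hGN hv'G⟩
    have hred : ∀ i, MvPolynomial.map (IsLocalRing.residue R) ((v - v') i) = 0 := fun i => by
      have h1 : red v i = ∑ x ∈ s, p x * x.1 i := by
        rw [hsum, Finset.sum_apply]; rfl
      have h2 : MvPolynomial.map (IsLocalRing.residue R) (v' i) = ∑ x ∈ s.filter (fun x => p x ≠ 0), p x * x.1 i := by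
        show MvPolynomial.map _ ((∑ x ∈ s.filter (fun x => p x ≠ 0), q x • w x) i) = _
        rw [Finset.sum_apply, map_sum]
        refine Finset.sum_congr rfl fun x hx => ?_
        rw [Pi.smul_apply, smul_eq_mul, map_mul, hq]
        exact congrArg (p x * ·) (congrFun (hwr x (Finset.mem_filter.mp hx).1) i)
      rw [Pi.sub_apply, map_sub, h2, sub_eq_zero]
      exact h1.trans (Finset.sum_filter_of_ne (s := s) (f := fun x => p x * x.1 i) (p := fun x => p x ≠ 0) fun x _ hx h0 => hx (by show p x * x.1 i = 0; rw [show p x = 0 from h0, zero_mul])).symm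
    refine Submodule.mem_sup.mpr ⟨v', ⟨hv'G, hv'N⟩, v - v', ?_, add_sub_cancel _ _⟩
    let S : Finset R := Finset.univ.biUnion fun i => ((v - v') i).support.image fun a => ((v - v') i).coeff a
    obtain ⟨c, hc⟩ := (IsBezout.isPrincipal_of_FG (Ideal.span (S : Set R)) ⟨S, rfl⟩).principal
    have hcm : c ∈ IsLocalRing.maximalIdeal R := by
      have : Ideal.span (S : Set R) ≤ IsLocalRing.maximalIdeal R := by
        rw [Ideal.span_le]
        intro r hr
        obtain ⟨i, -, hr⟩ := Finset.mem_biUnion.mp hr
        obtain ⟨a, -, rfl⟩ := Finset.mem_image.mp hr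
        rw [SetLike.mem_coe, ← IsLocalRing.residue_eq_zero_iff, ← MvPolynomial.coeff_map, hred i, coeff_zero]
      exact this (hc.ge (Submodule.subset_span rfl))
    have hdvd : ∀ i a, c ∣ ((v - v') i).coeff a := fun i a => by
      by_cases ha : a ∈ ((v - v') i).support
      · exact Ideal.mem_span_singleton.mp (hc.le (Submodule.subset_span
          (Finset.mem_biUnion.mpr ⟨i, Finset.mem_univ _, Finset.mem_image.mpr ⟨a, ha, rfl⟩⟩)))
      · rw [notMem_support_iff.mp ha]; exact dvd_zero c
    choose w' hw' using fun i => (C_dvd_iff_dvd_coeff c ((v - v') i)).mpr (hdvd i)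
    have hvw : v - v' = c • w' := funext fun i => by rw [hw' i, Pi.smul_apply, C_mul']
    have hsub : v - v' ∈ Nd d := Submodule.sub_mem _ hv hv'N
    by_cases hc0 : c = 0
    · rw [hvw, hc0, zero_smul]; exact Submodule.zero_mem _
    · rw [hvw]
      refine Submodule.smul_mem_smul hcm ⟨hmemF.mpr fun i => ?_, hN c w' hc0 (hvw ▸ hsub.2)⟩
      have h1 := hmemF.mp hsub.1 i
      rw [hvw, Pi.smul_apply] at h1
      refine le_trans ?_ h1
      exact (congrArg (fun t => t.sup fun s => s.sum fun _ e => e) (MvPolynomial.support_smul_eq hc0 (w' i))).ge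
  refine ⟨(Finset.range (D + 1)).biUnion gen, le_antisymm hGN fun v hv => ?_⟩
  exact (key (Finset.univ.sup fun i => (v i).totalDegree) ⟨hmemF.mpr fun i => Finset.le_sup (f := fun i => (v i).totalDegree) (Finset.mem_univ i), hv⟩).1

end Main

section Cor

variable {R : Type u} [CommRing R] [IsDomain R] [ValuationRing R]

/-- A finite module over a finite type algebra over a valuation ring with injective scalar multiplications is
finitely presented. -/
theorem fg_ker_of_torsionFree {n m : ℕ} {M : Type v} [AddCommGroup M] [Module (MvPolynomial (Fin n) R) M]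
    (φ : (Fin m → MvPolynomial (Fin n) R) →ₗ[MvPolynomial (Fin n) R] M)
    (hM : ∀ (c : R) (x : M), c ≠ 0 → (C c : MvPolynomial (Fin n) R) • x = 0 → x = 0) :
    (LinearMap.ker φ).FG :=
  fg_of_saturated _ fun c v hc hcv => hM c (φ v) hc (by
    rw [← map_smul]
    refine LinearMap.mem_ker.mp ?_
    convert hcv using 1
    funext i
    simp [C_mul'])

theorem algebra_finitePresentation {A : Type v} [CommRing A] [Algebra R A] [Algebra.FiniteType R A]
    [Module.Flat R A] : Algebra.FinitePresentation R A := by
  obtain ⟨n, φ, hφ⟩ := Algebra.FiniteType.iff_quotient_mvPolynomial''.mp (inferInstance : Algebra.FiniteType R A)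
  refine Algebra.FinitePresentation.of_surjective hφ ?_
  letI : Module (MvPolynomial (Fin n) R) A := Module.compHom A φ.toRingHom
  let ψ : MvPolynomial (Fin n) R →ₗ[MvPolynomial (Fin n) R] A := LinearMap.toSpanSingleton _ _ 1
  let e : (Fin 1 → MvPolynomial (Fin n) R) ≃ₗ[MvPolynomial (Fin n) R] MvPolynomial (Fin n) R :=
    LinearEquiv.funUnique (Fin 1) _ _
  have h := fg_ker_of_torsionFree (ψ.comp e.toLinearMap) fun c x hc hx => by
    have h2 : c • x = 0 := by
      rw [Algebra.smul_def, ← AlgHom.commutes φ c]
      exact hx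
    by_contra hx0
    have h3 : x ∈ Submodule.torsion R A := ⟨⟨c, mem_nonZeroDivisors_of_ne_zero hc⟩, h2⟩
    rw [Module.Flat.torsion_eq_bot, Submodule.mem_bot] at h3
    exact hx0 h3
  have h4 := h.map e.toLinearMap
  rw [LinearMap.ker_comp, Submodule.map_comap_eq_of_surjective e.surjective] at h4
  have h5 : LinearMap.ker ψ = RingHom.ker φ.toRingHom := Submodule.ext fun x => by
    show φ x * 1 = 0 ↔ φ x = 0
    rw [mul_one]
  rwa [h5] at h4

end Cor

end Groth.Agent.FlatMisc.ValuationFP
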