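import Mathlib
import Groth.Agent.NoetherNormZ.Basic

/-! Noether normalization adapted to a prime ideal. -/

namespace Groth.Agent.FlatMisc.RefinedNN

open MvPolynomial

universe u

variable {k : Type u} [Field k]

theorem exists_integral_through {n : ℕ} (f : MvPolynomial (Fin (n + 1)) k) (hf : f ≠ 0) (hnu : ¬ IsUnit f) :
    ∃ θ : MvPolynomial (Fin (n + 1)) k →ₐ[k] MvPolynomial (Fin (n + 1)) k,
      θ.toRingHom.IsIntegral ∧ θ (X 0) = f := by
  let T := Groth.Agent.NoetherNormZ.T f
  let g := T f
  let v : Fin (n + 1) → MvPolynomial (Fin (n + 1)) k := Fin.cases g fun i => X i.succ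
  let ψ : MvPolynomial (Fin (n + 1)) k →ₐ[k] MvPolynomial (Fin (n + 1)) k := aeval v
  refine ⟨T.symm.toAlgHom.comp ψ, ?_, ?_⟩
  swap
  · show T.symm (ψ (X 0)) = f
    simp [ψ, v, g]
  have hψ : ψ.toRingHom.IsIntegral := by
    have hu : IsUnit (finSuccEquiv k n g).leadingCoeff := Groth.Agent.NoetherNormZ.T_leadingcoeff_isUnit f hf
    have hrange : ∀ i : Fin n, ψ.toRingHom.IsIntegralElem (X i.succ) := fun i => by
      have : ψ (X i.succ) = X i.succ := by simp [ψ, v]
      exact this ▸ ψ.toRingHom.isIntegralElem_map (x := (X i.succ))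
    let incl : MvPolynomial (Fin n) k →ₐ[k] MvPolynomial (Fin (n + 1)) k := rename Fin.succ
    have hsec : ∀ p : MvPolynomial (Fin n) k, ψ (incl p) = incl p := fun p => by
      rw [show ψ (incl p) = (ψ.comp incl) p from rfl]
      congr 1
      ext i
      simp [ψ, v, incl]
    have hback : ∀ p : MvPolynomial (Fin (n + 1)) k,
        Polynomial.eval₂ incl.toRingHom (X 0) (finSuccEquiv k n p) = p := by
      intro p
      induction p using MvPolynomial.induction_on with
      | C a => simp [finSuccEquiv_apply, incl]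
      | add p q hp hq => rw [map_add, Polynomial.eval₂_add, hp, hq]
      | mul_X p i hp =>
        rw [map_mul, Polynomial.eval₂_mul, hp]
        congr 1
        induction i using Fin.cases with
        | zero => simp [finSuccEquiv_X_zero]
        | succ i => simp [finSuccEquiv_X_succ, incl]
    have h0 : ψ.toRingHom.IsIntegralElem (X 0) := by
      have hdeg : 0 < (finSuccEquiv k n g).natDegree := by
        by_contra hd
        obtain ⟨c, hc⟩ := Polynomial.natDegree_eq_zero.1 (Nat.eq_zero_of_not_pos hd)
        have hcu : IsUnit c := by rwa [← hc, Polynomial.leadingCoeff_C] at hu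
        have hgu : IsUnit g := by
          have := (hc ▸ hcu.map Polynomial.C : IsUnit (finSuccEquiv k n g)).map (finSuccEquiv k n).symm
          rwa [AlgEquiv.symm_apply_apply] at this
        have hfu := hgu.map T.symm
        simp only [g, AlgEquiv.symm_apply_apply] at hfu
        exact hnu hfu
      let Q : Polynomial (MvPolynomial (Fin (n + 1)) k) :=
        (finSuccEquiv k n g).map incl.toRingHom - Polynomial.C (X 0)
      have hinj : Function.Injective incl.toRingHom := rename_injective _ (Fin.succ_injective n)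
      have hdegC : (Polynomial.C (X 0 : MvPolynomial (Fin (n + 1)) k)).degree <
          ((finSuccEquiv k n g).map incl.toRingHom).degree := by
        refine Polynomial.degree_lt_degree ?_
        rw [Polynomial.natDegree_C, Polynomial.natDegree_map_eq_of_injective hinj]
        exact hdeg
      have hlc : IsUnit Q.leadingCoeff := by
        rw [Polynomial.leadingCoeff_sub_of_degree_lt hdegC, Polynomial.leadingCoeff_map_of_injective hinj]
        exact hu.map _
      refine ⟨hlc.unit⁻¹.val • Q, Polynomial.monic_of_isUnit_leadingCoeff_inv_smul hlc, ?_⟩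
      rw [Polynomial.eval₂_smul, Polynomial.eval₂_sub, Polynomial.eval₂_map, Polynomial.eval₂_C]
      have : ψ.toRingHom.comp incl.toRingHom = incl.toRingHom := RingHom.ext hsec
      rw [this, hback]
      simp [ψ, v]
    intro p
    induction p using MvPolynomial.induction_on with
    | C a => exact (by simpa [ψ] using ψ.toRingHom.isIntegralElem_map (x := (C a)))
    | add p q hp hq => exact hp.add _ hq
    | mul_X p i hp =>
      refine hp.mul _ ?_
      induction i using Fin.cases with
      | zero => exact h0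
      | succ i => exact hrange i
  intro p
  exact (hψ.trans _ T.symm.toAlgHom.toRingHom
    (RingHom.isIntegral_of_surjective _ T.symm.surjective)) p

theorem exists_finite_comap_eq (n : ℕ) (q : Ideal (MvPolynomial (Fin n) k)) [q.IsPrime] :
    ∃ r ≤ n, ∃ φ : MvPolynomial (Fin n) k →ₐ[k] MvPolynomial (Fin n) k, φ.toRingHom.IsIntegral ∧
      q.comap φ = Ideal.span (Set.range fun i : {i : Fin n // r ≤ (i : ℕ)} => X (i : Fin n)) := by
  by_cases hq : q = ⊥
  · refine ⟨n, le_rfl, AlgHom.id k _, RingHom.isIntegral_of_surjective _ Function.surjective_id, ?_⟩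
    have : IsEmpty {i : Fin n // n ≤ (i : ℕ)} := ⟨fun i => by have := i.1.2; omega⟩
    rw [Set.range_eq_empty, Ideal.span_empty, hq]
    exact Ideal.comap_bot_of_injective _ Function.injective_id
  induction n with
  | zero =>
    exfalso
    obtain ⟨x, hx, hx0⟩ := Submodule.exists_mem_ne_zero_of_ne_bot hq
    rw [eq_C_of_isEmpty x] at hx hx0
    exact ‹q.IsPrime›.ne_top (Ideal.eq_top_of_isUnit_mem _ hx
      ((isUnit_iff_ne_zero.2 fun h => hx0 (by rw [h, map_zero])).map C))
  | succ n ih =>
    obtain ⟨f, hf, hf0⟩ := Submodule.exists_mem_ne_zero_of_ne_bot hq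
    obtain ⟨θ, hθ, hθX⟩ := exists_integral_through f hf0
      (fun h => ‹q.IsPrime›.ne_top (Ideal.eq_top_of_isUnit_mem _ hf h))
    let incl : MvPolynomial (Fin n) k →ₐ[k] MvPolynomial (Fin (n + 1)) k := rename Fin.succ
    let q' := (q.comap θ).comap incl
    have : q'.IsPrime := inferInstance
    obtain ⟨r, hr, φ', hφ', hcomap⟩ : ∃ r ≤ n, ∃ φ : MvPolynomial (Fin n) k →ₐ[k] MvPolynomial (Fin n) k,
        φ.toRingHom.IsIntegral ∧
          q'.comap φ = Ideal.span (Set.range fun i : {i : Fin n // r ≤ (i : ℕ)} => X (i : Fin n)) := by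
      by_cases hq' : q' = ⊥
      · refine ⟨n, le_rfl, AlgHom.id k _, RingHom.isIntegral_of_surjective _ Function.surjective_id, ?_⟩
        have : IsEmpty {i : Fin n // n ≤ (i : ℕ)} := ⟨fun i => by have := i.1.2; omega⟩
        rw [Set.range_eq_empty, Ideal.span_empty, hq']
        exact Ideal.comap_bot_of_injective _ Function.injective_id
      · exact ih q' hq'
    let ψ : MvPolynomial (Fin (n + 1)) k →ₐ[k] MvPolynomial (Fin (n + 1)) k :=
      aeval (Fin.lastCases (X 0) fun i => incl (φ' (X i)))
    let low : MvPolynomial (Fin n) k →ₐ[k] MvPolynomial (Fin (n + 1)) k := rename Fin.castSucc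
    have hlow : ∀ p, ψ (low p) = incl (φ' p) := fun p => by
      show (ψ.comp low) p = (incl.comp φ') p
      congr 1
      ext i
      simp [ψ, low]
    have hlast : ψ (X (Fin.last n)) = X 0 := by simp [ψ]
    have hψ : ψ.toRingHom.IsIntegral := by
      intro p
      induction p using MvPolynomial.induction_on with
      | C a => exact (by simpa [ψ] using ψ.toRingHom.isIntegralElem_map (x := (C a)))
      | add p q hp hq => exact hp.add _ hq
      | mul_X p i hp =>
        refine hp.mul _ ?_
        induction i using Fin.cases with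
        | zero =>
          have := ψ.toRingHom.isIntegralElem_map (x := (X (Fin.last n)))
          exact hlast ▸ this
        | succ i =>
          obtain ⟨P, hP, hPe⟩ := hφ' (X i)
          refine ⟨P.map low.toRingHom, hP.map _, ?_⟩
          have hc : ψ.toRingHom.comp low.toRingHom = incl.toRingHom.comp φ'.toRingHom := RingHom.ext hlow
          have hX : (X i.succ : MvPolynomial (Fin (n + 1)) k) = incl.toRingHom (X i) := by simp [incl]
          rw [Polynomial.eval₂_map, hc, hX, ← Polynomial.hom_eval₂, hPe, map_zero]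
    refine ⟨r, hr.trans n.le_succ, θ.comp ψ, hψ.trans _ θ.toRingHom hθ, ?_⟩
    let kill : MvPolynomial (Fin (n + 1)) k →ₐ[k] MvPolynomial (Fin n) k := aeval (Fin.lastCases 0 X)
    let J : Ideal (MvPolynomial (Fin (n + 1)) k) :=
      Ideal.span (Set.range fun i : {i : Fin (n + 1) // r ≤ (i : ℕ)} => X (i : Fin (n + 1)))
    have hlastJ : X (Fin.last n) ∈ J := Ideal.subset_span ⟨⟨Fin.last n, by simpa using hr⟩, rfl⟩
    have hsplit : ∀ p, ∃ c, p = low (kill p) + c * X (Fin.last n) := by
      intro p
      induction p using MvPolynomial.induction_on with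
      | C a => exact ⟨0, by simp [kill, low]⟩
      | add p q hp hq =>
        obtain ⟨c, hc⟩ := hp
        obtain ⟨c', hc'⟩ := hq
        exact ⟨c + c', by rw [map_add, map_add]; linear_combination hc + hc'⟩
      | mul_X p i hp =>
        obtain ⟨c, hc⟩ := hp
        induction i using Fin.lastCases with
        | last => exact ⟨p, by simp [kill]⟩
        | cast i =>
          refine ⟨c * X i.castSucc, ?_⟩
          rw [map_mul, map_mul]
          have : low (kill (X i.castSucc)) = (X i.castSucc : MvPolynomial (Fin (n + 1)) k) := by simp [kill, low]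
          rw [this]
          linear_combination (X i.castSucc : MvPolynomial (Fin (n + 1)) k) * hc
    have hX0 : (X 0 : MvPolynomial (Fin (n + 1)) k) ∈ q.comap θ := by
      rw [Ideal.mem_comap, hθX]
      exact hf
    have hJle : J ≤ (q.comap θ).comap ψ := by
      rw [Ideal.span_le]
      rintro _ ⟨⟨i, hi⟩, rfl⟩
      rw [SetLike.mem_coe, Ideal.mem_comap]
      induction i using Fin.lastCases with
      | last => exact hlast.symm ▸ hX0
      | cast i =>
        have h1 : (X i : MvPolynomial (Fin n) k) ∈ q'.comap φ' :=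
          hcomap.ge (Ideal.subset_span ⟨⟨i, by simpa using hi⟩, rfl⟩)
        show ψ (X i.castSucc) ∈ q.comap θ
        rw [show (X i.castSucc : MvPolynomial (Fin (n + 1)) k) = low (X i) by simp [low], hlow]
        exact h1
    refine le_antisymm (fun p hp => ?_) hJle
    obtain ⟨c, hc⟩ := hsplit p
    have h1 : ψ (low (kill p)) ∈ q.comap θ := by
      have : low (kill p) ∈ (q.comap θ).comap ψ := by
        rw [eq_sub_of_add_eq hc.symm]
        exact sub_mem hp (Ideal.mul_mem_left _ _ (hJle hlastJ))
      exact this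
    rw [hlow] at h1
    have h2 : kill p ∈ q'.comap φ' := h1
    rw [hcomap] at h2
    rw [hc]
    refine add_mem ?_ (Ideal.mul_mem_left _ _ hlastJ)
    have h3 := Ideal.mem_map_of_mem low h2
    rw [Ideal.map_span] at h3
    refine (Ideal.span_le.2 ?_ : _ ≤ J) h3
    rintro _ ⟨_, ⟨⟨i, hi⟩, rfl⟩, rfl⟩
    exact Ideal.subset_span ⟨⟨i.castSucc, by simpa using hi⟩, by simp [low]⟩

theorem exists_refined_normalization (n r : ℕ) (q : Ideal (MvPolynomial (Fin n) k)) [q.IsPrime]
    (hr : Algebra.trdeg k q.ResidueField = r) :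
    ∃ φ : MvPolynomial (Fin n) k →ₐ[k] MvPolynomial (Fin n) k, φ.toRingHom.Finite ∧
      q.comap φ = Ideal.span (Set.range fun i : {i : Fin n // r ≤ (i : ℕ)} => X (i : Fin n)) := by
  obtain ⟨r', hr', φ, hφ, hcomap⟩ := exists_finite_comap_eq n q
  have hfin : φ.toRingHom.Finite := hφ.to_finite (RingHom.FiniteType.of_comp_finiteType (f := C) (g := φ.toRingHom)
    (by rw [show φ.toRingHom.comp C = algebraMap k (MvPolynomial (Fin n) k) from φ.comp_algebraMap]
        exact RingHom.finiteType_algebraMap.2 inferInstance))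
  suffices r' = r by subst this; exact ⟨φ, hfin, hcomap⟩
  let low : MvPolynomial (Fin r') k →ₐ[k] MvPolynomial (Fin n) k := rename (Fin.castLE hr')
  let kill : MvPolynomial (Fin n) k →ₐ[k] MvPolynomial (Fin r') k :=
    aeval fun i => if h : (i : ℕ) < r' then X ⟨i, h⟩ else 0
  have hkl : ∀ p, kill (low p) = p := fun p => by
    show (kill.comp low) p = AlgHom.id k _ p
    congr 1
    ext i
    simp [kill, low]
  have hlk : ∀ p, p - low (kill p) ∈ q.comap φ := fun p => by
    induction p using MvPolynomial.induction_on with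
    | C a => simp [kill, low]
    | add p p' hp hp' => rw [map_add, map_add, add_sub_add_comm]; exact add_mem hp hp'
    | mul_X p i hp =>
      rw [map_mul, map_mul]
      by_cases h : (i : ℕ) < r'
      · rw [show low (kill (X i)) = X i by simp [kill, low, h], ← sub_mul]
        exact Ideal.mul_mem_right _ _ hp
      · rw [show low (kill (X i)) = 0 by simp [kill, h], mul_zero, sub_zero]
        refine Ideal.mul_mem_left _ _ ?_
        rw [hcomap]
        exact Ideal.subset_span ⟨⟨i, Nat.le_of_not_lt h⟩, rfl⟩
  let ι : MvPolynomial (Fin r') k →ₐ[k] (MvPolynomial (Fin n) k ⧸ q) :=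
    (Ideal.Quotient.mkₐ k q).comp (φ.comp low)
  have hinj : Function.Injective ι := by
    rw [injective_iff_map_eq_zero]
    intro p hp
    have h1 : low p ∈ q.comap φ := Ideal.mem_comap.2 (Ideal.Quotient.eq_zero_iff_mem.1 hp)
    rw [hcomap] at h1
    have h2 : kill (low p) = 0 := by
      refine (Ideal.span_le.2 ?_ : _ ≤ RingHom.ker kill) h1
      rintro _ ⟨⟨i, hi⟩, rfl⟩
      simp [kill, Nat.not_lt.2 hi]
    rwa [hkl] at h2
  have hint : ι.toRingHom.IsIntegral := by
    intro y
    obtain ⟨y, rfl⟩ := Ideal.Quotient.mk_surjective y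
    obtain ⟨P, hP, hPe⟩ := hφ y
    refine ⟨P.map kill.toRingHom, hP.map _, ?_⟩
    have hc : ι.toRingHom.comp kill.toRingHom = (Ideal.Quotient.mk q).comp φ.toRingHom :=
      RingHom.ext fun p => (Ideal.Quotient.eq.2 (show φ p - φ (low (kill p)) ∈ q by rw [← map_sub]; exact hlk p)).symm
    rw [Polynomial.eval₂_map, hc, ← Polynomial.hom_eval₂, hPe, map_zero]
  let := ι.toRingHom.toAlgebra
  let := ((algebraMap (MvPolynomial (Fin n) k ⧸ q) q.ResidueField).comp ι.toRingHom).toAlgebra
  have : IsScalarTower (MvPolynomial (Fin r') k) (MvPolynomial (Fin n) k ⧸ q) q.ResidueField :=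
    IsScalarTower.of_algebraMap_eq fun _ => rfl
  have hinjK : Function.Injective (algebraMap (MvPolynomial (Fin r') k) q.ResidueField) :=
    (IsFractionRing.injective (MvPolynomial (Fin n) k ⧸ q) q.ResidueField).comp hinj
  have : IsScalarTower k (MvPolynomial (Fin r') k) q.ResidueField := IsScalarTower.of_algebraMap_eq fun a => by
    show _ = algebraMap (MvPolynomial (Fin n) k ⧸ q) q.ResidueField (ι (algebraMap k (MvPolynomial (Fin r') k) a))
    rw [ι.commutes, ← IsScalarTower.algebraMap_apply]
  have : FaithfulSMul (MvPolynomial (Fin r') k) q.ResidueField :=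
    (faithfulSMul_iff_algebraMap_injective _ _).2 hinjK
  have : Algebra.IsIntegral (MvPolynomial (Fin r') k) (MvPolynomial (Fin n) k ⧸ q) := ⟨hint⟩
  have : FaithfulSMul (MvPolynomial (Fin r') k) (MvPolynomial (Fin n) k ⧸ q) :=
    (faithfulSMul_iff_algebraMap_injective _ _).2 hinj
  have : Algebra.IsAlgebraic (MvPolynomial (Fin n) k ⧸ q) q.ResidueField := IsLocalization.isAlgebraic _ (nonZeroDivisors _)
  have : Algebra.IsAlgebraic (MvPolynomial (Fin r') k) q.ResidueField :=
    Algebra.IsAlgebraic.trans (MvPolynomial (Fin r') k) (MvPolynomial (Fin n) k ⧸ q) q.ResidueField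
  have h := trdeg_add_eq k (MvPolynomial (Fin r') k) (A := q.ResidueField)
  rw [trdeg_eq_zero (R := MvPolynomial (Fin r') k) (A := q.ResidueField), MvPolynomial.trdeg_of_isDomain, hr,
    add_zero, Cardinal.mk_fin, Cardinal.lift_natCast] at h
  exact_mod_cast h

end Groth.Agent.FlatMisc.RefinedNN
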