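import Mathlib

/-!
# Rings in which monic polynomials have roots and flat quasi-finite algebras over them
-/

universe u

set_option autoImplicit false

open TensorProduct Polynomial

namespace Groth.Agent.AbsIntegral

/-- Every monic polynomial of positive degree has a root. -/
def HasRoots (B : Type u) [CommRing B] : Prop := ∀ P : B[X], P.Monic → P.natDegree ≠ 0 → ∃ x, P.eval x = 0

/-- A ring in which two elements with product zero are separated by an idempotent-like element. -/
def Separated (B : Type u) [CommRing B] : Prop := ∀ x y : B, x * y = 0 → ∃ e : B, e * x = 0 ∧ (1 - e) * y = 0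

theorem isDomain_atPrime {B : Type u} [CommRing B] (hB : Separated B) (q : Ideal B) [q.IsPrime] :
    IsDomain (Localization.AtPrime q) := by
  haveI : NoZeroDivisors (Localization.AtPrime q) := ⟨fun {a b} hab => by
    obtain ⟨a, s, rfl⟩ := IsLocalization.exists_mk'_eq q.primeCompl a
    obtain ⟨b, t, rfl⟩ := IsLocalization.exists_mk'_eq q.primeCompl b
    rw [← IsLocalization.mk'_mul, IsLocalization.mk'_eq_zero_iff] at hab
    obtain ⟨⟨w, hw⟩, hwab⟩ := hab
    obtain ⟨e, hea, heb⟩ := hB (w * a) b (by rw [mul_assoc]; exact hwab)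
    by_cases he : e ∈ q
    · refine Or.inr ((IsLocalization.mk'_eq_zero_iff _ _).2 ⟨⟨1 - e, fun h => ?_⟩, heb⟩)
      exact ‹q.IsPrime›.ne_top ((Ideal.eq_top_iff_one q).2 (by simpa using q.add_mem h he))
    · refine Or.inl ((IsLocalization.mk'_eq_zero_iff _ _).2 ⟨⟨e * w, ?_⟩, by show e * w * a = 0; rw [mul_assoc]; exact hea⟩)
      exact fun h => (‹q.IsPrime›.mem_or_mem h).elim he hw⟩
  exact NoZeroDivisors.to_isDomain _

theorem hasRoots_localization {B : Type u} [CommRing B] (hB : HasRoots B) (M : Submonoid B) (D : Type u)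
    [CommRing D] [IsDomain D] [Algebra B D] [IsLocalization M D] : HasRoots D := by
  intro P hP hdeg
  classical
  obtain ⟨⟨s, hs⟩, hint⟩ := IsLocalization.exist_integer_multiples_of_finset M P.coeffs
  have hsu : IsUnit (algebraMap B D s) := IsLocalization.map_units D ⟨s, hs⟩
  have hlift : P.scaleRoots (algebraMap B D s) ∈ Polynomial.lifts (algebraMap B D) := by
    rw [Polynomial.lifts_iff_coeff_lifts]
    intro i
    rw [Polynomial.coeff_scaleRoots]
    by_cases hi : i < P.natDegree
    · by_cases hc : P.coeff i = 0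
      · exact ⟨0, by simp [hc]⟩
      · obtain ⟨c, hc'⟩ := hint (P.coeff i) (Polynomial.coeff_mem_coeffs hc)
        refine ⟨c * s ^ (P.natDegree - i - 1), ?_⟩
        rw [map_mul, map_pow, hc', Algebra.smul_def, mul_comm (algebraMap B D s) (P.coeff i), mul_assoc, ← pow_succ',
          Nat.sub_add_cancel (Nat.sub_pos_of_lt hi)]
    · rcases eq_or_lt_of_le (not_lt.1 hi) with h | h
      · exact ⟨1, by rw [← h, hP.coeff_natDegree]; simp⟩
      · exact ⟨0, by rw [Polynomial.coeff_eq_zero_of_natDegree_lt h]; simp⟩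
  obtain ⟨Q, hQ, hQdeg, hQm⟩ := Polynomial.lifts_and_natDegree_eq_and_monic hlift (Polynomial.monic_scaleRoots_iff _ |>.2 hP)
  obtain ⟨w, hw⟩ := hB Q hQm (by rw [hQdeg, Polynomial.natDegree_scaleRoots]; exact hdeg)
  obtain ⟨σ, hσ⟩ := hsu
  refine ⟨algebraMap B D w * ↑σ⁻¹, ?_⟩
  have h1 : (P.scaleRoots (algebraMap B D s)).eval (algebraMap B D w) = 0 := by
    rw [← hQ, Polynomial.eval_map, Polynomial.eval₂_hom, hw, map_zero]
  have h2 := Polynomial.scaleRoots_eval₂_mul (RingHom.id D) (algebraMap B D w * ↑σ⁻¹) (algebraMap B D s) (p := P)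
  rw [RingHom.id_apply, ← hσ, mul_comm (↑σ : D), Units.inv_mul_cancel_right] at h2
  rw [← hσ] at h1
  rw [Polynomial.eval₂_id, Polynomial.eval₂_id, h1] at h2
  exact ((σ.isUnit.pow _).mul_right_eq_zero).1 h2.symm

/-- A domain with roots of all monic polynomials has no integral elements in a larger domain. -/
theorem mem_range_of_isIntegral {D E : Type u} [CommRing D] [IsDomain D] [CommRing E] [IsDomain E] [Algebra D E]
    (hD : HasRoots D) {x : E} (hx : IsIntegral D x) : x ∈ (algebraMap D E).range := by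
  obtain ⟨P, hP, hPx⟩ := hx
  induction hn : P.natDegree using Nat.strong_induction_on generalizing P with
  | _ n ih =>
    have hdeg : P.natDegree ≠ 0 := by
      intro h0
      rw [(Polynomial.Monic.natDegree_eq_zero hP).1 h0] at hPx
      simp at hPx
    obtain ⟨d, hd⟩ := hD P hP hdeg
    obtain ⟨Q, hQ⟩ := Polynomial.dvd_iff_isRoot.2 hd
    rw [hQ, Polynomial.eval₂_mul, mul_eq_zero] at hPx
    rcases hPx with h | h
    · rw [Polynomial.eval₂_sub, Polynomial.eval₂_X, Polynomial.eval₂_C, sub_eq_zero] at h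
      exact ⟨d, h.symm⟩
    · have hQm : Q.Monic := (Polynomial.monic_X_sub_C d).of_mul_monic_left (hQ ▸ hP)
      refine ih Q.natDegree ?_ Q hQm h rfl
      rw [← hn, hQ, (Polynomial.monic_X_sub_C d).natDegree_mul hQm, Polynomial.natDegree_X_sub_C]
      omega

/-- Over a local domain with roots, a flat quasi-finite algebra with a point over the closed point has a section. -/
theorem exists_section {D C : Type u} [CommRing D] [IsDomain D] [IsLocalRing D] (hD : HasRoots D)
    [CommRing C] [Algebra D C] [Module.Flat D C] [Algebra.FiniteType D C] [Algebra.QuasiFinite D C]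
    (n : Ideal C) [n.IsPrime] (hn : n.comap (algebraMap D C) = IsLocalRing.maximalIdeal D) :
    Nonempty (C →ₐ[D] D) := by
  haveI : n.LiesOver (IsLocalRing.maximalIdeal D) := ⟨hn.symm⟩
  obtain ⟨n₀, hn₀, hp, ho⟩ := Ideal.exists_ideal_le_liesOver_of_le (p := (⊥ : Ideal D))
    (q := IsLocalRing.maximalIdeal D) n bot_le
  haveI := hp
  let E := C ⧸ n₀
  have hinj : Function.Injective (algebraMap D E) := by
    rw [injective_iff_map_eq_zero]
    intro d hd
    rw [IsScalarTower.algebraMap_apply D C E, Ideal.Quotient.algebraMap_eq, Ideal.Quotient.eq_zero_iff_mem] at hd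
    have : d ∈ (⊥ : Ideal D) := by rw [ho.over]; exact hd
    exact this
  haveI : Algebra.FiniteType D E := Algebra.FiniteType.of_surjective (Ideal.Quotient.mkₐ D n₀) Ideal.Quotient.mk_surjective
  haveI : Algebra.QuasiFinite D E := inferInstance
  let m := n.map (Ideal.Quotient.mk n₀)
  have hmc : m.comap (Ideal.Quotient.mk n₀) = n := by
    rw [Ideal.comap_map_of_surjective _ Ideal.Quotient.mk_surjective, ← RingHom.ker_eq_comap_bot, Ideal.mk_ker]
    exact sup_of_le_left hn₀
  haveI : m.IsPrime := Ideal.map_isPrime_of_surjective Ideal.Quotient.mk_surjective (by rwa [Ideal.mk_ker])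
  obtain ⟨r, hrm, hri, hr⟩ := Algebra.zariskisMainProperty_iff.1 (Algebra.ZariskisMainProperty.of_finiteType (R := D) m)
  obtain ⟨d, rfl⟩ := mem_range_of_isIntegral hD hri
  have hdu : IsUnit d := by
    by_contra hd
    refine hrm ?_
    have h1 : algebraMap D C d ∈ n := hn.ge ((IsLocalRing.mem_maximalIdeal d).2 hd)
    rw [IsScalarTower.algebraMap_apply D C E, Ideal.Quotient.algebraMap_eq]
    exact Ideal.mem_map_of_mem _ h1
  have hsurj : Function.Surjective (Algebra.ofId D E) := fun x => by
    obtain ⟨k, hk⟩ := hr x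
    obtain ⟨y, hy⟩ := mem_range_of_isIntegral hD hk
    obtain ⟨v, hv⟩ := hdu.pow k
    refine ⟨↑v⁻¹ * y, ?_⟩
    show algebraMap D E (↑v⁻¹ * y) = x
    rw [map_mul, hy, ← map_pow, ← hv, ← mul_assoc, ← map_mul, Units.inv_mul, map_one, one_mul]
  let e := AlgEquiv.ofBijective (Algebra.ofId D E) ⟨hinj, hsurj⟩
  exact ⟨e.symm.toAlgHom.comp (Ideal.Quotient.mkₐ D n₀)⟩

/-- A map from a finitely presented algebra to a localisation at a prime spreads out. -/
theorem exists_spread {A B C : Type u} [CommRing A] [CommRing B] [Algebra A B] [CommRing C] [Algebra A C]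
    [Algebra.FinitePresentation A C] (q : Ideal B) [q.IsPrime] (φ : C →ₐ[A] Localization.AtPrime q) :
    ∃ c ∉ q, Nonempty (C →ₐ[A] Localization.Away c) := by
  classical
  obtain ⟨n, f, hf, K, hK⟩ := ‹Algebra.FinitePresentation A C›
  obtain ⟨⟨s, hs⟩, hint⟩ := IsLocalization.exist_integer_multiples_of_finset q.primeCompl
    (Finset.univ.image fun i => φ (f (MvPolynomial.X i)))
  choose b hb using fun i => hint (φ (f (MvPolynomial.X i))) (Finset.mem_image_of_mem _ (Finset.mem_univ i))
  let L := Localization.Away s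
  let jq : L →ₐ[B] Localization.AtPrime q := IsLocalization.liftAlgHom (M := Submonoid.powers s)
    (f := Algebra.ofId B (Localization.AtPrime q)) (by
      rintro ⟨_, m, rfl⟩
      simpa using (IsLocalization.map_units (Localization.AtPrime q) (⟨s, hs⟩ : q.primeCompl)).pow m)
  let θ : MvPolynomial (Fin n) A →ₐ[A] L :=
    MvPolynomial.aeval fun i => IsLocalization.mk' L (b i) (⟨s, Submonoid.mem_powers s⟩ : Submonoid.powers s)
  have hθ : (jq.restrictScalars A).comp θ = φ.comp f := by
    refine MvPolynomial.algHom_ext fun i => ?_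
    simp only [AlgHom.comp_apply, θ, MvPolynomial.aeval_X, AlgHom.restrictScalars_apply]
    refine (IsLocalization.map_units (Localization.AtPrime q) (⟨s, hs⟩ : q.primeCompl)).mul_left_cancel ?_
    have h1 : algebraMap B L s * IsLocalization.mk' L (b i) (⟨s, Submonoid.mem_powers s⟩ : Submonoid.powers s) = algebraMap B L (b i) := by
      rw [mul_comm]; exact IsLocalization.mk'_spec L (b i) _
    have h2 := congrArg jq h1
    rw [map_mul, jq.commutes, jq.commutes, hb i, Algebra.smul_def] at h2
    exact h2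
  have hkill : ∀ g ∈ K, ∃ t ∉ q, algebraMap B L t * θ g = 0 := by
    intro g hg
    have h0 : jq (θ g) = 0 := by
      have := AlgHom.congr_fun hθ g
      rw [AlgHom.comp_apply, AlgHom.comp_apply, show f g = 0 from (hK ▸ Ideal.subset_span hg : g ∈ RingHom.ker f.toRingHom), map_zero] at this
      exact this
    obtain ⟨a, ⟨_, m, rfl⟩, ha⟩ := IsLocalization.exists_mk'_eq (Submonoid.powers s) (θ g)
    have h1 : algebraMap B (Localization.AtPrime q) a = 0 := by
      have := congrArg jq (IsLocalization.mk'_spec L a (⟨s ^ m, m, rfl⟩ : Submonoid.powers s))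
      rw [map_mul, ha, h0, zero_mul, jq.commutes] at this
      exact this.symm
    obtain ⟨⟨t, ht⟩, htm⟩ := (IsLocalization.map_eq_zero_iff q.primeCompl _ a).1 h1
    refine ⟨t, ht, ?_⟩
    rw [← ha, IsLocalization.mk'_eq_mul_mk'_one, ← mul_assoc, ← map_mul, htm, map_zero, zero_mul]
  choose t ht ht0 using hkill
  let c := s * ∏ g : K, t g.1 g.2
  refine ⟨c, fun h => (‹q.IsPrime›.mem_or_mem h).elim hs fun h => ?_, ?_⟩
  · obtain ⟨g, -, hg⟩ := (Ideal.IsPrime.prod_mem_iff (p := q)).1 h
    exact ht _ _ hg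
  let L' := Localization.Away c
  have hcu : IsUnit (algebraMap B L' c) := IsLocalization.Away.algebraMap_isUnit c
  rw [map_mul, IsUnit.mul_iff] at hcu
  let π : L →ₐ[B] L' := IsLocalization.liftAlgHom (M := Submonoid.powers s) (f := Algebra.ofId B L') (by
    rintro ⟨_, m, rfl⟩
    simpa using hcu.1.pow m)
  let θ' : MvPolynomial (Fin n) A →ₐ[A] L' := (π.restrictScalars A).comp θ
  have hker : RingHom.ker f.toRingHom ≤ RingHom.ker θ'.toRingHom := by
    rw [← hK]
    refine Ideal.span_le.2 fun g hg => ?_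
    show π (θ g) = 0
    have h1 := congrArg π (ht0 g hg)
    rw [map_mul, map_zero, π.commutes] at h1
    have h2 := hcu.2
    rw [map_prod, IsUnit.prod_iff] at h2
    exact (h2 ⟨g, hg⟩ (Finset.mem_univ _)).mul_right_eq_zero.1 h1
  let l : C →ₐ[A] L' := (Ideal.Quotient.liftₐ (RingHom.ker f) θ' fun a ha => hker ha).comp
    (Ideal.quotientKerAlgEquivOfSurjective hf).symm.toAlgHom
  exact ⟨l⟩

/-- The local factorisation. -/
theorem exists_factor {A B C : Type u} [CommRing A] [CommRing B] [Algebra A B] (hB₁ : Separated B) (hB₂ : HasRoots B)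
    [CommRing C] [Algebra A C] [Module.Flat A C] [Algebra.FinitePresentation A C] [Algebra.QuasiFinite A C]
    (q : Ideal B) [q.IsPrime]
    (hn : ∃ N : Ideal (Localization.AtPrime q ⊗[A] C), N.IsPrime ∧
      N.comap (algebraMap (Localization.AtPrime q) _) = IsLocalRing.maximalIdeal (Localization.AtPrime q)) :
    ∃ c ∉ q, Nonempty (C →ₐ[A] Localization.Away c) := by
  haveI := isDomain_atPrime hB₁ q
  have hD := hasRoots_localization hB₂ q.primeCompl (Localization.AtPrime q)
  obtain ⟨N, hN, hNm⟩ := hn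
  obtain ⟨ψ⟩ := exists_section (D := Localization.AtPrime q) (C := Localization.AtPrime q ⊗[A] C) hD N hNm
  exact exists_spread q ((ψ.restrictScalars A).comp Algebra.TensorProduct.includeRight)

end Groth.Agent.AbsIntegral
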