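import Mathlib
import Groth.Agent.FlatMisc.AbsIntegralAlg

/-!
# The absolutely integrally closed cover of a scheme
-/

universe u

set_option autoImplicit false

open AlgebraicGeometry CategoryTheory Limits TopologicalSpace TensorProduct

namespace Groth.Agent.AbsIntegral

variable (S : Scheme.{u})

/-- The functions with values in algebraic closures of residue fields. -/
abbrev Pts (U : S.Opens) : Type u := ∀ x : U, AlgebraicClosure (S.residueField x.1)

/-- Evaluation of sections. -/
noncomputable def ev (U : S.Opens) : Γ(S, U) →+* Pts S U :=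
  Pi.ringHom fun x => (algebraMap (S.residueField x.1) _).comp (S.evaluation U x.1 x.2).hom

noncomputable instance (U : S.Opens) : Algebra Γ(S, U) (Pts S U) := (ev S U).toAlgebra

variable {S}

theorem ev_res {U V : S.Opens} (h : U ≤ V) (s : Γ(S, V)) (x : U) :
    ev S U (S.presheaf.map (homOfLE h).op s) x = ev S V s ⟨x.1, h x.2⟩ := by
  show algebraMap _ (AlgebraicClosure (S.residueField x.1)) (S.residue x.1 (S.presheaf.germ U x.1 x.2 (S.presheaf.map (homOfLE h).op s))) = _
  rw [TopCat.Presheaf.germ_res_apply]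
  rfl

/-- Restriction of functions. -/
noncomputable def restr {U V : S.Opens} (h : U ≤ V) : Pts S V →+* Pts S U :=
  Pi.ringHom fun x => Pi.evalRingHom _ (⟨x.1, h x.2⟩ : V)

theorem restr_ev {U V : S.Opens} (h : U ≤ V) (s : Γ(S, V)) :
    restr h (ev S V s) = ev S U (S.presheaf.map (homOfLE h).op s) := by
  funext x; exact (ev_res h s x).symm

theorem restr_integral {U V : S.Opens} (h : U ≤ V) {a : Pts S V} (ha : (ev S V).IsIntegralElem a) :
    (ev S U).IsIntegralElem (restr h a) := by
  obtain ⟨P, hP, hPa⟩ := ha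
  refine ⟨P.map (S.presheaf.map (homOfLE h).op).hom, hP.map _, ?_⟩
  rw [Polynomial.eval₂_map, show (ev S U).comp (S.presheaf.map (homOfLE h).op).hom = (restr h).comp (ev S V) from
    RingHom.ext fun s => (restr_ev h s).symm, ← Polynomial.hom_eval₂, hPa, map_zero]

variable (S)

/-- The sections of the cover. -/
noncomputable abbrev Bsub (U : S.Opens) : Subalgebra Γ(S, U) (Pts S U) :=
  integralClosure Γ(S, U) (Pts S U)

theorem mem_Bsub {U : S.Opens} (a : Pts S U) : a ∈ Bsub S U ↔ (ev S U).IsIntegralElem a := Iff.rfl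

/-- The presheaf of algebras on affine opens. -/
noncomputable def diagram : S.AffineZariskiSiteᵒᵖ ⥤ CommRingCat.{u} where
  obj U := CommRingCat.of (Bsub S U.unop.1)
  map {V U} i :=
    CommRingCat.ofHom ((restr (Scheme.AffineZariskiSite.toOpens_mono i.unop.le)).restrict _ _
      fun _ hx => restr_integral _ hx)
  map_id U := rfl
  map_comp i j := rfl

/-- The structure map. -/
noncomputable def diagramMap : (Scheme.AffineZariskiSite.toOpensFunctor S).op ⋙ S.presheaf ⟶ diagram S where
  app U :=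
    CommRingCat.ofHom (algebraMap Γ(S, U.unop.1) (Bsub S U.unop.1))
  naturality {V U} i := by
    refine CommRingCat.hom_ext (RingHom.ext fun s => Subtype.ext ?_)
    show ev S U.unop.1 (S.presheaf.map ((Scheme.AffineZariskiSite.toOpensFunctor S).map i.unop).op s) =
      restr (Scheme.AffineZariskiSite.toOpens_mono i.unop.le) (ev S V.unop.1 s)
    exact (restr_ev _ s).symm

variable {S}

theorem ev_eq_zero_iff {U : S.Opens} (r : Γ(S, U)) (x : U) : ev S U r x = 0 ↔ x.1 ∉ S.basicOpen r := by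
  show algebraMap _ (AlgebraicClosure (S.residueField x.1)) (S.evaluation U x.1 x.2 r) = 0 ↔ _
  rw [map_eq_zero]
  exact Scheme.evaluation_eq_zero_iff_notMem_basicOpen S x.1 x.2 r

theorem coequifibered : (diagramMap S).Coequifibered := by
  classical
  refine Scheme.AffineZariskiSite.coequifibered_iff_forall_isLocalizationAway.mpr fun U r => ?_
  let D : S.Opens := S.basicOpen r
  have hD : D ≤ U.1 := S.basicOpen_le r
  letI : Algebra (Bsub S U.1) (Bsub S D) := ((diagram S).map (homOfLE (U.basicOpen_le r)).op).hom.toAlgebra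
  have hmap : ∀ a : Bsub S U.1, (algebraMap (Bsub S U.1) (Bsub S D) a).1 = restr hD a.1 := fun a => rfl
  let g : Bsub S U.1 := algebraMap Γ(S, U.1) (Bsub S U.1) r
  show IsLocalization.Away g (Bsub S D)
  haveI := U.2.isLocalization_basicOpen r
  obtain ⟨σ, hσ⟩ := IsLocalization.Away.algebraMap_isUnit (S := Γ(S, S.basicOpen r)) r
  have hres : ∀ s : Γ(S, U.1), restr hD (ev S U.1 s) = ev S D (algebraMap Γ(S, U.1) Γ(S, S.basicOpen r) s) :=
    fun s => restr_ev hD s
  have hg : IsUnit (algebraMap (Bsub S U.1) (Bsub S D) g) := by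
    rw [show algebraMap (Bsub S U.1) (Bsub S D) g = algebraMap Γ(S, D) (Bsub S D) (algebraMap Γ(S, U.1) Γ(S, S.basicOpen r) r) from
      Subtype.ext (hres r)]
    exact (hσ ▸ σ.isUnit).map _
  refine ⟨?_, ?_, ?_⟩
  · rintro ⟨_, n, rfl⟩
    simpa using hg.pow n
  · intro a
    letI : Algebra Γ(S, U.1) (Pts S D) := ((restr hD).comp (ev S U.1)).toAlgebra
    haveI : IsScalarTower Γ(S, U.1) Γ(S, S.basicOpen r) (Pts S D) := IsScalarTower.of_algebraMap_eq fun s => hres s
    obtain ⟨⟨_, n, rfl⟩, hn⟩ := IsIntegral.exists_multiple_integral_of_isLocalization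
      (R := Γ(S, U.1)) (Rₘ := Γ(S, S.basicOpen r)) (Submonoid.powers r) (a.1 : Pts S D) a.2
    obtain ⟨Q, hQ, hQa⟩ := hn
    let y : Pts S D := (r ^ n : Γ(S, U.1)) • (a.1 : Pts S D)
    let z : Pts S U.1 := fun x => if h : x.1 ∈ D then y ⟨x.1, h⟩ else 0
    have hz : z ∈ Bsub S U.1 := by
      refine ⟨Q * Polynomial.X, hQ.mul Polynomial.monic_X, ?_⟩
      funext x
      have h1 : Polynomial.eval₂ (ev S U.1) z (Q * Polynomial.X) x =
          Polynomial.eval₂ ((Pi.evalRingHom _ x).comp (ev S U.1)) (z x) Q * z x := by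
        rw [Polynomial.eval₂_mul_X, Pi.mul_apply]
        exact congrArg (· * z x) (Polynomial.hom_eval₂ Q (ev S U.1) (Pi.evalRingHom _ x) z)
      show Polynomial.eval₂ (ev S U.1) z (Q * Polynomial.X) x = 0
      rw [h1]
      by_cases h : x.1 ∈ D
      · have h2 := congrArg (Pi.evalRingHom _ (⟨x.1, h⟩ : D)) hQa
        rw [Polynomial.hom_eval₂, map_zero] at h2
        rw [show z x = y ⟨x.1, h⟩ from dif_pos h]
        exact mul_eq_zero_of_left h2 _
      · rw [show z x = 0 from dif_neg h, mul_zero]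
    refine ⟨(⟨z, hz⟩, ⟨g ^ n, n, rfl⟩), Subtype.ext ?_⟩
    show a.1 * (algebraMap (Bsub S U.1) (Bsub S D) (g ^ n)).1 = restr hD z
    funext x
    rw [hmap]
    show a.1 x * ((ev S U.1 r) ^ n : Pts S U.1) ⟨x.1, hD x.2⟩ = z ⟨x.1, hD x.2⟩
    rw [show z ⟨x.1, hD x.2⟩ = y x from dif_pos (show (⟨x.1, hD x.2⟩ : U.1).1 ∈ D from x.2), ← map_pow]
    exact mul_comm _ _
  · intro a b hab
    refine ⟨⟨g, Submonoid.mem_powers g⟩, Subtype.ext ?_⟩
    show ev S U.1 r * a.1 = ev S U.1 r * b.1
    funext x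
    by_cases h : x.1 ∈ D
    · have := congrFun (congrArg Subtype.val hab) ⟨x.1, h⟩
      exact congrArg (ev S U.1 r x * ·) this
    · show ev S U.1 r x * a.1 x = ev S U.1 r x * b.1 x
      rw [(ev_eq_zero_iff r x).2 h, zero_mul, zero_mul]

/-- The gluing data. -/
noncomputable def glueData : (Scheme.AffineZariskiSite.directedCover S).RelativeGluingData :=
  Scheme.AffineZariskiSite.relativeGluingData (coequifibered (S := S))

instance : ((glueData (S := S)).functor ⋙ Scheme.forget).IsLocallyDirected :=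
  Scheme.Cover.RelativeGluingData.instIsLocallyDirectedI₀CompFunctorForgetOfIsThin ..

theorem separated (U : S.Opens) :
    Separated (Bsub S U) := by
  classical
  intro a b hab
  let e : Pts S U := fun x => if a.1 x = 0 then 1 else 0
  have he : e ∈ Bsub S U := by
    refine ⟨Polynomial.X ^ 2 - Polynomial.X, Polynomial.monic_X_pow_sub (Polynomial.degree_X_le.trans_lt (by norm_num)), ?_⟩
    rw [Polynomial.eval₂_sub, Polynomial.eval₂_X_pow, Polynomial.eval₂_X, sub_eq_zero]
    funext x
    show e x ^ 2 = e x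
    by_cases h : a.1 x = 0 <;> simp [e, h]
  refine ⟨⟨e, he⟩, Subtype.ext (funext fun x => ?_), Subtype.ext (funext fun x => ?_)⟩
  · show e x * a.1 x = 0
    by_cases h : a.1 x = 0 <;> simp [e, h]
  · show (1 - e x) * b.1 x = 0
    have h1 : a.1 x * b.1 x = 0 := congrFun (congrArg Subtype.val hab) x
    by_cases h : a.1 x = 0
    · simp [e, h]
    · simp [(mul_eq_zero.1 h1).resolve_left h]

theorem hasRoots (U : S.Opens) :
    HasRoots (Bsub S U) := by
  classical
  intro P hP hdeg
  have hroot : ∀ x : U, ∃ c : AlgebraicClosure (S.residueField x.1),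
      (P.map ((Pi.evalRingHom (fun x : U => AlgebraicClosure (S.residueField x.1)) x).comp (Bsub S U).val.toRingHom)).eval c = 0 := fun x => by
    refine IsAlgClosed.exists_root _ fun h => hdeg ?_
    have h1 := Polynomial.natDegree_eq_of_degree_eq_some h
    rwa [hP.natDegree_map] at h1
  choose c hc using hroot
  have hc' : Polynomial.eval₂ (Bsub S U).val.toRingHom (c : Pts S U) P = 0 := by
    funext x
    have := hc x
    rw [Polynomial.eval_map] at this
    rw [Pi.zero_apply, ← this, ← Pi.evalRingHom_apply (fun x : U => AlgebraicClosure (S.residueField x.1)) x (Polynomial.eval₂ _ _ P), Polynomial.hom_eval₂]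
    rfl
  have hcint : (c : Pts S U) ∈ Bsub S U := by
    haveI : Algebra.IsIntegral Γ(S, U) (Bsub S U) := integralClosure.AlgebraIsIntegral
    exact isIntegral_trans (R := Γ(S, U)) (A := Bsub S U) _ ⟨P, hP, hc'⟩
  refine ⟨⟨c, hcint⟩, Subtype.ext ?_⟩
  rw [Polynomial.eval, Subalgebra.coe_zero]
  show (Bsub S U).val.toRingHom (Polynomial.eval₂ _ _ P) = 0
  rw [Polynomial.hom_eval₂]
  exact hc'

theorem ι_toBase (U : S.AffineZariskiSite) :
    colimit.ι (glueData (S := S)).functor U ≫ (glueData (S := S)).toBase =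
      Spec.map ((diagramMap S).app (.op U)) ≫ U.2.fromSpec := by
  rw [Scheme.Cover.RelativeGluingData.ι_toBase]
  show (Spec.map ((diagramMap S).app (.op U)) ≫ U.2.isoSpec.inv) ≫ U.1.ι = _
  exact (Category.assoc _ _ _).trans (congrArg _ (IsAffineOpen.isoSpec_inv_ι _))

instance : IsIntegralHom (glueData (S := S)).toBase := by
  haveI : IsZariskiLocalAtTarget @IsIntegralHom.{u} := (HasAffineProperty.iff.mp IsIntegralHom.hasAffineProperty).1
  rw [IsZariskiLocalAtTarget.iff_of_iSup_eq_top (P := @IsIntegralHom.{u}) _ (iSup_affineOpens_eq_top _)]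
  intro U₀
  let U : S.AffineZariskiSite := ⟨U₀.1, U₀.2⟩
  haveI : MorphismProperty.RespectsIso @IsIntegralHom.{u} := this.toRespects
  haveI : IsOpenImmersion (colimit.ι (glueData (S := S)).functor U) :=
    (glueData (S := S)).cover.map_prop U
  let e := IsOpenImmersion.isoOfRangeEq ((glueData (S := S)).toBase ⁻¹ᵁ U.1).ι (colimit.ι (glueData (S := S)).functor U)
    (by simpa using congr($((glueData (S := S)).toBase_preimage_eq_opensRange_ι U).1))
  show IsIntegralHom ((glueData (S := S)).toBase ∣_ U.1)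
  rw [← MorphismProperty.cancel_left_of_respectsIso @IsIntegralHom.{u} e.inv,
    ← MorphismProperty.cancel_right_of_respectsIso @IsIntegralHom.{u} _ U.2.isoSpec.hom]
  have : ((diagramMap S).app (.op U)).hom.IsIntegral := by
    change (algebraMap Γ(S, U.1) (Bsub S U.1)).IsIntegral
    exact algebraMap_isIntegral_iff.mpr integralClosure.AlgebraIsIntegral
  convert! IsIntegralHom.SpecMap_iff.mpr this
  refine (cancel_mono U.2.fromSpec).1 ?_
  refine Eq.trans ?_ (ι_toBase U)
  simp [e, IsAffineOpen.isoSpec_hom]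

theorem surjective_toBase : Surjective (glueData (S := S)).toBase := by
  refine ⟨fun s => ?_⟩
  obtain ⟨_, ⟨U, hU, rfl⟩, hsU, -⟩ := S.isBasis_affineOpens.exists_subset_of_mem_open (Set.mem_univ s) isOpen_univ
  let U' : S.AffineZariskiSite := ⟨U, hU⟩
  let χ : Bsub S U →+* AlgebraicClosure (S.residueField s) :=
    (Pi.evalRingHom (fun x : U => AlgebraicClosure (S.residueField x.1)) ⟨s, hsU⟩).comp (Bsub S U).val.toRingHom
  let q : PrimeSpectrum (Bsub S U) := ⟨RingHom.ker χ, RingHom.ker_isPrime χ⟩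
  refine ⟨colimit.ι (glueData (S := S)).functor U' q, ?_⟩
  show (colimit.ι (glueData (S := S)).functor U' ≫ (glueData (S := S)).toBase) q = s
  rw [ι_toBase]
  show U'.2.fromSpec (PrimeSpectrum.comap (algebraMap Γ(S, U) (Bsub S U)) q) = s
  refine Eq.trans ?_ (U'.2.fromSpec_primeIdealOf ⟨s, hsU⟩)
  refine congrArg _ (PrimeSpectrum.ext ?_)
  ext r
  show χ (algebraMap Γ(S, U) (Bsub S U) r) = 0 ↔ _
  rw [show χ (algebraMap Γ(S, U) (Bsub S U) r) = ev S U r ⟨s, hsU⟩ from rfl, ev_eq_zero_iff]
  show s ∉ S.basicOpen r ↔ _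
  have h : U'.2.fromSpec (U'.2.primeIdealOf ⟨s, hsU⟩) ∈ S.basicOpen r ↔ r ∉ (U'.2.primeIdealOf ⟨s, hsU⟩).asIdeal := by
    show U'.2.primeIdealOf ⟨s, hsU⟩ ∈ U'.2.fromSpec ⁻¹ᵁ S.basicOpen r ↔ _
    rw [U'.2.fromSpec_preimage_basicOpen]
    rfl
  rw [U'.2.fromSpec_primeIdealOf] at h
  exact (not_congr h).trans not_not

theorem exists_prime_tensor {A B C : Type u} [CommRing A] [CommRing B] [Algebra A B] [CommRing C] [Algebra A C]
    (q : Ideal B) [q.IsPrime] (n : Ideal C) [n.IsPrime] (h : q.comap (algebraMap A B) = n.comap (algebraMap A C)) :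
    ∃ N : Ideal (Localization.AtPrime q ⊗[A] C), N.IsPrime ∧
      N.comap (algebraMap (Localization.AtPrime q) _) = IsLocalRing.maximalIdeal (Localization.AtPrime q) := by
  let D := Localization.AtPrime q
  have hD : (IsLocalRing.maximalIdeal D).comap (algebraMap A D) = n.comap (algebraMap A C) := by
    rw [IsScalarTower.algebraMap_eq A B D, ← Ideal.comap_comap,
      show Ideal.comap (algebraMap B D) (IsLocalRing.maximalIdeal D) = q from Localization.AtPrime.under_maximalIdeal, h]
  obtain ⟨z, hz, -⟩ := Scheme.Pullback.exists_preimage_pullback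
    (f := Spec.map (CommRingCat.ofHom (algebraMap A D))) (g := Spec.map (CommRingCat.ofHom (algebraMap A C)))
    (IsLocalRing.closedPoint D) (⟨n, inferInstance⟩ : PrimeSpectrum C) (PrimeSpectrum.ext hD)
  let w : PrimeSpectrum (D ⊗[A] C) := (pullbackSpecIso A D C).hom z
  refine ⟨w.asIdeal, w.2, ?_⟩
  have h2 : (Spec.map (CommRingCat.ofHom (algebraMap D (D ⊗[A] C)))) w = IsLocalRing.closedPoint D := by
    show ((pullbackSpecIso A D C).hom ≫ Spec.map (CommRingCat.ofHom (algebraMap D (D ⊗[A] C)))) z = _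
    rw [show (pullbackSpecIso A D C).hom ≫ Spec.map (CommRingCat.ofHom (algebraMap D (D ⊗[A] C))) = pullback.fst _ _ from
      pullbackSpecIso_hom_fst A D C]
    exact hz
  exact congrArg PrimeSpectrum.asIdeal h2

theorem exists_local_factor {X : Scheme.{u}} (g : X ⟶ S) [Flat g] [LocallyOfFinitePresentation g]
    [LocallyQuasiFinite g] [Surjective g] (t : ↑(glueData (S := S)).glued) :
    ∃ (V : (glueData (S := S)).glued.Opens) (r : ↑V ⟶ X), t ∈ V ∧ r ≫ g = V.ι ≫ (glueData (S := S)).toBase := by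
  obtain ⟨U, q, hq⟩ := (glueData (S := S)).cover.exists_eq t
  let A := Γ(S, U.1)
  let q' : PrimeSpectrum (Bsub S U.1) := q
  let x := U.2.fromSpec (PrimeSpectrum.comap (algebraMap A (Bsub S U.1)) q')
  have hxU : x ∈ U.1 := by
    have : x ∈ Set.range U.2.fromSpec := ⟨_, rfl⟩
    rwa [IsAffineOpen.range_fromSpec] at this
  obtain ⟨x', hx'⟩ := g.surjective x
  obtain ⟨_, ⟨W, hW, rfl⟩, hx'W, hWU⟩ := X.isBasis_affineOpens.exists_subset_of_mem_open
    (show x' ∈ (g ⁻¹ᵁ U.1 : Set X) from show g x' ∈ U.1 from hx'.symm ▸ hxU) (g ⁻¹ᵁ U.1).isOpen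
  replace hW : IsAffineOpen W := hW
  have e : W ≤ g ⁻¹ᵁ U.1 := hWU
  letI := (g.appLE U.1 W e).hom.toAlgebra
  haveI : Module.Flat A Γ(X, W) := g.flat_appLE U.2 hW e
  haveI : Algebra.FinitePresentation A Γ(X, W) := g.finitePresentation_appLE U.2 hW e
  haveI : Algebra.QuasiFinite A Γ(X, W) := LocallyQuasiFinite.quasiFinite_appLE (f := g) U.2 hW e
  let n : PrimeSpectrum Γ(X, W) := hW.primeIdealOf ⟨x', hx'W⟩
  have hn : PrimeSpectrum.comap (algebraMap A Γ(X, W)) n = PrimeSpectrum.comap (algebraMap A (Bsub S U.1)) q' := by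
    apply U.2.fromSpec.isEmbedding.injective
    show (Spec.map (g.appLE U.1 W e) ≫ U.2.fromSpec) n = x
    rw [IsAffineOpen.SpecMap_appLE_fromSpec g U.2 hW e]
    show g (hW.fromSpec n) = x
    rw [hW.fromSpec_primeIdealOf]
    exact hx'
  obtain ⟨c, hc, ⟨θ⟩⟩ := exists_factor (A := A) (B := Bsub S U.1) (C := Γ(X, W)) (separated U.1) (hasRoots U.1) q'.asIdeal
    (exists_prime_tensor q'.asIdeal n.asIdeal (congrArg PrimeSpectrum.asIdeal hn).symm)
  let j : Spec (CommRingCat.of (Localization.Away c)) ⟶ (glueData (S := S)).glued :=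
    Spec.map (CommRingCat.ofHom (algebraMap (Bsub S U.1) (Localization.Away c))) ≫ colimit.ι (glueData (S := S)).functor U
  haveI : IsOpenImmersion (colimit.ι (glueData (S := S)).functor U) :=
    inferInstanceAs (IsOpenImmersion ((glueData (S := S)).cover.f U))
  haveI : IsOpenImmersion (Spec.map (CommRingCat.ofHom (algebraMap (Bsub S U.1) (Localization.Away c)))) :=
    IsOpenImmersion.of_isLocalization c
  haveI : IsOpenImmersion j := MorphismProperty.comp_mem (W := @IsOpenImmersion.{u}) _ _ ‹_› ‹_›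
  refine ⟨j.opensRange, j.isoOpensRange.inv ≫ Spec.map (CommRingCat.ofHom θ.toRingHom) ≫ hW.fromSpec, ?_, ?_⟩
  · have h1 : q' ∈ Set.range (PrimeSpectrum.comap (algebraMap (Bsub S U.1) (Localization.Away c))) := by
      rw [PrimeSpectrum.localization_away_comap_range (Localization.Away c) c]
      exact hc
    obtain ⟨w, hw⟩ := h1
    refine ⟨w, ?_⟩
    show colimit.ι (glueData (S := S)).functor U (Spec.map (CommRingCat.ofHom (algebraMap (Bsub S U.1) (Localization.Away c))) w) = t
    rw [show Spec.map (CommRingCat.ofHom (algebraMap (Bsub S U.1) (Localization.Away c))) w = q from hw]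
    exact hq
  · rw [Category.assoc, Category.assoc, ← IsAffineOpen.SpecMap_appLE_fromSpec g U.2 hW e, Iso.inv_comp_eq,
      Scheme.Hom.isoOpensRange_hom_ι_assoc, show j ≫ (glueData (S := S)).toBase =
        Spec.map (CommRingCat.ofHom (algebraMap (Bsub S U.1) (Localization.Away c))) ≫ (colimit.ι (glueData (S := S)).functor U ≫ (glueData (S := S)).toBase) from Category.assoc _ _ _,
      ← Spec.map_comp_assoc]
    refine Eq.trans ?_ (congrArg (Spec.map (CommRingCat.ofHom (algebraMap (Bsub S U.1) (Localization.Away c))) ≫ ·) (ι_toBase U)).symm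
    refine Eq.trans ?_ (Spec.map_comp_assoc _ _ _)
    refine congrArg (fun φ => Spec.map φ ≫ U.2.fromSpec) ?_
    refine CommRingCat.hom_ext (RingHom.ext fun a => ?_)
    exact θ.commutes a

end Groth.Agent.AbsIntegral
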