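import Mathlib
import Groth.Agent.AdaptedCoord.Local

/-!
Étale charts adapted to a smooth closed subscheme.
-/

set_option autoImplicit false

universe u

open CategoryTheory CategoryTheory.Limits AlgebraicGeometry TensorProduct

namespace Groth.Agent.AdaptedChart

/-- Minimal local generators of an ideal. -/
theorem exists_min_generators {B : Type u} [CommRing B] (J : Ideal B) (hJ : J.FG) (q : Ideal B) [q.IsPrime] :
    ∃ (r : ℕ) (g : Fin r → B), (∀ i, g i ∈ J) ∧
      J.map (algebraMap B (Localization.AtPrime q)) =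
        Ideal.span (Set.range fun i => algebraMap B (Localization.AtPrime q) (g i)) ∧
      r = Module.finrank q.ResidueField (q.ResidueField ⊗[B] J) := by
  classical
  let K := q.ResidueField
  let L := Localization.AtPrime q
  haveI : Module.Finite B J := ⟨(Submodule.fg_top _).mpr hJ⟩
  let T : Set (K ⊗[B] J) := Set.range fun j : J => (1 : K) ⊗ₜ[B] j
  have hT : Submodule.span K T = ⊤ := by
    rw [eq_top_iff]
    intro z _
    induction z with
    | zero => exact zero_mem _
    | tmul c j =>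
      rw [show c ⊗ₜ[B] j = c • ((1 : K) ⊗ₜ[B] j) by rw [smul_tmul', smul_eq_mul, mul_one]]
      exact Submodule.smul_mem _ _ (Submodule.subset_span ⟨j, rfl⟩)
    | add a b ha hb => exact add_mem (ha trivial) (hb trivial)
  obtain ⟨t, htT, htspan, htli⟩ := exists_linearIndependent K T
  rw [hT] at htspan
  let b := Module.Basis.mk htli (le_of_eq (by rw [Subtype.range_coe_subtype, Set.setOf_mem_eq, htspan]))
  haveI : Module.Finite K (K ⊗[B] J) := inferInstance
  haveI : Fintype t := FiniteDimensional.fintypeBasisIndex b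
  choose j hj using fun x : t => htT x.2
  let e := (Fintype.equivFin t).symm
  refine ⟨Fintype.card t, fun i => (j (e i)).1, fun i => (j (e i)).2, ?_,
    (Module.finrank_eq_card_basis b).symm⟩
  -- Nakayama in the local ring
  let ψ : J →ₗ[B] L := (Algebra.linearMap B L).comp (Submodule.subtype J)
  refine le_antisymm ?_ (Ideal.span_le.mpr (by
    rintro _ ⟨i, rfl⟩
    exact Ideal.mem_map_of_mem _ (j (e i)).2))
  set N := Ideal.span (Set.range fun i => algebraMap B L ((j (e i)).1)) with hN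
  have hfg : (J.map (algebraMap B L)).FG := hJ.map _
  refine Submodule.le_of_le_smul_of_le_jacobson_bot hfg
    (IsLocalRing.jacobson_eq_maximalIdeal (⊥ : Ideal L) bot_ne_top).ge (Ideal.map_le_iff_le_comap.mpr ?_)
  intro x hx
  let lx := b.repr ((1 : K) ⊗ₜ[B] ⟨x, hx⟩)
  choose c hc using fun i : t =>
    IsLocalRing.residue_surjective (R := L) (lx i)
  let lift : L ⊗[B] J →ₗ[L] L := ψ.liftBaseChange L
  let y : L ⊗[B] J := (1 : L) ⊗ₜ[B] ⟨x, hx⟩ - ∑ i : t, c i • ((1 : L) ⊗ₜ[B] j i)
  let π : L ⊗[B] J →ₗ[L] K ⊗[B] J :=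
    AlgebraTensorModule.map (Algebra.linearMap L K) LinearMap.id
  have hy : π y = 0 := by
    simp only [π, y, map_sub, map_sum, map_smul, AlgebraTensorModule.map_tmul, LinearMap.id_apply,
      Algebra.linearMap_apply, map_one]
    rw [sub_eq_zero, ← b.sum_repr ((1 : K) ⊗ₜ[B] ⟨x, hx⟩)]
    refine Finset.sum_congr rfl fun i _ => ?_
    rw [← IsScalarTower.algebraMap_smul K (c i), show algebraMap L K (c i) = lx i from hc i,
      Module.Basis.mk_apply]
    exact congrArg (lx i • ·) (hj i).symm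
  have hπ : LinearMap.ker π ≤ IsLocalRing.maximalIdeal L • (⊤ : Submodule L (L ⊗[B] J)) := by
    intro z hz
    have hex : Function.Exact ((IsLocalRing.maximalIdeal L).restrictScalars B).subtype
        ((Algebra.linearMap L K).restrictScalars B) := by
      intro c
      constructor
      · intro h
        exact ⟨⟨c, IsLocalRing.residue_eq_zero_iff c |>.mp h⟩, rfl⟩
      · rintro ⟨c, rfl⟩
        exact (IsLocalRing.residue_eq_zero_iff _).mpr c.2
    have hz' : ((Algebra.linearMap L K).restrictScalars B).rTensor J z = 0 := hz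
    obtain ⟨w, rfl⟩ := (rTensor_exact J hex IsLocalRing.residue_surjective z).mp hz'
    clear hz hz'
    induction w with
    | zero => simp
    | tmul c j' =>
      rw [LinearMap.rTensor_tmul, Submodule.subtype_apply,
        show (c : L) ⊗ₜ[B] j' = (c : L) • ((1 : L) ⊗ₜ[B] j') by rw [smul_tmul', smul_eq_mul, mul_one]]
      exact Submodule.smul_mem_smul c.2 trivial
    | add a b ha hb => rw [map_add]; exact add_mem ha hb
  have hrange : ∀ z, lift z ∈ J.map (algebraMap B L) := by
    intro z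
    induction z with
    | zero => simp
    | tmul c j' =>
      show c • algebraMap B L j'.1 ∈ _
      exact Ideal.mul_mem_left _ c (Ideal.mem_map_of_mem _ j'.2)
    | add a b ha hb => rw [map_add]; exact add_mem ha hb
  have hlift : lift y ∈ IsLocalRing.maximalIdeal L • J.map (algebraMap B L) := by
    refine Submodule.smul_induction_on (hπ (LinearMap.mem_ker.mpr hy)) (fun c hc z _ => ?_)
      fun a b ha hb => ?_
    · rw [map_smul]
      exact Submodule.smul_mem_smul hc (hrange z)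
    · rw [map_add]
      exact add_mem ha hb
  have hcalc : algebraMap B L x = (∑ i : t, c i * algebraMap B L (j i).1) + lift y := by
    simp [y, lift, ψ, LinearMap.liftBaseChange_tmul]
  rw [Ideal.mem_comap, hcalc]
  refine Submodule.add_mem_sup (Ideal.sum_mem _ fun i _ => Ideal.mul_mem_left _ _ ?_) hlift
  exact Ideal.subset_span ⟨Fintype.equivFin t i, by simp [e]⟩

section Affine

variable {S : Scheme.{u}} {n : Type u} [Finite n]

/-- A family of functions with étale evaluation map gives an étale morphism to affine space. -/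
theorem etale_homOfVector {A C : CommRingCat.{u}} (φ : A ⟶ C) (j : Spec A ⟶ S) [IsOpenImmersion j]
    (v : n → C) (h : (MvPolynomial.eval₂Hom φ.hom v).Etale) :
    Etale (AffineSpace.homOfVector (Spec.map φ ≫ j) (fun i => (Scheme.ΓSpecIso C).inv (v i))) := by
  let ev : CommRingCat.of (MvPolynomial n A) ⟶ C := CommRingCat.ofHom (MvPolynomial.eval₂Hom φ.hom v)
  have e : AffineSpace.homOfVector (Spec.map φ ≫ j) (fun i => (Scheme.ΓSpecIso C).inv (v i)) =
      Spec.map ev ≫ (AffineSpace.SpecIso n A).inv ≫ AffineSpace.map n j := by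
    apply AffineSpace.hom_ext
    · rw [AffineSpace.homOfVector_over, Category.assoc, Category.assoc, AffineSpace.map_over,
        AffineSpace.SpecIso_inv_over_assoc, ← Spec.map_comp_assoc]
      congr 2
      ext a
      exact (MvPolynomial.eval₂Hom_C φ.hom v a).symm
    · intro i
      rw [AffineSpace.homOfVector_appTop_coord, Scheme.Hom.comp_appTop, Scheme.Hom.comp_appTop,
        CommRingCat.comp_apply, CommRingCat.comp_apply, AffineSpace.map_appTop_coord,
        AffineSpace.SpecIso_inv_appTop_coord, ← CommRingCat.comp_apply, ← Scheme.ΓSpecIso_inv_naturality,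
        CommRingCat.comp_apply]
      exact congrArg _ (MvPolynomial.eval₂Hom_X' φ.hom v i).symm
  haveI : IsOpenImmersion (AffineSpace.map n j) :=
    MorphismProperty.of_isPullback (P := @IsOpenImmersion) (AffineSpace.isPullback_map j).flip ‹_›
  haveI : Etale (Spec.map ev) := (HasRingHomProperty.Spec_iff (P := @Etale)).mpr h
  rw [e]
  infer_instance

end Affine

/-- The coordinate subspace of affine space. -/
noncomputable abbrev coordSub (S : Scheme.{u}) (m r : ℕ) :
    𝔸(ULift.{u} (Fin m); S) ⟶ 𝔸(ULift.{u} (Fin m ⊕ Fin r); S) :=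
  AffineSpace.homOfVector (𝔸(ULift.{u} (Fin m); S) ↘ S)
    (fun j : ULift.{u} (Fin m ⊕ Fin r) =>
      Sum.elim (fun a => AffineSpace.coord S (ULift.up a)) (fun _ => 0) j.down)

/-- The zero locus of the last coordinates is the pullback of the coordinate subspace. -/
theorem isPullback_coordSub {S U Z : Scheme.{u}} [IsAffine U] (pU : U ⟶ S) (i : Z ⟶ U) [IsClosedImmersion i]
    {m r : ℕ} (w : ULift.{u} (Fin m ⊕ Fin r) → Γ(U, ⊤))
    (hker : RingHom.ker i.appTop.hom = Ideal.span (Set.range fun b => w (ULift.up (Sum.inr b)))) :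
    IsPullback (AffineSpace.homOfVector (i ≫ pU) (fun a : ULift.{u} (Fin m) => i.appTop (w (ULift.up (Sum.inl a.down)))))
      i (coordSub S m r) (AffineSpace.homOfVector pU w) := by
  let ρ := AffineSpace.homOfVector (i ≫ pU)
    (fun a : ULift.{u} (Fin m) => i.appTop (w (ULift.up (Sum.inl a.down))))
  have hzero : ∀ b, i.appTop (w (ULift.up (Sum.inr b))) = 0 := fun b =>
    RingHom.mem_ker.mp (hker.ge (Ideal.subset_span ⟨b, rfl⟩))
  have hw : ρ ≫ coordSub S m r = i ≫ AffineSpace.homOfVector pU w := by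
    apply AffineSpace.hom_ext
    · rw [Category.assoc, AffineSpace.homOfVector_over, AffineSpace.homOfVector_over, Category.assoc,
        AffineSpace.homOfVector_over]
    · rintro ⟨a | b⟩
      · rw [Scheme.Hom.comp_appTop, Scheme.Hom.comp_appTop, CommRingCat.comp_apply, CommRingCat.comp_apply,
          AffineSpace.homOfVector_appTop_coord, AffineSpace.homOfVector_appTop_coord]
        exact AffineSpace.homOfVector_appTop_coord _ _ _
      · rw [Scheme.Hom.comp_appTop, Scheme.Hom.comp_appTop, CommRingCat.comp_apply, CommRingCat.comp_apply,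
          AffineSpace.homOfVector_appTop_coord, AffineSpace.homOfVector_appTop_coord, hzero]
        exact map_zero _
  have hle : ∀ {T : Scheme.{u}} (a : T ⟶ 𝔸(ULift.{u} (Fin m); S)) (b : T ⟶ U),
      a ≫ coordSub S m r = b ≫ AffineSpace.homOfVector pU w → i.ker ≤ b.ker := by
    intro T a b h
    rw [Scheme.ker_of_isAffine i, Scheme.ker_of_isAffine b]
    refine Scheme.IdealSheafData.le_of_isAffine ?_
    simp only [Scheme.IdealSheafData.ofIdealTop_ideal]
    simp [hker, Ideal.span_le]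
    rintro _ ⟨c, rfl⟩
    have := congrArg (fun k => k.appTop (AffineSpace.coord S (ULift.up (Sum.inr c)))) h
    simp only [Scheme.Hom.comp_appTop, CommRingCat.comp_apply, AffineSpace.homOfVector_appTop_coord,
      Sum.elim_inr, map_zero] at this
    exact this.symm
  refine ⟨⟨hw⟩, ⟨PullbackCone.IsLimit.mk hw
    (fun s => IsClosedImmersion.lift i s.snd (hle s.fst s.snd s.condition)) (fun s => ?_)
    (fun s => IsClosedImmersion.lift_fac _ _ _) (fun s l _ h2 => ?_)⟩⟩
  · have hl := IsClosedImmersion.lift_fac i s.snd (hle s.fst s.snd s.condition)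
    apply AffineSpace.hom_ext
    · rw [Category.assoc, AffineSpace.homOfVector_over, reassoc_of% hl]
      have := s.condition =≫ (𝔸(ULift.{u} (Fin m ⊕ Fin r); S) ↘ S)
      rw [Category.assoc, Category.assoc, AffineSpace.homOfVector_over, AffineSpace.homOfVector_over] at this
      exact this.symm
    · rintro ⟨a⟩
      rw [Scheme.Hom.comp_appTop, CommRingCat.comp_apply, AffineSpace.homOfVector_appTop_coord,
        ← CommRingCat.comp_apply, ← Scheme.Hom.comp_appTop, hl]
      have := congrArg (fun k => k.appTop (AffineSpace.coord S (ULift.up (Sum.inl a)))) s.condition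
      simp only [Scheme.Hom.comp_appTop, CommRingCat.comp_apply, AffineSpace.homOfVector_appTop_coord,
        Sum.elim_inl] at this
      exact this.symm
  · rw [← cancel_mono i, h2, IsClosedImmersion.lift_fac]

/-- An étale chart adapted to a smooth closed subscheme. -/
theorem exists_chart {S X Y : Scheme.{u}} (pX : X ⟶ S) (pY : Y ⟶ S) [Smooth pX] [Smooth pY]
    (i : Y ⟶ X) [IsClosedImmersion i] (w : i ≫ pX = pY) (y : Y) :
    ∃ (U : X.Opens) (m n : ℕ) (π : (U : Scheme.{u}) ⟶ 𝔸(ULift.{u} (Fin m ⊕ Fin n); S))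
      (ρ : (↑(i ⁻¹ᵁ U) : Scheme.{u}) ⟶ 𝔸(ULift.{u} (Fin m); S)),
      i y ∈ U ∧ Etale π ∧ π ≫ (𝔸(ULift.{u} (Fin m ⊕ Fin n); S) ↘ S) = U.ι ≫ pX ∧
      IsPullback ρ (i ∣_ U) (coordSub S m n) π := by
  obtain ⟨_, ⟨V, hV, rfl⟩, hxV, -⟩ := S.isBasis_affineOpens.exists_subset_of_mem_open
    (Set.mem_univ (pX (i y))) isOpen_univ
  obtain ⟨_, ⟨U₀, hU₀, rfl⟩, hxU₀, hUV⟩ := X.isBasis_affineOpens.exists_subset_of_mem_open
    (show i y ∈ (pX ⁻¹ᵁ V : X.Opens) from hxV) (pX ⁻¹ᵁ V).2
  let φ₀ : Γ(S, V) ⟶ Γ(X, U₀) := pX.appLE V U₀ hUV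
  let s₀ : Γ(X, U₀) ⟶ Γ(Y, i ⁻¹ᵁ U₀) := i.app U₀
  have hs₀ : Function.Surjective s₀ := Scheme.Hom.app_surjective i U₀ hU₀
  let J : Ideal Γ(X, U₀) := RingHom.ker s₀.hom
  letI : Algebra Γ(S, V) Γ(X, U₀) := φ₀.hom.toAlgebra
  haveI : Algebra.Smooth Γ(S, V) Γ(X, U₀) := pX.smooth_appLE hV hU₀ hUV
  have hYV : i ⁻¹ᵁ U₀ ≤ pY ⁻¹ᵁ V := by
    rw [← w]
    exact fun z hz => hUV hz
  have hcomp : φ₀ ≫ s₀ = pY.appLE V (i ⁻¹ᵁ U₀) hYV := by
    subst w
    rw [Scheme.Hom.comp_appLE]
    simp only [φ₀, s₀, Scheme.Hom.app_eq_appLE, Scheme.Hom.appLE_comp_appLE]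
  have hsmB : (s₀.hom.comp φ₀.hom).Smooth := by
    rw [← CommRingCat.hom_comp, hcomp]
    exact pY.smooth_appLE hV (hU₀.preimage i) hYV
  haveI : Algebra.Smooth Γ(S, V) (Γ(X, U₀) ⧸ J) := by
    rw [← RingHom.smooth_algebraMap]
    let e := RingHom.quotientKerEquivOfSurjective hs₀
    have : algebraMap Γ(S, V) (Γ(X, U₀) ⧸ J) = e.symm.toRingHom.comp (s₀.hom.comp φ₀.hom) := by
      ext a
      apply e.injective
      simp only [RingHom.comp_apply, RingEquiv.toRingHom_eq_coe, RingEquiv.coe_toRingHom,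
        RingEquiv.apply_symm_apply]
      rfl
    rw [this]
    exact RingHom.Smooth.respectsIso.1 _ _ hsmB
  have hJfg : J.FG := by
    have := Algebra.FinitePresentation.ker_fG_of_surjective (Ideal.Quotient.mkₐ Γ(S, V) J)
      (Ideal.Quotient.mkₐ_surjective Γ(S, V) J)
    rwa [show RingHom.ker (Ideal.Quotient.mkₐ Γ(S, V) J).toRingHom = J from Ideal.mk_ker] at this
  let q : Ideal Γ(X, U₀) := (hU₀.primeIdealOf ⟨i y, hxU₀⟩).asIdeal
  have hqD : ∀ f : Γ(X, U₀), f ∉ q ↔ i y ∈ X.basicOpen f := by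
    intro f
    have hq : hU₀.fromSpec (hU₀.primeIdealOf ⟨i y, hxU₀⟩) = i y := hU₀.fromSpec_primeIdealOf ⟨i y, hxU₀⟩
    rw [← hq]
    change _ ↔ hU₀.primeIdealOf ⟨i y, hxU₀⟩ ∈ hU₀.fromSpec ⁻¹ᵁ X.basicOpen f
    rw [hU₀.fromSpec_preimage_basicOpen]
    rfl
  have hJq : J ≤ q := by
    intro b hb
    by_contra h
    have h1 : y ∈ i ⁻¹ᵁ X.basicOpen b := (hqD b).mp h
    rw [Scheme.preimage_basicOpen, show i.app U₀ b = 0 from hb, Scheme.basicOpen_zero] at h1
    exact h1
  haveI : (q.map (Ideal.Quotient.mk J)).IsPrime :=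
    Ideal.map_isPrime_of_surjective Ideal.Quotient.mk_surjective (by rwa [Ideal.mk_ker])
  have hQ : (q.map (Ideal.Quotient.mk J)).comap (Ideal.Quotient.mk J) = q := by
    rw [Ideal.comap_map_of_surjective _ Ideal.Quotient.mk_surjective, ← RingHom.ker_eq_comap_bot,
      Ideal.mk_ker, sup_eq_left.mpr hJq]
  obtain ⟨r, g, hg, hgen, hmin⟩ := exists_min_generators J hJfg q
  obtain ⟨f, hf, m, g', het, hJf⟩ := AdaptedCoord.exists_coordinates (A := Γ(S, V)) J hJfg q hJq
    (q.map (Ideal.Quotient.mk J)) hQ r g hg hgen hmin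
  let U : X.Opens := X.basicOpen f
  have hU : IsAffineOpen U := hU₀.basicOpen f
  have hUle : U ≤ U₀ := X.basicOpen_le f
  letI : Algebra Γ(X, U₀) Γ(X, U) := (X.presheaf.map (homOfLE hUle).op).hom.toAlgebra
  haveI : IsLocalization.Away f Γ(X, U) := hU₀.isLocalization_basicOpen f
  let ψ : Localization.Away f ≃ₐ[Γ(X, U₀)] Γ(X, U) := IsLocalization.algEquiv (Submonoid.powers f) _ _
  let v : ULift.{u} (Fin m ⊕ Fin r) → Γ(X, U) := fun j =>
    Sum.elim (fun a => ψ (g' a)) (fun b => algebraMap Γ(X, U₀) Γ(X, U) (g b)) j.down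
  let φ : Γ(S, V) ⟶ Γ(X, U) := pX.appLE V U (hUle.trans hUV)
  have hφ : φ.hom = (algebraMap Γ(X, U₀) Γ(X, U)).comp φ₀.hom := by
    rw [RingHom.algebraMap_toAlgebra, ← CommRingCat.hom_comp]
    exact congrArg CommRingCat.Hom.hom (pX.appLE_map hUV (homOfLE hUle).op).symm
  have hev : (MvPolynomial.eval₂Hom φ.hom v).Etale := by
    let e : MvPolynomial (ULift.{u} (Fin m ⊕ Fin r)) Γ(S, V) ≃+* MvPolynomial (Fin r ⊕ Fin m) Γ(S, V) :=
      (MvPolynomial.renameEquiv Γ(S, V) (Equiv.ulift.trans (Equiv.sumComm _ _))).toRingEquiv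
    have heq : MvPolynomial.eval₂Hom φ.hom v =
        (ψ.toRingEquiv.toRingHom.comp ((MvPolynomial.aeval (Sum.elim (fun i => algebraMap Γ(X, U₀) (Localization.Away f) (g i)) g') :
          MvPolynomial (Fin r ⊕ Fin m) Γ(S, V) →ₐ[Γ(S, V)] Localization.Away f).toRingHom)).comp e.toRingHom := by
      refine MvPolynomial.ringHom_ext (fun a => ?_) fun k => ?_
      · rw [MvPolynomial.eval₂Hom_C, hφ]
        show algebraMap Γ(X, U₀) Γ(X, U) (φ₀.hom a) = ψ (MvPolynomial.aeval _ (MvPolynomial.rename _ (MvPolynomial.C a)))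
        rw [MvPolynomial.rename_C, MvPolynomial.aeval_C,
          IsScalarTower.algebraMap_apply Γ(S, V) Γ(X, U₀) (Localization.Away f), ψ.commutes]
        rfl
      · obtain ⟨a | b⟩ := k <;> simp [e, v]
    rw [heq]
    exact RingHom.Etale.respectsIso.2 _ _ (RingHom.Etale.respectsIso.1 _ _ het)
  let E : Γ(X, U) ⟶ Γ(U.toScheme, ⊤) := (Scheme.ΓSpecIso _).inv ≫ hU.isoSpec.hom.appTop
  have hE : E = U.topIso.inv := by
    simp only [E, IsAffineOpen.isoSpec_hom_appTop]
    simp
  let wU : ULift.{u} (Fin m ⊕ Fin r) → Γ(U.toScheme, ⊤) := fun j => E (v j)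
  have hfac : U.ι ≫ pX = hU.isoSpec.hom ≫ Spec.map φ ≫ hV.fromSpec := by
    rw [IsAffineOpen.SpecMap_appLE_fromSpec pX hV hU, IsAffineOpen.isoSpec_hom_fromSpec_assoc]
  have hπe : AffineSpace.homOfVector (U.ι ≫ pX) wU = hU.isoSpec.hom ≫
      AffineSpace.homOfVector (Spec.map φ ≫ hV.fromSpec) (fun j => (Scheme.ΓSpecIso _).inv (v j)) := by
    rw [AffineSpace.comp_homOfVector, hfac]
    rfl
  haveI : IsAffine U.toScheme := hU
  refine ⟨U, m, r, AffineSpace.homOfVector (U.ι ≫ pX) wU, _, (hqD f).mp hf, ?_,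
    AffineSpace.homOfVector_over _ _, isPullback_coordSub (U.ι ≫ pX) (i ∣_ U) wU ?_⟩
  · rw [hπe]
    haveI := etale_homOfVector φ hV.fromSpec v hev
    infer_instance
  -- the ideal of `Y ∩ U`
  have hkerU : RingHom.ker (i.app U).hom = J.map (algebraMap Γ(X, U₀) Γ(X, U)) := by
    have h1 := i.ker.map_ideal_basicOpen ⟨U₀, hU₀⟩ f
    rw [Scheme.Hom.ker_apply, Scheme.Hom.ker_apply] at h1
    exact h1.symm
  have hspan : J.map (algebraMap Γ(X, U₀) Γ(X, U)) =
      Ideal.span (Set.range fun b => v (ULift.up (Sum.inr b))) := by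
    have h2 := congrArg (Ideal.map ψ.toAlgHom.toRingHom) hJf
    rw [Ideal.map_map, Ideal.map_span, ← Set.range_comp] at h2
    convert h2 using 2
    · ext a; exact (ψ.commutes a).symm
    · ext b; simp [v]
  ext x
  obtain ⟨x, rfl⟩ : ∃ x', E x' = x := by
    rw [hE]
    exact (ConcreteCategory.bijective_of_isIso U.topIso.inv).2 x
  have h3 : Ideal.span (Set.range fun b => wU (ULift.up (Sum.inr b))) =
      (RingHom.ker (i.app U).hom).map E.hom := by
    rw [hkerU, hspan, Ideal.map_span, ← Set.range_comp]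
    rfl
  rw [h3, Ideal.mem_map_iff_of_surjective _ (by rw [hE]; exact (ConcreteCategory.bijective_of_isIso U.topIso.inv).2)]
  have hinj : Function.Injective E.hom := by rw [hE]; exact (ConcreteCategory.bijective_of_isIso U.topIso.inv).1
  have h4 : ∀ z : Γ(X, U), (i ∣_ U).appTop (E z) = (i ⁻¹ᵁ U).topIso.inv (i.app U z) := by
    intro z
    rw [hE]
    refine congrArg (fun k : Γ(X, U) ⟶ Γ((i ⁻¹ᵁ U).toScheme, ⊤) => k z) (?_ : U.topIso.inv ≫ (i ∣_ U).appTop = i.app U ≫ (i ⁻¹ᵁ U).topIso.inv)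
    simp [morphismRestrict_appTop, Scheme.Opens.topIso, Scheme.Hom.app_eq_appLE]
    erw [Scheme.Hom.map_appLE, Scheme.Hom.appLE_map]
  rw [RingHom.mem_ker]
  constructor
  · intro h
    refine ⟨x, ?_, rfl⟩
    rw [RingHom.mem_ker]
    exact (ConcreteCategory.bijective_of_isIso (i ⁻¹ᵁ U).topIso.inv).1 ((h4 x).symm.trans (h.trans (map_zero _).symm))
  · rintro ⟨x', hx', he⟩
    rw [← hinj he]
    refine (h4 x').trans ?_
    rw [RingHom.mem_ker.mp hx', map_zero]

end Groth.Agent.AdaptedChart
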