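import Mathlib
import Groth.Agent.FlatMisc.CDecomp
import Groth.Agent.MorLib.LimPro
import Groth.Agent.MorLib.BaseChangeLim
import Groth.Agent.S9206

/-! Descent of complete decomposition along limits with affine transition maps. -/

set_option autoImplicit false
set_option backward.isDefEq.respectTransparency.types false

namespace Groth.Agent.FlatMisc.CDecompLim

universe u

open AlgebraicGeometry CategoryTheory Limits Topology TopologicalSpace

/-- `w` has a rational point over it. -/
def Good {X Y W : Scheme.{u}} (f : X ⟶ Y) (p : W ⟶ Y) (w : W) : Prop :=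
  ∃ a : Spec (W.residueField w) ⟶ X, a ≫ f = W.fromSpecResidueField w ≫ p

variable {X Y W : Scheme.{u}} {f : X ⟶ Y} {p : W ⟶ Y}

theorem good_map {W' : Scheme.{u}} (g : W' ⟶ W) {w' : W'} (h : Good f p (g w')) : Good f (g ≫ p) w' := by
  obtain ⟨a, ha⟩ := h
  exact ⟨Spec.map (g.residueFieldMap w') ≫ a, by
    rw [Category.assoc, ha, ← Category.assoc, Scheme.Hom.SpecMap_residueFieldMap_fromSpecResidueField, Category.assoc]⟩

theorem bijective_of_comp {Z : Scheme.{u}} (s : Z ⟶ X) {z : Z ⟶ Y} (e : s ≫ f = z) (v : Z)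
    (hz : Function.Bijective (z.residueFieldMap v)) : Function.Bijective (f.residueFieldMap (s v)) := by
  subst e
  rw [Scheme.residueFieldMap_comp] at hz
  have hf : Function.Injective (f.residueFieldMap (s v)).hom := RingHom.injective _
  refine ⟨hf, fun b => ?_⟩
  have hs : Function.Injective (s.residueFieldMap v).hom := RingHom.injective _
  obtain ⟨c, hc⟩ := hz.2 (s.residueFieldMap v b)
  exact ⟨c, hs hc⟩

theorem bijective_of_preimmersion {Z : Scheme.{u}} (z : Z ⟶ Y) [IsPreimmersion z] (v : Z) :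
    Function.Bijective (z.residueFieldMap v) := by
  refine ⟨RingHom.injective _, fun b => ?_⟩
  obtain ⟨b', rfl⟩ := Z.residue_surjective v b
  obtain ⟨c, rfl⟩ := z.stalkMap_surjective v b'
  refine ⟨Y.residue (z v) c, ?_⟩
  rw [← CategoryTheory.comp_apply, Scheme.residue_residueFieldMap]
  rfl

theorem range_subset {A B C : Scheme.{u}} (g : A ⟶ B) (h : B ⟶ C) {k : A ⟶ C} (e : k = g ≫ h) (s : A) :
    Set.range (k.residueFieldMap s) ⊆ Set.range (g.residueFieldMap s) := by
  subst e
  rintro _ ⟨c, rfl⟩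
  exact ⟨h.residueFieldMap (g s) c, by rw [Scheme.residueFieldMap_comp]; rfl⟩

theorem exists_point {w : W} (h : Good f p w) : ∃ x : ↑(pullback f p), pullback.snd f p x = w ∧
    Function.Bijective ((pullback.snd f p).residueFieldMap x) := by
  obtain ⟨a, ha⟩ := h
  let s := pullback.lift a (W.fromSpecResidueField w) ha
  have e : s ≫ pullback.snd f p = W.fromSpecResidueField w := pullback.lift_snd _ _ _
  refine ⟨s (IsLocalRing.closedPoint _), ?_, bijective_of_comp s e _ (bijective_of_preimmersion _ _)⟩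
  rw [← Scheme.Hom.comp_apply, e, Scheme.fromSpecResidueField_apply]

theorem good_of_point (x : X) (hbij : Function.Bijective (f.residueFieldMap x)) : Good f (𝟙 Y) (f x) := by
  haveI : IsIso (f.residueFieldMap x) := (ConcreteCategory.isIso_iff_bijective _).mpr hbij
  refine ⟨Spec.map (inv (f.residueFieldMap x)) ≫ X.fromSpecResidueField x, ?_⟩
  rw [Category.assoc, ← Scheme.Hom.SpecMap_residueFieldMap_fromSpecResidueField, ← Spec.map_comp_assoc,
    IsIso.hom_inv_id, Spec.map_id, Category.id_comp, Category.comp_id]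

theorem good_of_pullback {w : W} (h : Good (pullback.snd f p) (𝟙 W) w) : Good f p w := by
  obtain ⟨a, ha⟩ := h
  exact ⟨a ≫ pullback.fst f p, by
    rw [Category.assoc, pullback.condition, ← Category.assoc, ha, Category.comp_id]⟩

theorem isIndConstructible_good [LocallyOfFinitePresentation f] [QuasiSeparatedSpace W] :
    ProCons.IsIndConstructible {w : W | Good f p w} := by
  classical
  rw [EGA41Lib.ind_iff]
  intro V hV
  show IsOpen[constructibleTopology (V : Set W)] _
  haveI := ProConsLib.spectral_opens hV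
  refine (@isOpen_iff_forall_mem_open _ (constructibleTopology (V : Set W)) _).mpr ?_
  intro w hw
  obtain ⟨x, hxw, hbij⟩ := exists_point (w := (w : W)) hw
  obtain ⟨Z, z, hwz, -, himm, hlfp, hqc, -, s, hs⟩ :=
    CDecomp.exists_piece (pullback.snd f p) (w : W) x hxw hbij
  have hlc : IsLocallyConstructible (Set.range z) := by
    rw [← Set.image_univ]
    exact z.isLocallyConstructible_image .univ
  refine ⟨Subtype.val ⁻¹' Set.range z, fun v hv => ?_, EGA41Lib.ind_iff.mp (EGA41Lib.lc_iff.mp hlc).1 V hV, hwz⟩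
  obtain ⟨u', hu'⟩ := hv
  show Good f p (v : W)
  rw [← hu']
  refine good_of_pullback ?_
  have h1 := good_of_point (f := pullback.snd f p) (s u') (bijective_of_comp s hs u' (bijective_of_preimmersion z u'))
  rwa [← Scheme.Hom.comp_apply, hs] at h1

/-- Rational points at a limit point come from a finite stage. -/
theorem exists_good {J : Type u} [SmallCategory J] [IsCofiltered J] (E : J ⥤ Scheme.{u}) (e : Cone E)
    (he : IsLimit e) [∀ {i j : J} (a : i ⟶ j), IsAffineHom (E.map a)] [LocallyOfFiniteType f]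
    (t : E ⟶ (Functor.const J).obj Y) (q : e.pt ⟶ Y) (hq : ∀ j, e.π.app j ≫ t.app j = q)
    (s : e.pt) (h : Good f q s) : ∃ j, Good f (t.app j) (e.π.app j s) := by
  classical
  obtain ⟨a, ha⟩ := h
  let pt := IsLocalRing.closedPoint (e.pt.residueField s)
  obtain ⟨V, hV, hyV, -⟩ := exists_isAffineOpen_mem_and_subset (x := q s) (U := ⊤) trivial
  have hfa : f (a pt) = q s := by
    rw [← Scheme.Hom.comp_apply, ha, Scheme.Hom.comp_apply, Scheme.fromSpecResidueField_apply]
  obtain ⟨U, hU, hxU, hUV⟩ := exists_isAffineOpen_mem_and_subset (x := a pt) (U := f ⁻¹ᵁ V)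
    (show f (a pt) ∈ V from hfa ▸ hyV)
  have hrange : Set.range a ⊆ (U : Set X) := by
    rintro _ ⟨z, rfl⟩
    rwa [Subsingleton.elim z pt]
  let a' := IsOpenImmersion.lift hU.fromSpec a (by rwa [hU.range_fromSpec])
  obtain ⟨θ, hθ⟩ := Spec.map_surjective a'
  have ha' : Spec.map θ ≫ hU.fromSpec = a := by rw [hθ, IsOpenImmersion.lift_fac]
  let φ := f.appLE V U hUV
  letI := φ.hom.toAlgebra
  haveI : Algebra.FiniteType Γ(Y, V) Γ(X, U) := f.finiteType_appLE hV hU hUV
  obtain ⟨gs, hgs⟩ := ‹Algebra.FiniteType Γ(Y, V) Γ(X, U)›.1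
  choose j b hb using fun g : gs => S9206.result E e he s (θ.hom g)
  obtain ⟨k, hk⟩ := IsCofiltered.inf_objs_exists (Finset.univ.image j)
  have hsurj : ∀ g : gs, θ.hom g ∈ Set.range ((e.π.app k).residueFieldMap s) := by
    intro g
    obtain ⟨m⟩ := hk (Finset.mem_image_of_mem j (Finset.mem_univ g))
    exact range_subset (e.π.app k) (E.map m) (e.w m).symm s ⟨b g, hb g⟩
  let kk := (E.obj k).residueField (e.π.app k s)
  let ι : kk ⟶ e.pt.residueField s := (e.π.app k).residueFieldMap s
  let R : Subring (e.pt.residueField s) := ι.hom.range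
  -- the structure map factors
  have hstr : Spec.map θ ≫ Spec.map φ ≫ hV.fromSpec =
      Spec.map ι ≫ (E.obj k).fromSpecResidueField _ ≫ t.app k := by
    rw [hV.SpecMap_appLE_fromSpec f hU hUV, ← Category.assoc, ha', ha, ← hq k,
      ← Category.assoc, ← Scheme.Hom.SpecMap_residueFieldMap_fromSpecResidueField, Category.assoc]
  have hVk : Set.range ((E.obj k).fromSpecResidueField (e.π.app k s) ≫ t.app k) ⊆ (V : Set Y) := by
    rintro _ ⟨z, rfl⟩
    rw [Scheme.Hom.comp_apply, Scheme.fromSpecResidueField_apply, ← Scheme.Hom.comp_apply, hq]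
    exact hyV
  obtain ⟨χ, hχ⟩ := Spec.map_surjective
    (IsOpenImmersion.lift hV.fromSpec ((E.obj k).fromSpecResidueField (e.π.app k s) ≫ t.app k)
      (by rwa [hV.range_fromSpec]))
  have hχι : φ ≫ θ = χ ≫ ι := by
    apply Spec.map_injective
    rw [← cancel_mono hV.fromSpec, Spec.map_comp_assoc, Spec.map_comp_assoc, hstr, hχ, IsOpenImmersion.lift_fac]
  have hmem : ∀ x : Γ(X, U), θ.hom x ∈ R := by
    intro x
    have hx : x ∈ Algebra.adjoin Γ(Y, V) (gs : Set Γ(X, U)) := hgs ▸ trivial
    induction hx using Algebra.adjoin_induction with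
    | mem g hg => exact hsurj ⟨g, hg⟩
    | algebraMap r => exact ⟨χ.hom r, (RingHom.congr_fun (congrArg CommRingCat.Hom.hom hχι) r).symm⟩
    | add x y _ _ hx hy => rw [map_add]; exact add_mem hx hy
    | mul x y _ _ hx hy => rw [map_mul]; exact mul_mem hx hy
  choose lam hlam using hmem
  have hιinj : Function.Injective ι.hom := RingHom.injective _
  let θk : Γ(X, U) ⟶ kk := CommRingCat.ofHom
    { toFun := lam
      map_one' := hιinj ((hlam 1).trans ((map_one θ.hom).trans (map_one ι.hom).symm))
      map_zero' := hιinj ((hlam 0).trans ((map_zero θ.hom).trans (map_zero ι.hom).symm))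
      map_mul' := fun x y => hιinj ((hlam _).trans ((map_mul θ.hom x y).trans
        ((congrArg₂ (· * ·) (hlam x).symm (hlam y).symm).trans (map_mul ι.hom _ _).symm)))
      map_add' := fun x y => hιinj ((hlam _).trans ((map_add θ.hom x y).trans
        ((congrArg₂ (· + ·) (hlam x).symm (hlam y).symm).trans (map_add ι.hom _ _).symm))) }
  refine ⟨k, Spec.map θk ≫ hU.fromSpec, ?_⟩
  rw [Category.assoc, ← hV.SpecMap_appLE_fromSpec f hU hUV, ← Spec.map_comp_assoc,
    show φ ≫ θk = χ from CommRingCat.hom_ext (RingHom.ext fun r => hιinj (by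
      show ι.hom (lam (φ.hom r)) = ι.hom (χ.hom r)
      rw [hlam]
      exact RingHom.congr_fun (congrArg CommRingCat.Hom.hom hχι) r)),
    hχ, IsOpenImmersion.lift_fac]

end Groth.Agent.FlatMisc.CDecompLim
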