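import Mathlib
import Groth.Agent.FlatMisc.GenerizeNear
import Groth.Agent.GenImage.Basic

/-!
# Components of fibres near the generic point
-/

universe u
set_option autoImplicit false
open AlgebraicGeometry CategoryTheory CategoryTheory.Limits TopologicalSpace Topology

namespace Groth.Agent.FlatMisc.ComponentsNear

variable {X Y : Scheme.{u}} (f : X ⟶ Y) [IrreducibleSpace ↑Y] [LocallyOfFiniteType f]

/-- An open set meeting the generic fibre has image containing a nonempty open. -/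
theorem exists_open_subset_image (O : X.Opens) (h : ∃ x ∈ O, f x = genericPoint ↑Y) :
    ∃ V : Y.Opens, (V : Set ↑Y).Nonempty ∧ ∀ y ∈ V, ∃ x ∈ O, f x = y := by
  obtain ⟨x, hxO, hx⟩ := h
  obtain ⟨U, hU, hηU, -⟩ := exists_isAffineOpen_mem_and_subset (x := genericPoint ↑Y) (U := (⊤ : Y.Opens)) (by simp)
  obtain ⟨W, hW, hxW, hWle⟩ := exists_isAffineOpen_mem_and_subset (x := x) (U := O ⊓ f ⁻¹ᵁ U)
    ⟨hxO, show f x ∈ U by rw [hx]; exact hηU⟩
  have hWU : W ≤ f ⁻¹ᵁ U := fun z hz => (hWle hz).2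
  letI := (f.appLE U W hWU).hom.toAlgebra
  haveI : Algebra.FiniteType Γ(Y, U) Γ(X, W) := f.finiteType_appLE hU hW hWU
  let ξ := hU.primeIdealOf ⟨genericPoint ↑Y, hηU⟩
  have hcomm : ∀ q : PrimeSpectrum Γ(X, W),
      hU.fromSpec (PrimeSpectrum.comap (algebraMap Γ(Y, U) Γ(X, W)) q) = f (hW.fromSpec q) := fun q => by
    exact congr($(hU.SpecMap_appLE_fromSpec f hW hWU) q)
  have hξ : ξ ∈ PrimeSpectrum.comap (algebraMap Γ(Y, U) Γ(X, W)) '' Set.univ := by
    refine ⟨hW.primeIdealOf ⟨x, hxW⟩, trivial, hU.fromSpec.isOpenEmbedding.injective ?_⟩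
    rw [hcomm, hW.fromSpec_primeIdealOf]
    show f x = hU.fromSpec (hU.primeIdealOf ⟨genericPoint ↑Y, hηU⟩)
    rw [hU.fromSpec_primeIdealOf]
    exact hx
  obtain ⟨U₀, hU₀, hξU, hsub⟩ := GenImage.exists_open_piece IsConstructible.univ hξ
  refine ⟨⟨hU.fromSpec '' U₀, hU.fromSpec.isOpenEmbedding.isOpenMap _ hU₀⟩, ⟨_, ξ, hξU, rfl⟩, ?_⟩
  rintro _ ⟨p, hp, rfl⟩
  have hpc : p ∈ closure ({ξ} : Set (PrimeSpectrum Γ(Y, U))) := by
    refine (specializes_iff_mem_closure).mp ?_
    refine hU.fromSpec.isOpenEmbedding.isInducing.specializes_iff.mp ?_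
    show hU.fromSpec (hU.primeIdealOf ⟨genericPoint ↑Y, hηU⟩) ⤳ hU.fromSpec p
    rw [hU.fromSpec_primeIdealOf]
    exact (genericPoint_spec ↑Y).specializes (Set.mem_univ _)
  obtain ⟨q, -, rfl⟩ := hsub ⟨hp, hpc⟩
  exact ⟨hW.fromSpec q, (hWle (hW.range_fromSpec.le ⟨q, rfl⟩)).1, (hcomm q).symm⟩

theorem exists_open_iInter {ι : Type*} [Finite ι] (V : ι → Y.Opens) (hV : ∀ i, (V i : Set ↑Y).Nonempty) :
    ∃ V' : Y.Opens, (V' : Set ↑Y).Nonempty ∧ ∀ i, V' ≤ V i :=
  ⟨⟨⋂ i, (V i : Set ↑Y), isOpen_iInter_of_finite fun i => (V i).isOpen⟩,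
    ⟨genericPoint ↑Y, Set.mem_iInter.mpr fun i => ((genericPoint_spec ↑Y).mem_open_set_iff (V i).isOpen).mpr (by
      rw [Set.univ_inter]; exact hV i)⟩,
    fun i _ hy => Set.mem_iInter.mp hy i⟩

variable [QuasiCompact f]

/-- Finitely many closed subsets covering the generic fibre, none contained in the union of the others: their closures
cover the fibres near the generic one with the same property. -/
theorem exists_open_pieces {ι : Type*} [Finite ι] (Z : ι → Set ↑(f.fiber (genericPoint ↑Y))) (hZ : ∀ i, IsClosed (Z i))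
    (hcov : ⋃ i, Z i = Set.univ) (hpt : ∀ i, ∃ z, ∀ j, z ∈ Z j → j = i) :
    ∃ V : Y.Opens, (V : Set ↑Y).Nonempty ∧ ∀ y ∈ V, ∃ A : ι → Set ↑(f.fiber y), (∀ i, IsClosed (A i)) ∧
      (∀ i, A i = f.fiberι y ⁻¹' closure (f.fiberι (genericPoint ↑Y) '' Z i)) ∧
      (⋃ i, A i = Set.univ) ∧ ∀ i, ∃ w, ∀ j, w ∈ A j → j = i := by
  obtain ⟨V₀, hV₀, hV₀'⟩ := GenerizeNear.exists_open_covered f Z hcov
  let η := genericPoint ↑Y
  have hO : ∀ i, ∃ V : Y.Opens, (V : Set ↑Y).Nonempty ∧ ∀ y ∈ V, ∃ x, (∀ j, x ∈ closure (f.fiberι η '' Z j) → j = i) ∧ f x = y := by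
    intro i
    let O : X.Opens := ⟨(⋃ j : {j // j ≠ i}, closure (f.fiberι η '' Z j))ᶜ,
      (isClosed_iUnion_of_finite fun _ => isClosed_closure).isOpen_compl⟩
    obtain ⟨z, hz⟩ := hpt i
    obtain ⟨V, hV, hV'⟩ := exists_open_subset_image f O ⟨f.fiberι η z, fun hm => by
      obtain ⟨⟨j, hj⟩, hzj⟩ := Set.mem_iUnion.mp hm
      refine hj (hz j ?_)
      have h1 : z ∈ f.fiberι η ⁻¹' closure (f.fiberι η '' Z j) := hzj
      rw [← (f.fiberι η).isEmbedding.isInducing.closure_eq_preimage_closure_image, (hZ j).closure_eq] at h1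
      exact h1, (f.range_fiberι η).le ⟨z, rfl⟩⟩
    refine ⟨V, hV, fun y hy => ?_⟩
    obtain ⟨x, hx, hxy⟩ := hV' y hy
    exact ⟨x, fun j hj => by_contra fun hne => hx (Set.mem_iUnion.mpr ⟨⟨j, hne⟩, hj⟩), hxy⟩
  choose V hV hV' using hO
  obtain ⟨V₁, hV₁, hle⟩ := exists_open_iInter (fun o : Option ι => o.elim V₀ V) (fun o => by cases o <;> simp [hV₀, hV])
  refine ⟨V₁, hV₁, fun y hy => ⟨fun i => f.fiberι y ⁻¹' closure (f.fiberι η '' Z i),
    fun i => isClosed_closure.preimage (f.fiberι y).continuous, fun i => rfl, hV₀' y (hle none hy), fun i => ?_⟩⟩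
  obtain ⟨x, hx, hxy⟩ := hV' i y (hle (some i) hy)
  obtain ⟨w, rfl⟩ : x ∈ Set.range (f.fiberι y) := by rw [f.range_fiberι]; exact hxy
  exact ⟨w, fun j hj => hx j hj⟩

/-- Near the generic point the fibres have at least as many irreducible components. -/
theorem exists_open_le_irreducibleComponents (n : ℕ)
    (h : (irreducibleComponents ↑(f.fiber (genericPoint ↑Y))).encard = n) :
    ∃ V : Y.Opens, (V : Set ↑Y).Nonempty ∧ ∀ y ∈ V, (n : ℕ∞) ≤ (irreducibleComponents ↑(f.fiber y)).encard := by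
  let I := ↥(irreducibleComponents ↑(f.fiber (genericPoint ↑Y)))
  have hfin : (irreducibleComponents ↑(f.fiber (genericPoint ↑Y))).Finite := Set.finite_of_encard_eq_coe h
  haveI : Finite I := hfin.to_subtype
  obtain ⟨V, hV, hV'⟩ := exists_open_pieces f (fun C : I => C.1)
    (fun C => isClosed_of_mem_irreducibleComponents _ C.2)
    (Set.eq_univ_of_forall fun z => Set.mem_iUnion.mpr
      ⟨⟨_, irreducibleComponent_mem_irreducibleComponents z⟩, mem_irreducibleComponent⟩)
    (fun C => by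
      obtain ⟨z, hz⟩ := QuasiSober.sober C.2.1 (isClosed_of_mem_irreducibleComponents _ C.2)
      refine ⟨z, fun D hD => Subtype.ext (le_antisymm ?_ ?_)⟩
      · exact C.2.2 D.2.1 (hz.mem_closed_set_iff (isClosed_of_mem_irreducibleComponents _ D.2) |>.mp hD) 
      · exact hz.mem_closed_set_iff (isClosed_of_mem_irreducibleComponents _ D.2) |>.mp hD)
  refine ⟨V, hV, fun y hy => ?_⟩
  obtain ⟨A, hA, -, hcov, hw⟩ := hV' y hy
  choose w hw using hw
  let g : I → ↥(irreducibleComponents ↑(f.fiber y)) := fun C =>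
    ⟨irreducibleComponent (w C), irreducibleComponent_mem_irreducibleComponents _⟩
  have key : ∀ C, irreducibleComponent (w C) ⊆ A C := by
    intro C
    obtain ⟨D, hD⟩ : ∃ D, irreducibleComponent (w C) ⊆ A D := by
      haveI := Fintype.ofFinite I
      classical
      obtain ⟨s, hs, hsub⟩ := isIrreducible_iff_sUnion_isClosed.mp (isIrreducible_irreducibleComponent (x := w C))
        (Finset.univ.image A) (fun s hs => by
          obtain ⟨D, -, rfl⟩ := Finset.mem_image.mp hs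
          exact hA D)
        (fun z _ => by
          obtain ⟨D, hD⟩ := Set.mem_iUnion.mp (hcov.ge (Set.mem_univ z))
          exact Set.mem_sUnion.mpr ⟨A D, by simp, hD⟩)
      obtain ⟨D, -, rfl⟩ := Finset.mem_image.mp hs
      exact ⟨D, hsub⟩
    rwa [hw C D (hD mem_irreducibleComponent)] at hD
  have hg : Function.Injective g := fun C D he => by
    have e : irreducibleComponent (w C) = irreducibleComponent (w D) := Subtype.ext_iff.mp he
    exact (hw C D (key D (e ▸ mem_irreducibleComponent))).symm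
  rw [← h]
  exact Function.Embedding.encard_le ⟨g, hg⟩

/-- A closed subset missing the generic fibre misses the fibres near it. -/
theorem exists_open_disjoint {T : Set ↑X} (hT : IsClosed T) (h : ∀ x ∈ T, f x ≠ genericPoint ↑Y) :
    ∃ V : Y.Opens, (V : Set ↑Y).Nonempty ∧ ∀ x ∈ T, f x ∉ V := by
  obtain ⟨T', i, hi, -, hr⟩ := H23.RedSub.exists_reduced_subscheme X hT.isLocallyClosed
  haveI := hi
  haveI : IsClosedImmersion i := IsClosedImmersion.of_isPreimmersion i (by rw [hr]; exact hT)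
  obtain ⟨V, hV, hV'⟩ := GenerizeNear.exists_open (i ≫ f)
  refine ⟨V, hV, fun x hx hfx => ?_⟩
  obtain ⟨x', rfl⟩ := hr.ge hx
  obtain ⟨z, -, hz⟩ := hV' x' hfx
  exact h (i z) (hr.le ⟨z, rfl⟩) hz

/-- Near the generic point the fibres have at least as many connected components. -/
theorem exists_open_le_connectedComponents (n : ℕ)
    (h : ENat.card (_root_.ConnectedComponents ↑(f.fiber (genericPoint ↑Y))) = n) :
    ∃ V : Y.Opens, (V : Set ↑Y).Nonempty ∧ ∀ y ∈ V, (n : ℕ∞) ≤ ENat.card (_root_.ConnectedComponents ↑(f.fiber y)) := by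
  let η := genericPoint ↑Y
  let I := _root_.ConnectedComponents ↑(f.fiber η)
  haveI : Finite I := ENat.card_lt_top.mp (by rw [h]; exact ENat.coe_lt_top n)
  let Z : I → Set ↑(f.fiber η) := fun c => ConnectedComponents.mk ⁻¹' {c}
  have hZ : ∀ c, IsClosed (Z c) := fun c => by
    obtain ⟨z, rfl⟩ := ConnectedComponents.surjective_coe c
    show IsClosed (ConnectedComponents.mk ⁻¹' {ConnectedComponents.mk z})
    rw [connectedComponents_preimage_singleton]
    exact isClosed_connectedComponent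
  obtain ⟨V₀, hV₀, hV₀'⟩ := exists_open_pieces f Z hZ
    (Set.eq_univ_of_forall fun z => Set.mem_iUnion.mpr ⟨ConnectedComponents.mk z, rfl⟩)
    (fun c => by
      obtain ⟨z, rfl⟩ := ConnectedComponents.surjective_coe c
      exact ⟨z, fun d hd => (Set.mem_singleton_iff.mp hd).symm⟩)
  have hdis : ∀ p : {p : I × I // p.1 ≠ p.2}, ∃ V : Y.Opens, (V : Set ↑Y).Nonempty ∧
      ∀ x ∈ closure (f.fiberι η '' Z p.1.1) ∩ closure (f.fiberι η '' Z p.1.2), f x ∉ V := fun p => by
    refine exists_open_disjoint f (isClosed_closure.inter isClosed_closure) fun x hx hxη => ?_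
    obtain ⟨z, rfl⟩ : x ∈ Set.range (f.fiberι η) := by rw [f.range_fiberι]; exact hxη
    have e : ∀ c, f.fiberι η z ∈ closure (f.fiberι η '' Z c) → z ∈ Z c := fun c hc => by
      have h1 : z ∈ f.fiberι η ⁻¹' closure (f.fiberι η '' Z c) := hc
      rwa [← (f.fiberι η).isEmbedding.isInducing.closure_eq_preimage_closure_image, (hZ c).closure_eq] at h1
    exact p.2 ((e _ hx.1).symm.trans (e _ hx.2))
  choose V hV hV' using hdis
  obtain ⟨V₁, hV₁, hle⟩ := exists_open_iInter (fun o : Option {p : I × I // p.1 ≠ p.2} => o.elim V₀ V)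
    (fun o => by cases o <;> simp [hV₀, hV])
  refine ⟨V₁, hV₁, fun y hy => ?_⟩
  obtain ⟨A, hA, hAeq, hcov, hw⟩ := hV₀' y (hle none hy)
  choose w hw using hw
  have huniq : ∀ c d z, z ∈ A c → z ∈ A d → c = d := fun c d z hc hd => by
    by_contra hne
    rw [hAeq] at hc hd
    exact hV' ⟨(c, d), hne⟩ _ ⟨hc, hd⟩ (by
      rw [show f (f.fiberι y z) = y from (f.range_fiberι y).le ⟨z, rfl⟩]
      exact hle (some ⟨(c, d), hne⟩) hy)
  have hclopen : ∀ c, IsClopen (A c) := fun c => ⟨hA c, by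
    have : A c = (⋃ d : {d // d ≠ c}, A d)ᶜ := by
      ext z
      constructor
      · intro hz hm
        obtain ⟨⟨d, hd⟩, hzd⟩ := Set.mem_iUnion.mp hm
        exact hd (huniq d c z hzd hz)
      · intro hz
        obtain ⟨d, hd⟩ := Set.mem_iUnion.mp (hcov.ge (Set.mem_univ z))
        by_contra hc
        exact hz (Set.mem_iUnion.mpr ⟨⟨d, fun e => hc (e ▸ hd)⟩, hd⟩)
    rw [this]
    exact (isClosed_iUnion_of_finite fun d => hA _).isOpen_compl⟩
  have hwA : ∀ c, w c ∈ A c := fun c => by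
    obtain ⟨d, hd⟩ := Set.mem_iUnion.mp (hcov.ge (Set.mem_univ (w c)))
    rwa [hw c d hd] at hd
  rw [← h]
  refine ENat.card_le_card_of_injective (f := fun c => ConnectedComponents.mk (w c)) fun c d he => ?_
  refine (hw d c ?_)
  exact (hclopen c).connectedComponent_subset (hwA c) (ConnectedComponents.coe_eq_coe'.mp he.symm)

end Groth.Agent.FlatMisc.ComponentsNear
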