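import Mathlib
import Groth.Agent.FlatMisc.GenFlat
import Groth.Agent.H23.RedSub
import Groth.Agent.ProConsLib.Basic
import Groth.Agent.ProConsLib.Image
import Groth.Agent.S12442

/-!
# Nowhere dense closed sets under morphisms of finite type over reduced bases
-/

universe u
set_option autoImplicit false
open AlgebraicGeometry CategoryTheory CategoryTheory.Limits TopologicalSpace Topology Opposite

namespace Groth.Agent.FlatMisc.NowhereDense

variable {X Y : Scheme.{u}}

theorem isProConstructible_of_isClosed {E : Set X} (h : IsClosed E) : ProCons.IsProConstructible E :=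
  Groth.Agent.ProConsLib.isProConstructible_of_isLocallyClosed h.isLocallyClosed (fun _ hV => hV.isCompact.inter_left h)

theorem exists_maximal_point {O : X.Opens} (hO : (O : Set X).Nonempty) :
    ∃ η ∈ O, ∀ z : X, z ⤳ η → z = η := by
  obtain ⟨x, hx⟩ := hO
  obtain ⟨U, hU, hxU, hUO⟩ := exists_isAffineOpen_mem_and_subset (x := x) (U := O) hx
  obtain ⟨p, hp, hpx⟩ := Ideal.exists_minimalPrimes_le (I := (⊥ : Ideal Γ(X, U))) (J := (hU.primeIdealOf ⟨x, hxU⟩).asIdeal) bot_le
  let P : PrimeSpectrum Γ(X, U) := ⟨p, hp.1.1⟩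
  refine ⟨hU.fromSpec P, hUO (hU.range_fromSpec.le ⟨P, rfl⟩), fun z hz => ?_⟩
  obtain ⟨Q, rfl⟩ := hU.range_fromSpec.ge (hz.mem_open U.isOpen (hU.range_fromSpec.le ⟨P, rfl⟩))
  rw [hU.fromSpec.isOpenEmbedding.isInducing.specializes_iff] at hz
  have hQP : Q.asIdeal ≤ p := (PrimeSpectrum.le_iff_specializes Q P).mpr hz
  exact congrArg hU.fromSpec (PrimeSpectrum.ext (le_antisymm hQP (hp.2 ⟨Q.2, bot_le⟩ hQP)))

/-- Points of a quasi-finite fibre over a maximal point are maximal. -/
theorem eq_of_specializes (f : Y ⟶ X) [LocallyQuasiFinite f] {t : Y} (ht : ∀ z, z ⤳ f t → z = f t) {t' : Y}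
    (h : t' ⤳ t) : t' = t :=
  (f.isDiscrete_preimage_singleton (f t)).eq_of_specializes h (ht _ (h.map f.continuous)) rfl

/-- If a closed immersion is locally of finite presentation, its range contains a nhbd of each maximal point in it. -/
theorem mem_interior_of_maximal {Z : Scheme.{u}} (i : Z ⟶ Y) [IsClosedImmersion i] [LocallyOfFinitePresentation i]
    {t : Y} (ht : t ∈ Set.range i) (hmax : ∀ z, z ⤳ t → z = t) : t ∈ interior (Set.range i) := by
  have hc : IsLocallyConstructible (Set.range i) := by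
    rw [← Set.image_univ]
    exact i.isLocallyConstructible_image IsConstructible.univ.isLocallyConstructible
  by_contra hn
  rw [interior_eq_compl_closure_compl, Set.mem_compl_iff, not_not] at hn
  obtain ⟨U, hU, htU, -⟩ := exists_isAffineOpen_mem_and_subset (x := t) (U := (⊤ : Y.Opens)) (by simp)
  obtain ⟨_, _, _, _⟩ := Groth.Agent.ProConsLib.spectral_opens hU
  have hcl : Groth.Agent.ProConsLib.ConsClosed (Subtype.val ⁻¹' (Set.range i)ᶜ : Set (U : Set Y)) :=
    Groth.Agent.ProConsLib.consClosed_of_isConstructible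
      (hc.preimage_of_isOpenEmbedding U.isOpen.isOpenEmbedding_subtypeVal).isConstructible.compl
  have ht' : (⟨t, htU⟩ : (U : Set Y)) ∈ closure (Subtype.val ⁻¹' (Set.range i)ᶜ : Set (U : Set Y)) := by
    rw [U.isOpen.isOpenEmbedding_subtypeVal.isInducing.closure_eq_preimage_closure_image,
      Subtype.image_preimage_coe, Set.mem_preimage]
    exact U.isOpen.inter_closure ⟨htU, hn⟩
  obtain ⟨z, hz, hzt⟩ := hcl.exists_specializes_of_mem_closure ht'
  exact hz (show z.1 ∈ Set.range i by rw [hmax _ (hzt.map continuous_subtype_val)]; exact ht)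

theorem isNowhereDense_image_of_reduced [IsReduced X] (f : Y ⟶ X) [LocallyQuasiFinite f] [LocallyOfFiniteType f]
    [QuasiCompact f] {T : Set Y} (hT : IsClosed T) (hT' : IsNowhereDense T) : IsNowhereDense (f '' T) := by
  show interior (closure (f '' T)) = ∅
  by_contra hne
  obtain ⟨Z, i, hi, hred, hr⟩ := Groth.Agent.H23.RedSub.exists_reduced_subscheme Y hT.isLocallyClosed
  haveI : IsClosedImmersion i := IsClosedImmersion.of_isPreimmersion i (by rw [hr]; exact hT)
  obtain ⟨W₁, hW₁, -, hfp₁⟩ := FlatMisc.exists_dense_flat (f := i ≫ f)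
  let O : X.Opens := ⟨interior (closure (f '' T)), isOpen_interior⟩
  have hne' : ((O ⊓ W₁ : X.Opens) : Set X).Nonempty := by
    rw [Opens.coe_inf]
    exact hW₁.inter_open_nonempty _ O.isOpen (Set.nonempty_iff_ne_empty.mpr hne)
  obtain ⟨η, ⟨hηO, hη₁⟩, hmax⟩ := exists_maximal_point hne'
  obtain ⟨t, htT, hsp⟩ := Groth.Agent.ProConsLib.exists_specializes_of_mem_closure_image_scheme
    (isProConstructible_of_isClosed hT) f (interior_subset hηO)
  have hft : f t = η := hmax _ hsp
  have hmaxt : ∀ z, z ⤳ t → z = t := fun z hz => eq_of_specializes f (by rw [hft]; exact hmax) hz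
  have htW : t ∈ f ⁻¹ᵁ W₁ := by
    show f t ∈ W₁
    rw [hft]; exact hη₁
  haveI : LocallyOfFinitePresentation (i ∣_ (f ⁻¹ᵁ W₁)) := by
    haveI : LocallyOfFinitePresentation ((i ∣_ (f ⁻¹ᵁ W₁)) ≫ (f ∣_ W₁)) := by
      rw [← morphismRestrict_comp]; exact hfp₁
    haveI : LocallyOfFiniteType (f ∣_ W₁) := IsZariskiLocalAtTarget.restrict ‹_› _
    exact Groth.Agent.S12442.result _ (f ∣_ W₁)
  haveI : IsClosedImmersion (i ∣_ (f ⁻¹ᵁ W₁)) := IsZariskiLocalAtTarget.restrict ‹_› _
  have hmem : (⟨t, htW⟩ : (f ⁻¹ᵁ W₁).toScheme) ∈ interior (Set.range (i ∣_ (f ⁻¹ᵁ W₁))) := by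
    refine mem_interior_of_maximal _ ?_ (fun z hz => Subtype.ext (hmaxt _ (hz.map continuous_subtype_val)))
    rw [morphismRestrict_base]
    obtain ⟨z, hz⟩ : t ∈ Set.range i := by rw [hr]; exact htT
    exact ⟨⟨z, show i z ∈ f ⁻¹ᵁ W₁ by rw [hz]; exact htW⟩, Subtype.ext hz⟩
  obtain ⟨N, hN, hNo, htN⟩ := mem_interior.mp hmem
  have : (f ⁻¹ᵁ W₁).ι '' N ⊆ T := by
    rintro _ ⟨y, hy, rfl⟩
    obtain ⟨z, hz⟩ := hN hy
    rw [← hr]
    exact ⟨z.1, (morphismRestrict_base_coe i _ z).symm.trans (congrArg Subtype.val hz)⟩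
  have h1 : t ∈ interior (closure T) :=
    interior_mono subset_closure (mem_interior.mpr ⟨_, this, (f ⁻¹ᵁ W₁).ι.isOpenEmbedding.isOpenMap _ hNo, ⟨_, htN, rfl⟩⟩)
  rw [hT'] at h1
  exact h1

theorem isNowhereDense_image (f : Y ⟶ X) [LocallyQuasiFinite f] [LocallyOfFiniteType f] [QuasiCompact f]
    {T : Set Y} (hT : IsClosed T) (hT' : IsNowhereDense T) : IsNowhereDense (f '' T) := by
  haveI := Groth.Agent.H23.RedSub.isReduced_nilradical X
  let r := X.nilradical.subschemeι
  have hrs : Function.Surjective r := fun x => by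
    have : x ∈ Set.range r := by
      rw [Scheme.IdealSheafData.range_subschemeι, ← Scheme.IdealSheafData.vanishingIdeal_top,
        Scheme.IdealSheafData.coe_support_vanishingIdeal]
      trivial
    exact this
  haveI : Surjective r := ⟨hrs⟩
  let g := pullback.snd f r
  let s := pullback.fst f r
  haveI : LocallyQuasiFinite g := MorphismProperty.pullback_snd _ _ ‹_›
  haveI : Surjective s := MorphismProperty.pullback_fst (P := @Surjective) _ _ ‹_›
  have hhr : IsHomeomorph r := isHomeomorph_iff_isEmbedding_surjective.mpr ⟨r.isEmbedding, hrs⟩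
  have hhs : IsHomeomorph s := isHomeomorph_iff_isEmbedding_surjective.mpr ⟨s.isEmbedding, s.surjective⟩
  have key : IsNowhereDense (g '' (s ⁻¹' T)) := by
    refine isNowhereDense_image_of_reduced g (hT.preimage s.continuous) ?_
    show interior (closure (s ⁻¹' T)) = ∅
    rw [← hhs.isOpenMap.preimage_closure_eq_closure_preimage hhs.continuous,
      ← hhs.isOpenMap.preimage_interior_eq_interior_preimage hhs.continuous, hT', Set.preimage_empty]
  have heq : r ⁻¹' (f '' T) = g '' (s ⁻¹' T) := by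
    ext x
    constructor
    · rintro ⟨y, hy, hyx⟩
      obtain ⟨z, hz₁, hz₂⟩ := Scheme.Pullback.exists_preimage_pullback y x hyx
      exact ⟨z, show s z ∈ T by rw [show s z = y from hz₁]; exact hy, hz₂⟩
    · rintro ⟨z, hz, rfl⟩
      refine ⟨s z, hz, ?_⟩
      show (s ≫ f) z = (g ≫ r) z
      rw [pullback.condition]
  show interior (closure (f '' T)) = ∅
  apply hrs.preimage_injective
  rw [hhr.isOpenMap.preimage_interior_eq_interior_preimage hhr.continuous,
    hhr.isOpenMap.preimage_closure_eq_closure_preimage hhr.continuous, heq, Set.preimage_empty]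
  exact key

end Groth.Agent.FlatMisc.NowhereDense
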