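import Mathlib
import Groth.Agent.GenFreeRed.Main
import Groth.Agent.FlatMisc.GenFlat
import Groth.Agent.FlatMisc.NowhereDense

/-!
# Closed sets nowhere dense in the generic fibre are nowhere dense in nearby fibres
-/

universe u
set_option autoImplicit false
open AlgebraicGeometry CategoryTheory CategoryTheory.Limits TopologicalSpace Topology TensorProduct

namespace Groth.Agent.FlatMisc.DenseFibre

/-- A nonzerodivisor whose cokernel is flat lies in no prime that is minimal in its fibre. -/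
theorem exists_lt_of_nzd {R S T : Type u} [CommRing R] [CommRing S] [CommRing T] [Algebra R S] [Algebra R T]
    [Module.Flat R T] (ψ : S →ₐ[R] T) (hψ : Function.Surjective ψ) (g : S) (hg : ∀ s, s * g = 0 → s = 0)
    (hker : RingHom.ker ψ = Ideal.span {g}) (P : Ideal S) [P.IsPrime] (hgP : g ∈ P) :
    ∃ Q : Ideal S, Q.IsPrime ∧ Q < P ∧ Q.under R = P.under R := by
  let p : PrimeSpectrum R := ⟨P.under R, inferInstance⟩
  let e := PrimeSpectrum.preimageOrderIsoFiber R S p
  let P' : ↑(PrimeSpectrum.comap (algebraMap R S) ⁻¹' {p}) := ⟨⟨P, ‹_›⟩, rfl⟩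
  by_contra hn
  push Not at hn
  have hmin : (e P').asIdeal ∈ minimalPrimes (p.asIdeal.Fiber S) := by
    refine ⟨⟨(e P').2, bot_le⟩, fun Q hQ hle => ?_⟩
    obtain ⟨Q', hQ'⟩ := e.surjective ⟨Q, hQ.1⟩
    have h1 : Q' ≤ P' := e.le_iff_le.mp (by rw [hQ']; exact hle)
    have h2 : Q'.1.asIdeal = P := by
      by_contra hne
      exact hn Q'.1.asIdeal Q'.1.2 (lt_of_le_of_ne h1 hne) (congrArg PrimeSpectrum.asIdeal Q'.2)
    have : Q' = P' := Subtype.ext (PrimeSpectrum.ext h2)
    rw [show Q = (e Q').asIdeal from (congrArg PrimeSpectrum.asIdeal hQ').symm, this]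
  have hmem : ((1 : p.asIdeal.ResidueField) ⊗ₜ[R] g : p.asIdeal.Fiber S) ∈ (e P').asIdeal := by
    have h : g ∈ (e.symm (e P')).1.asIdeal := by rw [e.symm_apply_apply]; exact hgP
    exact h
  have hinj : Function.Injective ((LinearMap.mulRight R g).lTensor p.asIdeal.ResidueField) := by
    refine LinearMap.lTensor_injective_of_exact_of_flat ψ.toLinearMap hψ _ (fun a b hab => ?_) (fun z => ?_) _
    · exact sub_eq_zero.mp (hg _ (by rw [sub_mul]; exact sub_eq_zero.mpr hab))
    · show ψ z = 0 ↔ _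
      rw [← RingHom.mem_ker, hker, Ideal.mem_span_singleton']
      exact Iff.rfl
  have hnzd : ((1 : p.asIdeal.ResidueField) ⊗ₜ[R] g : p.asIdeal.Fiber S) ∈ nonZeroDivisors (p.asIdeal.Fiber S) := by
    refine mem_nonZeroDivisors_iff_right.mpr fun z hz => hinj ?_
    rw [map_zero, ← hz]
    clear hz
    induction z using TensorProduct.induction_on with
    | zero => simp
    | tmul a b => simp
    | add x y hx hy => rw [map_add, hx, hy, add_mul]
  exact Set.disjoint_left.mp (Ideal.disjoint_nonZeroDivisors_of_mem_minimalPrimes hmin) hmem hnzd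

/-- Algebraic form: if `V(J)` contains no point minimal in the generic fibre, then it contains no point
minimal in the fibres over a nonempty basic open. -/
theorem exists_basicOpen {R S : Type u} [CommRing R] [IsDomain R] [CommRing S] [Algebra R S] [Algebra.FiniteType R S]
    [_root_.IsReduced S] (J : Ideal S)
    (h : ∀ P : Ideal S, P.IsPrime → P.under R = ⊥ → (∀ Q : Ideal S, Q.IsPrime → Q ≤ P → Q.under R = ⊥ → Q = P) → ¬ J ≤ P) :
    ∃ a : R, a ≠ 0 ∧ ∀ P : Ideal S, P.IsPrime → a ∉ P.under R → J ≤ P →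
      ∃ Q : Ideal S, Q.IsPrime ∧ Q < P ∧ Q.under R = P.under R := by
  let z : PrimeSpectrum R := ⟨⊥, Ideal.isPrime_bot⟩
  let e := PrimeSpectrum.preimageOrderIsoFiber R S z
  let M : Set (Ideal S) := {P | P.IsPrime ∧ P.under R = ⊥ ∧ ∀ Q : Ideal S, Q.IsPrime → Q ≤ P → Q.under R = ⊥ → Q = P}
  have hM : M.Finite := by
    haveI : IsNoetherianRing (z.asIdeal.Fiber S) := Algebra.FiniteType.isNoetherianRing z.asIdeal.ResidueField _
    refine Set.Finite.subset ((minimalPrimes.finite_of_isNoetherianRing (z.asIdeal.Fiber S)).image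
      (fun q => q.comap (Algebra.TensorProduct.includeRight : S →ₐ[R] z.asIdeal.Fiber S).toRingHom)) ?_
    rintro P ⟨hP, hPu, hPm⟩
    let P' : ↑(PrimeSpectrum.comap (algebraMap R S) ⁻¹' {z}) := ⟨⟨P, hP⟩, PrimeSpectrum.ext hPu⟩
    refine ⟨(e P').asIdeal, ⟨⟨(e P').2, bot_le⟩, fun Q hQ hle => ?_⟩,
      congrArg (fun q => q.1.asIdeal) (e.symm_apply_apply P')⟩
    obtain ⟨Q', hQ'⟩ := e.surjective ⟨Q, hQ.1⟩
    have h1 : Q' ≤ P' := e.le_iff_le.mp (by rw [hQ']; exact hle)
    have : Q' = P' := Subtype.ext (PrimeSpectrum.ext (hPm _ Q'.1.2 h1 (congrArg PrimeSpectrum.asIdeal Q'.2)))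
    rw [show Q = (e Q').asIdeal from (congrArg PrimeSpectrum.asIdeal hQ').symm, this]
  obtain ⟨g, hgJ, hgM⟩ : ∃ g ∈ J, ∀ P ∈ M, g ∉ P := by
    by_contra hn
    push Not at hn
    obtain ⟨P, hP, hle⟩ := (J.subset_union_prime_finite hM (f := id) ⊥ ⊥ fun P hP _ _ => hP.1).1 (fun g hg => by
      obtain ⟨P, hP, hgP⟩ := hn g hg
      exact Set.mem_biUnion hP hgP)
    exact h P hP.1 hP.2.1 hP.2.2 hle
  obtain ⟨c, hc, hM', hS, -, -⟩ := Groth.Agent.GenFreeRed.exists_isGood R S (S ⧸ Ideal.span {g}) 1 one_ne_zero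
  rw [one_mul] at hc hM' hS
  refine ⟨c, hc, fun P hP hcP hJP => ?_⟩
  haveI := hM'; haveI := hS
  let φS := Localization.awayMap (algebraMap R S) c
  let φT := Localization.awayMap (algebraMap R (S ⧸ Ideal.span {g})) c
  have hφS : φS.Flat := _root_.FlatMisc.awayMap_flat_of_free c
  have hφT : φT.Flat := _root_.FlatMisc.awayMap_flat_of_free (S := S ⧸ Ideal.span {g}) c
  letI := φS.toAlgebra
  letI := φT.toAlgebra
  haveI : Module.Flat (Localization.Away c) (Localization.Away (algebraMap R S c)) := hφS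
  haveI : Module.Flat (Localization.Away c) (Localization.Away (algebraMap R (S ⧸ Ideal.span {g}) c)) := hφT
  set Sa := Localization.Away (algebraMap R S c)
  set Ra := Localization.Away c
  haveI : IsDomain Ra := IsLocalization.isDomain_localization (powers_le_nonZeroDivisors_of_noZeroDivisors hc)
  haveI : _root_.IsReduced Sa := isReduced_localizationPreserves (Submonoid.powers (algebraMap R S c)) Sa inferInstance
  have hcomp : ∀ r : R, algebraMap Ra Sa (algebraMap R Ra r) = algebraMap S Sa (algebraMap R S r) :=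
    fun r => by
      show φS (algebraMap R Ra r) = _
      exact IsLocalization.map_eq (S := Ra) _ r
  have hnzd : ∀ s : Sa, s * algebraMap S Sa g = 0 → s = 0 := by
    intro s hs
    have : s ∈ nilradical Sa := by
      rw [nilradical_eq_sInf, Ideal.mem_sInf]
      intro Q hQ
      haveI : Q.IsPrime := hQ
      obtain ⟨Q₀, hQ₀, hQ₀le⟩ := Ideal.exists_minimalPrimes_le (I := (⊥ : Ideal Sa)) (J := Q) bot_le
      haveI := hQ₀.1.1
      refine hQ₀le ((hQ₀.1.1.mem_or_mem (show s * algebraMap S Sa g ∈ Q₀ by rw [hs]; exact zero_mem _)).resolve_right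
        fun hg => hgM (Q₀.comap (algebraMap S Sa)) ⟨inferInstance, ?_, fun Q' hQ' hle hQ'u => ?_⟩ hg)
      · refine eq_bot_iff.mpr fun r hr => ?_
        by_contra hr0
        refine Set.disjoint_left.mp (Ideal.disjoint_nonZeroDivisors_of_mem_minimalPrimes hQ₀)
          (show algebraMap S Sa (algebraMap R S r) ∈ Q₀ from hr) ?_
        rw [← hcomp]
        have hne : algebraMap R Ra r ≠ 0 := fun h => hr0 (by
          rw [← map_zero (algebraMap R Ra)] at h
          exact IsLocalization.injective Ra (powers_le_nonZeroDivisors_of_noZeroDivisors hc) h)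
        refine mem_nonZeroDivisors_iff_right.mpr fun x hx => ?_
        haveI : Module.IsTorsionFree Ra Sa := inferInstance
        have : algebraMap R Ra r • x = 0 := by rw [Algebra.smul_def, mul_comm]; exact hx
        exact (smul_eq_zero.mp this).resolve_left hne
      · haveI := hQ'
        have hd : Disjoint (Submonoid.powers (algebraMap R S c) : Set S) (Q' : Set S) := by
          rw [Set.disjoint_left]
          rintro _ ⟨n, rfl⟩ hn
          have h1 : c ∈ Q'.under R := hQ'.mem_of_pow_mem n hn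
          rw [hQ'u] at h1
          exact hc h1
        haveI := IsLocalization.isPrime_of_isPrime_disjoint (Submonoid.powers (algebraMap R S c)) Sa Q' hQ' hd
        have hle' : Q'.map (algebraMap S Sa) ≤ Q₀ := Ideal.map_le_iff_le_comap.mpr hle
        have heq : Q₀ ≤ Q'.map (algebraMap S Sa) := hQ₀.2 ⟨‹_›, bot_le⟩ hle'
        rw [← IsLocalization.under_map_of_isPrime_disjoint (Submonoid.powers (algebraMap R S c)) Sa hQ' hd]
        exact le_antisymm (Ideal.comap_mono hle') (Ideal.comap_mono heq)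
    simpa [nilradical_eq_zero] using this
  let ψ : Sa →ₐ[Ra] Localization.Away (algebraMap R (S ⧸ Ideal.span {g}) c) :=
    { IsLocalization.map (M := Submonoid.powers (algebraMap R S c))
        (T := Submonoid.powers (algebraMap R (S ⧸ Ideal.span {g}) c))
        (Localization.Away (algebraMap R (S ⧸ Ideal.span {g}) c)) (Ideal.Quotient.mk (Ideal.span {g}))
        (by rintro _ ⟨n, rfl⟩; refine ⟨n, ?_⟩; simp only [map_pow]; rfl) with
      commutes' := fun r => by
        have : (IsLocalization.map (Localization.Away (algebraMap R (S ⧸ Ideal.span {g}) c))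
            (Ideal.Quotient.mk (Ideal.span {g}))
            (show Submonoid.powers (algebraMap R S c) ≤ Submonoid.comap (Ideal.Quotient.mk (Ideal.span {g}))
              (Submonoid.powers (algebraMap R (S ⧸ Ideal.span {g}) c)) by rintro _ ⟨n, rfl⟩; refine ⟨n, ?_⟩; simp only [map_pow]; rfl)).comp φS = φT := by
          refine IsLocalization.ringHom_ext (Submonoid.powers c) ?_
          ext x
          simp only [RingHom.comp_apply, φS, φT, Localization.awayMap, IsLocalization.Away.map, IsLocalization.map_eq]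
          rfl
        exact RingHom.congr_fun this r }
  have hTmap : Submonoid.map (Ideal.Quotient.mk (Ideal.span {g})) (Submonoid.powers (algebraMap R S c)) =
      Submonoid.powers (algebraMap R (S ⧸ Ideal.span {g}) c) := by
    rw [Submonoid.map_powers]; rfl
  have hψs : Function.Surjective ψ := by
    intro x
    obtain ⟨⟨b, ⟨_, n, rfl⟩⟩, rfl⟩ := IsLocalization.mk'_surjective (Submonoid.powers (algebraMap R (S ⧸ Ideal.span {g}) c)) x
    obtain ⟨b', rfl⟩ := Ideal.Quotient.mk_surjective b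
    refine ⟨IsLocalization.mk' (M := Submonoid.powers (algebraMap R S c)) Sa b' ⟨_, n, rfl⟩, ?_⟩
    refine (IsLocalization.map_mk' (S := Sa) (T := Submonoid.powers (algebraMap R (S ⧸ Ideal.span {g}) c)) (by rintro _ ⟨m, rfl⟩; refine ⟨m, ?_⟩; simp only [map_pow]; rfl) b' _).trans ?_
    congr 1
  have hker : RingHom.ker ψ = Ideal.span {algebraMap S Sa g} := by
    have h := IsLocalization.ker_map (M := Submonoid.powers (algebraMap R S c)) (S := Sa)
      (Localization.Away (algebraMap R (S ⧸ Ideal.span {g}) c)) (g := Ideal.Quotient.mk (Ideal.span {g})) hTmap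
    rw [Ideal.mk_ker, Ideal.map_span, Set.image_singleton] at h
    exact h
  have hd : Disjoint (Submonoid.powers (algebraMap R S c) : Set S) (P : Set S) := by
    rw [Set.disjoint_left]
    rintro _ ⟨n, rfl⟩ hn
    exact hcP (hP.mem_of_pow_mem n hn)
  haveI := IsLocalization.isPrime_of_isPrime_disjoint (Submonoid.powers (algebraMap R S c)) Sa P hP hd
  obtain ⟨Q, hQ, hQP, hQu⟩ := exists_lt_of_nzd ψ hψs (algebraMap S Sa g) hnzd hker (P.map (algebraMap S Sa))
    (Ideal.mem_map_of_mem _ (hJP hgJ))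
  have hPc : (P.map (algebraMap S Sa)).comap (algebraMap S Sa) = P :=
    IsLocalization.under_map_of_isPrime_disjoint _ Sa hP hd
  refine ⟨Q.comap (algebraMap S Sa), inferInstance, ?_, ?_⟩
  · refine lt_of_le_of_ne ((Ideal.comap_mono hQP.le).trans hPc.le) fun he => hQP.ne ?_
    have hQm : (Q.comap (algebraMap S Sa)).map (algebraMap S Sa) = Q := IsLocalization.map_comap (Submonoid.powers (algebraMap R S c)) Sa Q
    rw [← hQm, he]
  · ext r
    show algebraMap S Sa (algebraMap R S r) ∈ Q ↔ algebraMap R S r ∈ P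
    rw [← hcomp]
    refine (SetLike.ext_iff.mp hQu (algebraMap R Ra r)).trans ?_
    show algebraMap Ra Sa (algebraMap R Ra r) ∈ P.map (algebraMap S Sa) ↔ _
    rw [hcomp]
    exact SetLike.ext_iff.mp hPc (algebraMap R S r)

theorem not_mem_of_maximal {F : Scheme.{u}} [IsLocallyNoetherian F] {T : Set F} (hT : IsClosed T) (hT' : IsNowhereDense T)
    {t : F} (hmax : ∀ z, z ⤳ t → z = t) : t ∉ T := by
  intro ht
  obtain ⟨Z, i, hi, hred, hr⟩ := Groth.Agent.H23.RedSub.exists_reduced_subscheme F hT.isLocallyClosed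
  haveI : IsClosedImmersion i := IsClosedImmersion.of_isPreimmersion i (by rw [hr]; exact hT)
  have h := NowhereDense.mem_interior_of_maximal i (by rw [hr]; exact ht) hmax
  rw [hr] at h
  have h' : t ∈ interior (closure T) := interior_mono subset_closure h
  rw [hT'] at h'
  exact h'

theorem isNowhereDense_of_no_maximal {F : Scheme.{u}} {T : Set F} (hT : IsClosed T)
    (h : ∀ t ∈ T, ∃ z, z ⤳ t ∧ z ≠ t) : IsNowhereDense T := by
  show interior (closure T) = ∅
  rw [hT.closure_eq]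
  by_contra hne
  obtain ⟨t, ht, hmax⟩ := NowhereDense.exists_maximal_point (O := ⟨interior T, isOpen_interior⟩)
    (Set.nonempty_iff_ne_empty.mpr hne)
  obtain ⟨z, hz, hzt⟩ := h t (interior_subset ht)
  exact hzt (hmax z hz)

theorem exists_open {X Y : Scheme.{u}} (f : X ⟶ Y) [IrreducibleSpace ↑Y] [LocallyOfFiniteType f] [QuasiCompact f]
    (Z : Set ↑X) (hZ : IsClosed Z) (h : IsNowhereDense ((f.fiberι (genericPoint ↑Y)) ⁻¹' Z)) :
    ∃ V : Y.Opens, (V : Set ↑Y).Nonempty ∧ ∀ y ∈ V, IsNowhereDense ((f.fiberι y) ⁻¹' Z) := by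
  set η := genericPoint ↑Y
  obtain ⟨U, hU, hηU, -⟩ := exists_isAffineOpen_mem_and_subset (x := η) (U := (⊤ : Y.Opens)) (by simp)
  haveI : LocallyOfFiniteType (pullback.snd f (Y.fromSpecResidueField η)) := MorphismProperty.pullback_snd _ _ ‹_›
  haveI : IsLocallyNoetherian (f.fiber η) := @LocallyOfFiniteType.isLocallyNoetherian _ _ (pullback.snd f (Y.fromSpecResidueField η)) ‹_› _
  obtain ⟨t, ht, htf, htc⟩ := X.isBasis_affineOpens.exists_finite_of_isCompact
    (f.isCompact_preimage hU.isCompact : IsCompact ((f ⁻¹ᵁ U : X.Opens) : Set X))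
  let p₀ := (hU.primeIdealOf ⟨η, hηU⟩).asIdeal
  have hp₀ : ∀ q : PrimeSpectrum Γ(Y, U), p₀ ≤ q.asIdeal := fun q => by
    have h1 : η ⤳ hU.fromSpec q := (genericPoint_spec ↑Y).specializes (Set.mem_univ _)
    rw [show η = hU.fromSpec (hU.primeIdealOf ⟨η, hηU⟩) from (hU.fromSpec_primeIdealOf ⟨η, hηU⟩).symm,
      hU.fromSpec.isOpenEmbedding.isInducing.specializes_iff] at h1
    exact (PrimeSpectrum.le_iff_specializes (hU.primeIdealOf ⟨η, hηU⟩) q).mpr h1
  haveI : p₀.IsPrime := (hU.primeIdealOf ⟨η, hηU⟩).2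
  have key : ∀ V ∈ t, ∃ a : Γ(Y, U), η ∈ Y.basicOpen a ∧ ∀ x ∈ V, f x ∈ Y.basicOpen a → x ∈ Z →
      ∃ z, z ⤳ x ∧ z ≠ x ∧ f z = f x := by
    intro V hV
    have hVa : IsAffineOpen V := ht hV
    have e : V ≤ f ⁻¹ᵁ U := by rw [htc]; exact le_sSup hV
    let φ := (f.appLE U V e).hom
    let R := Γ(Y, U) ⧸ p₀
    let S := Γ(X, V) ⧸ nilradical Γ(X, V)
    have hle : p₀ ≤ RingHom.ker ((Ideal.Quotient.mk (nilradical Γ(X, V))).comp φ) := fun r hr => by
      rw [RingHom.mem_ker, RingHom.comp_apply, Ideal.Quotient.eq_zero_iff_mem, nilradical_eq_sInf, Ideal.mem_sInf]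
      intro Q hQ
      haveI : Q.IsPrime := hQ
      exact hp₀ ⟨Q.comap φ, inferInstance⟩ hr
    letI : Algebra R S := (Ideal.Quotient.lift p₀ _ hle).toAlgebra
    haveI : Algebra.FiniteType R S := by
      have h1 : ((Ideal.Quotient.mk (nilradical Γ(X, V))).comp φ).FiniteType :=
        (RingHom.FiniteType.of_surjective _ Ideal.Quotient.mk_surjective).comp (f.finiteType_appLE hU hVa e)
      exact RingHom.FiniteType.of_comp_finiteType (f := Ideal.Quotient.mk p₀) (g := algebraMap R S) h1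
    haveI : _root_.IsReduced S := Ideal.isRadical_iff_quotient_reduced _ |>.mp (Ideal.radical_isRadical _)
    let pt : Ideal S → X → Prop := fun P x => ∃ hx : x ∈ V,
      P.comap (Ideal.Quotient.mk (nilradical Γ(X, V))) = (hVa.primeIdealOf ⟨x, hx⟩).asIdeal
    have hpt : ∀ P : Ideal S, P.IsPrime → ∃ x, pt P x := fun P hP => by
      let Q : PrimeSpectrum Γ(X, V) := ⟨P.comap (Ideal.Quotient.mk _), inferInstance⟩
      have hQ : hVa.fromSpec Q ∈ V := hVa.range_fromSpec.le ⟨Q, rfl⟩
      refine ⟨hVa.fromSpec Q, hQ, ?_⟩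
      have : hVa.primeIdealOf ⟨_, hQ⟩ = Q := hVa.fromSpec.isOpenEmbedding.injective (hVa.fromSpec_primeIdealOf _)
      rw [this]
    have hpre : ∀ x ∈ V, ∃ P : Ideal S, P.IsPrime ∧ pt P x := fun x hx => by
      refine ⟨(hVa.primeIdealOf ⟨x, hx⟩).asIdeal.map (Ideal.Quotient.mk _), ?_, hx, ?_⟩
      · exact Ideal.map_isPrime_of_surjective Ideal.Quotient.mk_surjective (by
          rw [Ideal.mk_ker]; exact nilradical_le_prime _)
      · rw [Ideal.comap_map_of_surjective _ Ideal.Quotient.mk_surjective, ← RingHom.ker_eq_comap_bot, Ideal.mk_ker,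
          sup_eq_left]
        exact nilradical_le_prime _
    have hf : ∀ P : Ideal S, ∀ x (hx : pt P x),
        (P.under R).comap (Ideal.Quotient.mk p₀) = (hU.primeIdealOf ⟨f x, e hx.1⟩).asIdeal := by
      rintro P x ⟨hx, hPx⟩
      rw [← congrArg PrimeSpectrum.asIdeal (IsAffineOpen.comap_primeIdealOf_appLE (f := f) U hU V hVa e hx),
        PrimeSpectrum.comap_asIdeal, ← hPx, Ideal.under_def, Ideal.comap_comap, Ideal.comap_comap]
      rfl
    have hord : ∀ (P P' : Ideal S) (x x' : X), pt P x → pt P' x' → (P ≤ P' ↔ x ⤳ x') := by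
      rintro P P' x x' ⟨hx, hP⟩ ⟨hx', hP'⟩
      rw [← Ideal.comap_le_comap_iff_of_surjective (Ideal.Quotient.mk (nilradical Γ(X, V))) Ideal.Quotient.mk_surjective,
        hP, hP', show x ⤳ x' ↔ hVa.fromSpec (hVa.primeIdealOf ⟨x, hx⟩) ⤳ hVa.fromSpec (hVa.primeIdealOf ⟨x', hx'⟩) by
          rw [hVa.fromSpec_primeIdealOf, hVa.fromSpec_primeIdealOf],
        hVa.fromSpec.isOpenEmbedding.isInducing.specializes_iff]
      exact PrimeSpectrum.le_iff_specializes (hVa.primeIdealOf ⟨x, hx⟩) (hVa.primeIdealOf ⟨x', hx'⟩)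
    let J : Ideal S := (PrimeSpectrum.vanishingIdeal (hVa.fromSpec ⁻¹' Z)).map (Ideal.Quotient.mk _)
    have hJ : ∀ (P : Ideal S) (x : X), pt P x → (J ≤ P ↔ x ∈ Z) := by
      rintro P x ⟨hx, hP⟩
      rw [Ideal.map_le_iff_le_comap, hP]
      have := Set.ext_iff.mp ((PrimeSpectrum.zeroLocus_vanishingIdeal_eq_closure (hVa.fromSpec ⁻¹' Z)).trans
        (hZ.preimage hVa.fromSpec.continuous).closure_eq) (hVa.primeIdealOf ⟨x, hx⟩)
      rw [PrimeSpectrum.mem_zeroLocus, SetLike.coe_subset_coe] at this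
      refine this.trans ?_
      show hVa.fromSpec (hVa.primeIdealOf ⟨x, hx⟩) ∈ Z ↔ x ∈ Z
      rw [hVa.fromSpec_primeIdealOf]
    have hη : ∀ (P : Ideal S) (x : X) (hx : pt P x), P.under R = ⊥ ↔ f x = η := by
      intro P x hx
      have hh := hf P x hx
      constructor
      · intro hb
        rw [hb, ← RingHom.ker_eq_comap_bot, Ideal.mk_ker] at hh
        have : hU.primeIdealOf ⟨η, hηU⟩ = hU.primeIdealOf ⟨f x, e hx.1⟩ := PrimeSpectrum.ext hh
        have h2 := congrArg hU.fromSpec this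
        rw [hU.fromSpec_primeIdealOf, hU.fromSpec_primeIdealOf] at h2
        exact h2.symm
      · intro he
        refine Ideal.comap_injective_of_surjective _ Ideal.Quotient.mk_surjective ?_
        rw [hh, ← RingHom.ker_eq_comap_bot, Ideal.mk_ker]
        simp only [he]; rfl
    obtain ⟨a, ha, hgood⟩ := exists_basicOpen (R := R) (S := S) J fun P hP hPb hPm hJP => by
      obtain ⟨x, hx⟩ := hpt P hP
      have hxη := (hη P x hx).mp hPb
      obtain ⟨w, hw⟩ : x ∈ Set.range (f.fiberι η) := by rw [f.range_fiberι]; exact hxη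
      refine not_mem_of_maximal (hZ.preimage (f.fiberι η).continuous) h (t := w) (fun z hz => ?_)
        (show f.fiberι η w ∈ Z by rw [hw]; exact (hJ P x hx).mp hJP)
      have hz' : f.fiberι η z ⤳ x := hw ▸ hz.map (f.fiberι η).continuous
      obtain ⟨Q, hQ, hQx⟩ := hpre _ (hz'.mem_open V.isOpen hx.1)
      have hQη : f (f.fiberι η z) = η := (f.range_fiberι η).le ⟨z, rfl⟩
      have hQP := hPm Q hQ ((hord Q P _ _ hQx hx).mpr hz') ((hη Q _ hQx).mpr hQη)
      subst hQP
      refine (f.fiberι η).isEmbedding.injective ?_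
      rw [hw]
      exact ((hord Q Q _ _ hx hQx).mp le_rfl).antisymm hz' |>.symm.eq
    obtain ⟨a, rfl⟩ := Ideal.Quotient.mk_surjective a
    have hmemU : ∀ (y : Y) (hy : y ∈ U), y ∈ Y.basicOpen a ↔ a ∉ (hU.primeIdealOf ⟨y, hy⟩).asIdeal := fun y hy => by
      rw [show y ∈ Y.basicOpen a ↔ hU.fromSpec (hU.primeIdealOf ⟨y, hy⟩) ∈ Y.basicOpen a by rw [hU.fromSpec_primeIdealOf]]
      show hU.primeIdealOf ⟨y, hy⟩ ∈ hU.fromSpec ⁻¹ᵁ Y.basicOpen a ↔ _
      rw [hU.fromSpec_preimage_basicOpen]; rfl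
    refine ⟨a, (hmemU η hηU).mpr (fun hm => ha (Ideal.Quotient.eq_zero_iff_mem.mpr hm)), fun x hx hfx hxZ => ?_⟩
    obtain ⟨P, hP, hPx⟩ := hpre x hx
    have hna : Ideal.Quotient.mk p₀ a ∉ P.under R := fun hm => (hmemU _ (e hx)).mp hfx (by
      rw [← hf P x hPx]; exact hm)
    obtain ⟨Q, hQ, hQP, hQu⟩ := hgood P hP hna ((hJ P x hPx).mpr hxZ)
    obtain ⟨z, hz⟩ := hpt Q hQ
    refine ⟨z, (hord Q P z x hz hPx).mp hQP.le, fun hzx => ?_, ?_⟩
    · subst hzx
      exact hQP.not_ge ((hord P Q _ _ hPx hz).mpr (specializes_rfl))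
    · have h1 : hU.primeIdealOf ⟨f z, e hz.1⟩ = hU.primeIdealOf ⟨f x, e hx⟩ :=
        PrimeSpectrum.ext (by rw [← hf Q z hz, ← hf P x hPx, hQu])
      have h2 := congrArg hU.fromSpec h1
      rwa [hU.fromSpec_primeIdealOf, hU.fromSpec_primeIdealOf] at h2
  choose a haη ha using key
  classical
  haveI := htf.fintype
  let W : Set Y := (U : Set Y) ∩ ⋂ V : t, (Y.basicOpen (a V.1 V.2) : Set Y)
  have hW : IsOpen W := U.isOpen.inter (isOpen_iInter_of_finite fun V => (Y.basicOpen _).isOpen)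
  refine ⟨⟨W, hW⟩, ⟨η, hηU, Set.mem_iInter.mpr fun V => haη _ _⟩, fun y hy => ?_⟩
  refine isNowhereDense_of_no_maximal (hZ.preimage (f.fiberι y).continuous) fun w hw => ?_
  have hfy : f (f.fiberι y w) = y := (f.range_fiberι y).le ⟨w, rfl⟩
  have hxU : f.fiberι y w ∈ f ⁻¹ᵁ U := by show f (f.fiberι y w) ∈ U; rw [hfy]; exact hy.1
  rw [htc] at hxU
  obtain ⟨V, hVt, hxV⟩ := Opens.mem_sSup.mp hxU
  obtain ⟨z, hz, hne, hzy⟩ := ha V hVt _ hxV (by rw [hfy]; exact Set.mem_iInter.mp hy.2 ⟨V, hVt⟩) hw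
  obtain ⟨w', rfl⟩ : z ∈ Set.range (f.fiberι y) := by rw [f.range_fiberι]; exact hzy.trans hfy
  exact ⟨w', (f.fiberι y).isEmbedding.isInducing.specializes_iff.mp hz, fun he => hne (by rw [he])⟩

end Groth.Agent.FlatMisc.DenseFibre
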