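import Mathlib
import Groth.Agent.FlatMisc.NearGeneric
import Groth.Agent.SchDenseLib.Basic
import Groth.Agent.AlgSpDec.SchDenseFacts

/-!
# Schematically dense opens near the generic fibre
-/

universe u
set_option autoImplicit false
open AlgebraicGeometry CategoryTheory CategoryTheory.Limits TopologicalSpace Topology TensorProduct

namespace Groth.Agent.FlatMisc.DenseNear
open Groth.Agent.FlatMisc.GenericReduction Groth.Agent.FlatMisc.SpreadRed Groth.Agent.FlatMisc.NearGeneric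
open Groth.Agent.AlgSpDec.SchDenseFacts

/-- Schematic density can be checked on a flat covering family. -/
theorem of_cover {Y : Scheme.{u}} {κ : Type*} (X : κ → Scheme.{u}) (j : ∀ k, X k ⟶ Y) [∀ k, Flat (j k)]
    (hcov : ∀ y : Y, ∃ k, y ∈ Set.range (j k)) (U : Y.Opens)
    (hU : ∀ k, CInt.IsSchematicallyDense (j k ⁻¹ᵁ U)) : CInt.IsSchematicallyDense U := by
  rw [SchDenseLib.iff_eq_zero]
  intro V s hs
  refine SchDenseLib.eq_zero_of_germ s fun y hy => ?_
  obtain ⟨k, x, rfl⟩ := hcov y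
  have h0 : (j k).app V s = 0 := by
    refine (SchDenseLib.iff_eq_zero _).1 (hU k) (j k ⁻¹ᵁ V) _ ?_
    have h1 := congrArg (fun m => m.hom s) ((j k).naturality (homOfLE (inf_le_left : V ⊓ U ≤ V)).op)
    simp only [CommRingCat.comp_apply, CommRingCat.hom_comp, RingHom.comp_apply] at h1
    exact h1.symm.trans ((congrArg ((j k).app (V ⊓ U)).hom hs).trans (map_zero _))
  apply stalkMap_injective_of_flat (j k) x
  rw [map_zero]
  exact (Scheme.Hom.germ_stalkMap_apply (j k) V x hy s).trans ((congrArg _ h0).trans (map_zero _))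

/-- Schematic density on the spectrum of a noetherian ring, by a nonzerodivisor. -/
theorem dense_spec_iff (A : CommRingCat.{u}) [IsNoetherianRing A] (U : (Spec A).Opens) :
    CInt.IsSchematicallyDense U ↔ ∃ t : A, t ∈ nonZeroDivisors A ∧ PrimeSpectrum.basicOpen t ≤ U := by
  rw [SchDenseLib.iff_exists_basicOpen_le (Or.inl inferInstance)]
  let e := (Scheme.ΓSpecIso A).commRingCatIsoToRingEquiv
  have key : ∀ s : A, (Spec A).basicOpen ((Scheme.ΓSpecIso A).inv s) = PrimeSpectrum.basicOpen s :=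
    fun s => basicOpen_eq_of_affine s
  constructor
  · rintro ⟨t, ht, htU⟩
    refine ⟨e t, (MulEquivClass.map_nonZeroDivisors e).le ⟨t, ht, rfl⟩, ?_⟩
    have := key (e t)
    rw [show (Scheme.ΓSpecIso A).inv (e t) = t from e.symm_apply_apply t] at this
    exact this ▸ htU
  · rintro ⟨t, ht, htU⟩
    exact ⟨(Scheme.ΓSpecIso A).inv t, (MulEquivClass.map_nonZeroDivisors e.symm).le ⟨t, ht, rfl⟩, (key t).le.trans htU⟩

variable {X Y : Scheme.{u}} {f : X ⟶ Y} [IrreducibleSpace ↑Y] (C : Chart f)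

/-- The coordinate map of a chart to the coordinate ring of a fibre. -/
noncomputable def toFibre (L : Type u) [Field L] [Algebra C.R L] (V : C.t) : Γ(X, V.1) →+* L ⊗[C.R] C.S V :=
  (Algebra.TensorProduct.includeRight : C.S V →ₐ[C.R] L ⊗[C.R] C.S V).toRingHom.comp
    (Algebra.TensorProduct.includeRight : Γ(X, V.1) →ₐ[Γ(Y, C.U)] C.S V).toRingHom

theorem exists_pieces (L : Type u) [Field L] [Algebra C.R L] :
    ∃ j : ∀ V : C.t, Spec (CommRingCat.of (L ⊗[C.R] C.S V)) ⟶ pullback f (C.pt L),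
      (∀ V, IsOpenImmersion (j V)) ∧ (∀ w, ∃ V, w ∈ Set.range (j V)) ∧
      ∀ V, j V ≫ pullback.fst f (C.pt L) =
        Spec.map (CommRingCat.ofHom (toFibre C L V)) ≫ (C.aff V.1 V.2).fromSpec := by
  letI : Algebra Γ(Y, C.U) L := ((algebraMap C.R L).comp (Ideal.Quotient.mk (nilradical Γ(Y, C.U)))).toAlgebra
  haveI : IsScalarTower Γ(Y, C.U) C.R L := IsScalarTower.of_algebraMap_eq fun _ => rfl
  have hpt : C.pt L = Spec.map (CommRingCat.ofHom (algebraMap Γ(Y, C.U) L)) ≫ C.hU.fromSpec := by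
    rw [Chart.pt, Chart.ι, ← Spec.map_comp_assoc]
    rfl
  let m : ∀ V : C.t, pullback (Spec.map (CommRingCat.ofHom (algebraMap Γ(Y, C.U) Γ(X, V.1))))
      (Spec.map (CommRingCat.ofHom (algebraMap Γ(Y, C.U) L))) ⟶ pullback f (C.pt L) := fun V =>
    pullback.map _ _ f (C.pt L) (C.aff V.1 V.2).fromSpec (𝟙 _) C.hU.fromSpec
      (C.hU.SpecMap_appLE_fromSpec f (C.aff V.1 V.2) (C.le_preimage V)) (by rw [Category.id_comp, hpt])
  haveI hm : ∀ V, IsOpenImmersion (m V) := fun V => by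
    haveI := (C.aff V.1 V.2).isOpenImmersion_fromSpec
    haveI := C.hU.isOpenImmersion_fromSpec
    infer_instance
  let e : ∀ V : C.t, Spec (CommRingCat.of (Γ(X, V.1) ⊗[Γ(Y, C.U)] L)) ≅
      pullback (Spec.map (CommRingCat.ofHom (algebraMap Γ(Y, C.U) Γ(X, V.1))))
        (Spec.map (CommRingCat.ofHom (algebraMap Γ(Y, C.U) L))) := fun V =>
    isPullback_spec_tensor.isoPullback
  let ε : ∀ V : C.t, (L ⊗[C.R] C.S V) ≃+* (Γ(X, V.1) ⊗[Γ(Y, C.U)] L) := fun V =>
    (Algebra.TensorProduct.cancelBaseChange Γ(Y, C.U) C.R L L Γ(X, V.1)).toRingEquiv.trans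
      (Algebra.TensorProduct.comm Γ(Y, C.U) L Γ(X, V.1)).toRingEquiv
  let ψ : ∀ V : C.t, CommRingCat.of (Γ(X, V.1) ⊗[Γ(Y, C.U)] L) ≅ CommRingCat.of (L ⊗[C.R] C.S V) := fun V =>
    (ε V).symm.toCommRingCatIso
  refine ⟨fun V => Spec.map (ψ V).hom ≫ (e V).hom ≫ m V, fun V => inferInstance, fun w => ?_, fun V => ?_⟩
  · have hw : pullback.fst f (C.pt L) w ∈ f ⁻¹ᵁ C.U := by
      show (pullback.fst f (C.pt L) ≫ f) w ∈ C.U
      rw [pullback.condition]
      show C.pt L (pullback.snd f (C.pt L) w) ∈ C.U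
      rw [congrArg (fun g : Spec (CommRingCat.of L) ⟶ Y => g (pullback.snd f (C.pt L) w)) hpt]
      exact C.hU.range_fromSpec.le ⟨_, rfl⟩
    rw [C.cov] at hw
    obtain ⟨V, hV, hwV⟩ := Opens.mem_sSup.mp hw
    obtain ⟨v, hv⟩ : w ∈ Set.range (m ⟨V, hV⟩) := by
      rw [show m ⟨V, hV⟩ = pullback.map _ _ _ _ _ _ _ _ _ from rfl, Scheme.Pullback.range_map]
      exact ⟨(C.aff V hV).range_fromSpec.ge hwV, ⟨_, rfl⟩⟩
    refine ⟨⟨V, hV⟩, (Spec.map (ψ ⟨V, hV⟩).inv) ((e ⟨V, hV⟩).inv v), ?_⟩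
    rw [← hv, Scheme.Hom.comp_apply, Scheme.Hom.comp_apply]
    congr 1
    have h1 : ((e ⟨V, hV⟩).inv ≫ Spec.map (ψ ⟨V, hV⟩).inv) ≫ Spec.map (ψ ⟨V, hV⟩).hom ≫ (e ⟨V, hV⟩).hom = 𝟙 _ := by
      rw [Category.assoc, ← Spec.map_comp_assoc, Iso.hom_inv_id, Spec.map_id, Category.id_comp, Iso.inv_hom_id]
    exact congr($h1 v)
  · simp only [m, Category.assoc, pullback.lift_fst]
    rw [IsPullback.isoPullback_hom_fst_assoc, ← Spec.map_comp_assoc]
    rfl

theorem exists_smul_of_mem_map [LocallyOfFiniteType f] (K : Type u) [Field K] [Algebra C.R K] [IsFractionRing C.R K]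
    (V : C.t) (J : Ideal Γ(X, V.1)) {z : K ⊗[C.R] C.S V} (hz : z ∈ J.map (toFibre C K V)) :
    ∃ r : C.R, r ≠ 0 ∧ ∃ s ∈ J, r • z = toFibre C K V s := by
  have surj : ∀ g : C.S V, ∃ s : Γ(X, V.1), (1 : C.R) ⊗ₜ[Γ(Y, C.U)] s = g := by
    intro g
    induction g using TensorProduct.induction_on with
    | zero => exact ⟨0, tmul_zero _ _⟩
    | tmul a s =>
      obtain ⟨a, rfl⟩ := Ideal.Quotient.mk_surjective a
      exact ⟨a • s, by rw [tmul_smul, smul_tmul', Algebra.smul_def, mul_one]; rfl⟩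
    | add x y hx hy =>
      obtain ⟨s, hs⟩ := hx
      obtain ⟨t, ht⟩ := hy
      exact ⟨s + t, by rw [tmul_add, hs, ht]⟩
  induction hz using Submodule.span_induction with
  | mem x hx =>
    obtain ⟨s, hs, rfl⟩ := hx
    exact ⟨1, one_ne_zero, s, hs, one_smul _ _⟩
  | zero => exact ⟨1, one_ne_zero, 0, J.zero_mem, by rw [smul_zero, map_zero]⟩
  | add x y _ _ hx hy =>
    obtain ⟨r, hr, s, hs, hrs⟩ := hx
    obtain ⟨r', hr', s', hs', hrs'⟩ := hy
    obtain ⟨a, ha⟩ := Ideal.Quotient.mk_surjective r'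
    obtain ⟨a', ha'⟩ := Ideal.Quotient.mk_surjective r
    refine ⟨r * r', mul_ne_zero hr hr', a • s + a' • s', J.add_mem (Submodule.smul_of_tower_mem _ a hs) (Submodule.smul_of_tower_mem _ a' hs'), ?_⟩
    have key : ∀ (a : Γ(Y, C.U)) (s : Γ(X, V.1)), toFibre C K V (a • s) = (Ideal.Quotient.mk (nilradical Γ(Y, C.U)) a : C.R) • toFibre C K V s := fun a s => by
      show (1 : K) ⊗ₜ[C.R] ((1 : C.R) ⊗ₜ[Γ(Y, C.U)] (a • s)) = _
      rw [show ((1 : C.R) ⊗ₜ[Γ(Y, C.U)] (a • s)) = (Ideal.Quotient.mk (nilradical Γ(Y, C.U)) a : C.R) • ((1 : C.R) ⊗ₜ[Γ(Y, C.U)] s) by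
        rw [tmul_smul, smul_tmul', smul_tmul', Algebra.smul_def, mul_one, smul_eq_mul, mul_one]; rfl, tmul_smul]
      rfl
    rw [map_add, key, key, ha, ha', ← hrs, ← hrs', smul_add, smul_smul, smul_smul, mul_comm r r']

  | smul b x _ hx =>
    obtain ⟨r, hr, s, hs, hrs⟩ := hx
    obtain ⟨r', g, hr', hg⟩ := exists_smul_eq_one_tmul (S := C.S V) K b
    obtain ⟨t, rfl⟩ := surj g
    refine ⟨r' * r, mul_ne_zero hr' hr, t * s, J.mul_mem_left t hs, ?_⟩
    rw [map_mul, show toFibre C K V t = r' • b from hg.symm, ← hrs, smul_eq_mul, smul_mul_smul_comm]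

/-- An open which is schematically dense in the generic fibre is so in the fibres near it. -/
theorem exists_open_dense [LocallyOfFiniteType f] [QuasiCompact f] (U : X.Opens)
    (h : IsSchemeTheoreticallyDominant (f.fiberι (genericPoint ↑Y) ⁻¹ᵁ U).ι) :
    ∃ W : Y.Opens, (W : Set ↑Y).Nonempty ∧ ∀ y ∈ W, IsSchemeTheoreticallyDominant (f.fiberι y ⁻¹ᵁ U).ι := by
  obtain ⟨C⟩ := exists_chart f
  obtain ⟨_, hptη, -⟩ := exists_residueField_algebra C C.hη
  haveI := isFractionRing_residueField C hptη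
  set K : Type u := ↑(Y.residueField (genericPoint ↑Y)) with hK
  haveI hnoe : ∀ y : Y, IsLocallyNoetherian (f.fiber y) := fun y => by
    haveI : LocallyOfFiniteType (pullback.snd f (Y.fromSpecResidueField y)) := MorphismProperty.pullback_snd _ _ ‹_›
    exact @LocallyOfFiniteType.isLocallyNoetherian _ _ (pullback.snd f (Y.fromSpecResidueField y)) ‹_› _
  have hd : CInt.IsSchematicallyDense (pullback.fst f (C.pt K) ⁻¹ᵁ U) := by
    rw [hptη]
    haveI := hnoe (genericPoint ↑Y)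
    exact (iff_ker_eq_bot (f.fiberι (genericPoint ↑Y) ⁻¹ᵁ U)).mpr h.ker_eq_bot
  haveI hK' : IsLocallyNoetherian (pullback f (C.pt K)) := by rw [hptη]; exact hnoe _
  obtain ⟨j, hj, -, hjfst⟩ := exists_pieces C K
  let J : ∀ V : C.t, Ideal Γ(X, V.1) := fun V =>
    PrimeSpectrum.vanishingIdeal ((C.aff V.1 V.2).fromSpec ⁻¹' (U : Set X)ᶜ)
  have hJ : ∀ (V : C.t) (q : PrimeSpectrum Γ(X, V.1)), (C.aff V.1 V.2).fromSpec q ∈ U ↔ ¬ J V ≤ q.asIdeal := by
    intro V q
    have hcl : IsClosed ((C.aff V.1 V.2).fromSpec ⁻¹' (U : Set X)ᶜ) :=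
      U.isOpen.isClosed_compl.preimage (C.aff V.1 V.2).fromSpec.continuous
    have := Set.ext_iff.mp ((PrimeSpectrum.zeroLocus_vanishingIdeal_eq_closure _).trans hcl.closure_eq) q
    rw [PrimeSpectrum.mem_zeroLocus, SetLike.coe_subset_coe] at this
    exact ⟨fun hq hle => this.mp hle hq, fun hn => by_contra fun hq => hn (this.mpr hq)⟩
  have hgood : ∀ V : C.t, ∃ s ∈ J V, toFibre C K V s ∈ nonZeroDivisors (K ⊗[C.R] C.S V) := by
    intro V
    haveI := hj V
    haveI : IsNoetherianRing (K ⊗[C.R] C.S V) := Algebra.FiniteType.isNoetherianRing K (K ⊗[C.R] C.S V)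
    have hd' := preimage_of_flat_qc (j V) _ hd (fun W hW => isCompact_inf_of_quasiCompact _ W hW)
    rw [← Scheme.Hom.comp_preimage, hjfst, dense_spec_iff] at hd'
    obtain ⟨t, ht, htU⟩ := hd'
    have hrad : t ∈ ((J V).map (toFibre C K V)).radical := by
      rw [Ideal.radical_eq_sInf, Ideal.mem_sInf]
      rintro P ⟨hP, hPp⟩
      by_contra htP
      have h1 : (C.aff V.1 V.2).fromSpec (PrimeSpectrum.comap (toFibre C K V) ⟨P, hPp⟩) ∈ U :=
        htU (show (⟨P, hPp⟩ : PrimeSpectrum _) ∈ PrimeSpectrum.basicOpen t from htP)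
      exact (hJ V _).mp h1 (Ideal.map_le_iff_le_comap.mp hP)
    obtain ⟨n, hn⟩ := hrad
    obtain ⟨r, hr, s, hs, hrs⟩ := exists_smul_of_mem_map C K V (J V) hn
    refine ⟨s, hs, ?_⟩
    rw [← hrs]
    convert mul_mem (isUnit_algebraMap_tmul (S := C.S V) K hr).mem_nonZeroDivisors (pow_mem ht n) using 1
    exact Algebra.smul_def (A := K ⊗[C.R] C.S V) r (t ^ n)
  choose s hsJ hs using hgood
  choose c hc hc' using fun V : C.t => exists_nzd_near K (IsFractionRing.injective C.R K) _ (hs V)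
  haveI := C.fin.fintype
  let a := ∏ V : C.t, c V
  have ha : a ≠ 0 := Finset.prod_ne_zero_iff.mpr fun V _ => hc V
  refine ⟨C.D a, ⟨_, C.mem_D ha⟩, fun y hy => ?_⟩
  obtain ⟨_, hpty, hD⟩ := exists_residueField_algebra C (C.D_le a hy)
  have hay : algebraMap C.R (Y.residueField y) a ≠ 0 := hD a hy
  rw [map_prod, Finset.prod_ne_zero_iff] at hay
  obtain ⟨j', hj', hcov', hjfst'⟩ := exists_pieces C (Y.residueField y)
  haveI := hj'
  have hdy : CInt.IsSchematicallyDense (pullback.fst f (C.pt (Y.residueField y)) ⁻¹ᵁ U) := by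
    refine of_cover _ j' hcov' _ fun V => ?_
    haveI : IsNoetherianRing (Y.residueField y ⊗[C.R] C.S V) := Algebra.FiniteType.isNoetherianRing (Y.residueField y) (Y.residueField y ⊗[C.R] C.S V)
    rw [← Scheme.Hom.comp_preimage, hjfst', dense_spec_iff]
    refine ⟨toFibre C (Y.residueField y) V (s V), hc' V _ (hay V (Finset.mem_univ _)), fun P hP => ?_⟩
    refine (hJ V (PrimeSpectrum.comap (toFibre C (Y.residueField y) V) P)).mpr fun hle => hP ?_
    exact hle (hsJ V)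
  rw [hpty] at hdy
  haveI := hnoe y
  exact ⟨(iff_ker_eq_bot (f.fiberι y ⁻¹ᵁ U)).mp hdy⟩

end Groth.Agent.FlatMisc.DenseNear
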