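import Mathlib
import Groth.Agent.FlatMisc.GenFlat
import Groth.Agent.H23.RedSub
import Groth.Agent.Triage.FibMaxFlat

/-!
# The dimension of fibres near the generic point
-/

universe u
set_option autoImplicit false
open AlgebraicGeometry CategoryTheory CategoryTheory.Limits TopologicalSpace Topology

namespace Groth.Agent.FlatMisc.DimNear

theorem fibre_dim_congr {X X' Y Y' : Scheme.{u}} (f : X ⟶ Y) (q : X' ⟶ Y') (p : X' ⟶ X) (y' : Y') (y : Y)
    (hp : IsEmbedding p) (him : p '' (q ⁻¹' {y'}) = f ⁻¹' {y}) :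
    topologicalKrullDim ↥(q.fiber y') = topologicalKrullDim ↥(f.fiber y) := by
  rw [(q.fiberHomeo y').isHomeomorph.topologicalKrullDim_eq, (f.fiberHomeo y).isHomeomorph.topologicalKrullDim_eq]
  exact ((hp.homeomorphImage (q ⁻¹' {y'})).trans (Homeomorph.setCongr him)).isHomeomorph.topologicalKrullDim_eq

theorem fibre_dim_restrict {X Y : Scheme.{u}} (f : X ⟶ Y) (W : Y.Opens) (w : W.toScheme) :
    topologicalKrullDim ↥((f ∣_ W).fiber w) = topologicalKrullDim ↥(f.fiber w.1) := by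
  refine fibre_dim_congr f (f ∣_ W) (f ⁻¹ᵁ W).ι w w.1 (f ⁻¹ᵁ W).ι.isOpenEmbedding.isEmbedding ?_
  ext x
  constructor
  · rintro ⟨a, ha, rfl⟩
    show f a.1 = w.1
    rw [← morphismRestrict_base_coe f W a, show (f ∣_ W) a = w from ha]
  · intro hx
    have hxW : x ∈ f ⁻¹ᵁ W := by show f x ∈ W; rw [show f x = w.1 from hx]; exact w.2
    exact ⟨⟨x, hxW⟩, Subtype.ext ((morphismRestrict_base_coe f W ⟨x, hxW⟩).trans hx), rfl⟩

/-- For a flat morphism of finite presentation the fibre dimension can only go up near a point. -/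
theorem exists_open_le_dim_of_flat {X Y : Scheme.{u}} (f : X ⟶ Y) [Flat f] [LocallyOfFinitePresentation f]
    (n : ℕ) (y : Y) (h : (n : WithBot ℕ∞) ≤ topologicalKrullDim ↥(f.fiber y)) :
    ∃ V : Y.Opens, y ∈ V ∧ ∀ s ∈ V, (n : WithBot ℕ∞) ≤ topologicalKrullDim ↥(f.fiber s) := by
  obtain ⟨z, hz, hnz⟩ := (FibDim.le_topologicalKrullDim_fiber_iff f y n).mp h
  obtain ⟨v, hv, hfv, hmax, -⟩ := FibDim.exists_fibMax_generization f z
  obtain ⟨U, hvU, hU⟩ := Triage.FibMaxFlat.exists_nhd_fibreDimAt_eq f hmax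
  refine ⟨⟨f '' U, f.isOpenMap _ U.isOpen⟩, ⟨v, hvU, hfv.trans hz⟩, ?_⟩
  rintro _ ⟨w, hw, rfl⟩
  obtain ⟨u, -, hfu, -, hue⟩ := FibDim.exists_fibMax_generization f w
  refine (FibDim.le_topologicalKrullDim_fiber_iff f (f w) n).mpr ⟨u, hfu, hnz.trans ?_⟩
  have h1 := hU w hw
  rw [hue] at h1
  have h2 : FibDim.rd f u = FibDim.rd f v := by exact_mod_cast h1
  rw [h2]
  exact FibDim.rd_le_of_specializes f hv hfv

theorem exists_open_le_dim {X Y : Scheme.{u}} (f : X ⟶ Y) [IrreducibleSpace ↑Y] [LocallyOfFiniteType f]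
    [QuasiCompact f] (n : ℕ) (h : (n : WithBot ℕ∞) ≤ topologicalKrullDim ↥(f.fiber (genericPoint ↑Y))) :
    ∃ V : Y.Opens, genericPoint ↑Y ∈ V ∧ ∀ s ∈ V, (n : WithBot ℕ∞) ≤ topologicalKrullDim ↥(f.fiber s) := by
  obtain ⟨Y', i, hi, hred, hr⟩ := H23.RedSub.exists_reduced_subscheme Y (S := Set.univ) isClosed_univ.isLocallyClosed
  haveI := hi
  obtain ⟨η', hη'⟩ := (show genericPoint ↑Y ∈ Set.range i by rw [hr]; trivial)
  haveI : Nonempty Y' := ⟨η'⟩
  obtain ⟨W, ⟨w, hw⟩, -, hflat, hfp⟩ := _root_.FlatMisc.exists_flat_open (pullback.snd f i) ⊤ (by simp)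
  haveI := hflat; haveI := hfp
  have hηW : η' ∈ W := by
    have hη : η' ⤳ w := by
      rw [← i.isEmbedding.isInducing.specializes_iff, hη']
      exact (genericPoint_spec ↑Y).specializes (Set.mem_univ _)
    exact hη.mem_open W.isOpen hw
  have key : ∀ y' : W, topologicalKrullDim ↥((pullback.snd f i ∣_ W).fiber y') = topologicalKrullDim ↥(f.fiber (i y'.1)) := by
    intro y'
    rw [fibre_dim_restrict]
    refine fibre_dim_congr f (pullback.snd f i) (pullback.fst f i) y'.1 (i y'.1) (pullback.fst f i).isEmbedding ?_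
    ext x
    constructor
    · rintro ⟨a, ha, rfl⟩
      show (pullback.fst f i ≫ f) a = _
      rw [pullback.condition]
      exact congrArg i ha
    · intro hx
      obtain ⟨a, ha₁, ha₂⟩ := Scheme.Pullback.exists_preimage_pullback x y'.1 hx
      exact ⟨a, ha₂, ha₁⟩
  obtain ⟨V, hηV, hV⟩ := exists_open_le_dim_of_flat (pullback.snd f i ∣_ W) n ⟨η', hηW⟩ (by
    rw [key]; show _ ≤ topologicalKrullDim ↥(f.fiber (i η')); rw [hη']; exact h)
  obtain ⟨O, hO, hOV⟩ := i.isEmbedding.isInducing.isOpen_iff.mp (W.ι ''ᵁ V).isOpen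
  refine ⟨⟨O, hO⟩, ?_, fun s hs => ?_⟩
  · show genericPoint ↑Y ∈ O
    rw [← hη']
    exact (hOV.symm ▸ ⟨⟨η', hηW⟩, hηV, rfl⟩ : η' ∈ i ⁻¹' O)
  · obtain ⟨s', rfl⟩ := (show s ∈ Set.range i by rw [hr]; trivial)
    obtain ⟨a, ha, rfl⟩ : s' ∈ (W.ι ''ᵁ V : Y'.Opens) := (hOV ▸ hs : s' ∈ ((W.ι ''ᵁ V : Y'.Opens) : Set Y'))
    exact (hV a ha).trans (key a).le

theorem exists_open_dim_le {X Y : Scheme.{u}} (f : X ⟶ Y) [IrreducibleSpace ↑Y] [LocallyOfFiniteType f]
    [QuasiCompact f] (n : ℕ) (h : topologicalKrullDim ↥(f.fiber (genericPoint ↑Y)) ≤ (n : WithBot ℕ∞)) :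
    ∃ V : Y.Opens, genericPoint ↑Y ∈ V ∧ ∀ s ∈ V, topologicalKrullDim ↥(f.fiber s) ≤ (n : WithBot ℕ∞) := by
  obtain ⟨Z, j, hj, hred, hr⟩ := H23.RedSub.exists_reduced_subscheme X
    (FibDim.isClosed_le_fibreDimAt f (n + 1)).isLocallyClosed
  haveI := hj
  haveI : IsClosedImmersion j := IsClosedImmersion.of_isPreimmersion j (by
    rw [hr]; exact FibDim.isClosed_le_fibreDimAt f (n + 1))
  refine ⟨⟨(closure (Set.range (j ≫ f)))ᶜ, isClosed_closure.isOpen_compl⟩, fun hc => ?_, fun s hs => ?_⟩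
  · obtain ⟨a, ha⟩ := FDescent.exists_specializes_of_mem_closure_range (j ≫ f) hc
    have haη : f (j a) = genericPoint ↑Y :=
      (ha.antisymm ((genericPoint_spec ↑Y).specializes (Set.mem_univ _))).eq
    have hja : ((n + 1 : ℕ) : WithBot ℕ∞) ≤ FlatMor.fibreDimAt f (j a) := hr.le ⟨a, rfl⟩
    obtain ⟨z, -, hfz, -, he⟩ := FibDim.exists_fibMax_generization f (j a)
    rw [he] at hja
    have hle : n + 1 ≤ FibDim.rd f z := by exact_mod_cast hja
    have := ((FibDim.le_topologicalKrullDim_fiber_iff f (genericPoint ↑Y) (n + 1)).mpr ⟨z, hfz.trans haη, hle⟩).trans h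
    norm_cast at this
    omega
  · rw [FibDim.topologicalKrullDim_fiber]
    refine iSup_le fun z => ?_
    by_contra hn
    have hlt : n + 1 ≤ FibDim.rd f z.1 := by
      by_contra h'
      exact hn (by exact_mod_cast (show FibDim.rd f z.1 ≤ n by omega))
    obtain ⟨a, ha⟩ := hr.ge (show ((n + 1 : ℕ) : WithBot ℕ∞) ≤ FlatMor.fibreDimAt f z.1 from
      le_trans (by exact_mod_cast hlt) (FibDim.fibreDimAt_ge_rd f (specializes_refl _)))
    refine hs (subset_closure ⟨a, ?_⟩)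
    show f (j a) = s
    rw [ha]; exact z.2

/-- The fibre dimension is constant near the generic point. -/
theorem exists_open_dim_eq {X Y : Scheme.{u}} (f : X ⟶ Y) [IrreducibleSpace ↑Y] [LocallyOfFiniteType f]
    [QuasiCompact f] (n : ℕ) (h : topologicalKrullDim ↥(f.fiber (genericPoint ↑Y)) = (n : WithBot ℕ∞)) :
    ∃ V : Y.Opens, (V : Set ↑Y).Nonempty ∧ ∀ s ∈ V, topologicalKrullDim ↥(f.fiber s) = (n : WithBot ℕ∞) := by
  obtain ⟨V₁, h₁, hV₁⟩ := exists_open_le_dim f n h.ge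
  obtain ⟨V₂, h₂, hV₂⟩ := exists_open_dim_le f n h.le
  exact ⟨V₁ ⊓ V₂, ⟨_, h₁, h₂⟩, fun s hs => le_antisymm (hV₂ s hs.2) (hV₁ s hs.1)⟩

end Groth.Agent.FlatMisc.DimNear
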