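import Mathlib

universe u
set_option autoImplicit false
open AlgebraicGeometry CategoryTheory CategoryTheory.Limits
open scoped TensorProduct

namespace FlatMisc

theorem exists_idem_of_isRadical {S : Type u} [CommRing S] {t : S} (hred : (Ideal.span {t}).IsRadical)
    (hreg : ∀ a, t * a = 0 → a = 0) {e : Localization.Away t} (he : IsIdempotentElem e) :
    ∃ s : S, IsIdempotentElem s ∧ algebraMap S (Localization.Away t) s = e := by
  obtain ⟨⟨s, ⟨_, n, rfl⟩⟩, hs⟩ := IsLocalization.surj (Submonoid.powers t) e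
  have hinj : Function.Injective (algebraMap S (Localization.Away t)) :=
    IsLocalization.injective _ (M := Submonoid.powers t) (by
      rintro _ ⟨k, rfl⟩
      refine pow_mem ?_ k
      exact mem_nonZeroDivisors_iff_right.2 (fun a ha => hreg a (by rwa [mul_comm])))
  replace hs : e * algebraMap S (Localization.Away t) (t ^ n) = algebraMap S (Localization.Away t) s := hs
  induction n generalizing s with
  | zero =>
    simp only [pow_zero, map_one, mul_one] at hs
    exact ⟨s, hinj (by rw [map_mul, ← hs]; exact he), hs.symm⟩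
  | succ n ih =>
    have h2 : s * s = t ^ (n + 1) * s := hinj (by
      rw [map_mul, map_mul, ← hs]
      linear_combination (algebraMap S (Localization.Away t) (t ^ (n + 1))) ^ 2 * he.eq)
    have h3 : s ∈ Ideal.span {t} := hred ⟨2, by
      rw [pow_two, h2, Ideal.mem_span_singleton]
      exact ⟨t ^ n * s, by rw [pow_succ']; ring⟩⟩
    rw [Ideal.mem_span_singleton] at h3
    obtain ⟨s', rfl⟩ := h3
    refine ih s' ?_
    have hu : IsUnit (algebraMap S (Localization.Away t) t) :=
      IsLocalization.map_units (Localization.Away t) (⟨t, 1, pow_one t⟩ : Submonoid.powers t)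
    refine hu.mul_left_cancel ?_
    simp only [map_mul, map_pow, pow_succ'] at hs ⊢
    linear_combination hs

theorem disjoint_closure_of_split {S : Type u} [CommRing S] {t : S} (hred : (Ideal.span {t}).IsRadical)
    (hreg : ∀ a, t * a = 0 → a = 0) {V W : Set (PrimeSpectrum S)} (hV : IsOpen V) (hW : IsOpen W)
    (hd : Disjoint V W) (hun : V ∪ W = (PrimeSpectrum.basicOpen t : Set (PrimeSpectrum S))) :
    Disjoint (closure V) (closure W) := by
  let S' := Localization.Away t
  let j : PrimeSpectrum S' → PrimeSpectrum S := PrimeSpectrum.comap (algebraMap S S')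
  have hj : Continuous j := PrimeSpectrum.continuous_comap _
  have hjr : Set.range j = (PrimeSpectrum.basicOpen t : Set (PrimeSpectrum S)) :=
    PrimeSpectrum.localization_away_comap_range S' t
  have hcompl : j ⁻¹' V = (j ⁻¹' W)ᶜ := by
    ext p
    constructor
    · exact fun h h' => hd.notMem_of_mem_left h h'
    · intro h
      have : j p ∈ V ∪ W := by rw [hun, ← hjr]; exact ⟨p, rfl⟩
      exact this.resolve_right h
  have hclopen : IsClopen (j ⁻¹' V) :=
    ⟨hcompl ▸ (hW.preimage hj).isClosed_compl, hV.preimage hj⟩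
  obtain ⟨e, he, hVe⟩ := PrimeSpectrum.exists_idempotent_basicOpen_eq_of_isClopen hclopen
  obtain ⟨s, hs, rfl⟩ := exists_idem_of_isRadical hred hreg he
  have hje : ∀ p, j p ∈ V ↔ j p ∈ PrimeSpectrum.basicOpen s := fun p => Set.ext_iff.1 hVe p
  have hsV : V ⊆ (PrimeSpectrum.basicOpen s : Set (PrimeSpectrum S)) := by
    intro x hx
    obtain ⟨p, rfl⟩ : x ∈ Set.range j := by rw [hjr, ← hun]; exact Or.inl hx
    exact (hje p).1 hx
  have hsW : W ⊆ (PrimeSpectrum.basicOpen (1 - s) : Set (PrimeSpectrum S)) := by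
    intro x hx
    obtain ⟨p, rfl⟩ : x ∈ Set.range j := by rw [hjr, ← hun]; exact Or.inr hx
    have h1 : s ∈ (j p).asIdeal := by
      by_contra h
      exact hd.notMem_of_mem_left ((hje p).2 h) hx
    exact fun h2 => (j p).2.ne_top ((Ideal.eq_top_iff_one _).2 (by simpa using add_mem h1 h2))
  have hc : ∀ a : S, IsIdempotentElem a →
      IsClosed (PrimeSpectrum.basicOpen a : Set (PrimeSpectrum S)) := fun a ha => by
    rw [PrimeSpectrum.basicOpen_eq_zeroLocus_of_isIdempotentElem a ha]
    exact PrimeSpectrum.isClosed_zeroLocus _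
  refine Disjoint.mono (closure_minimal hsV (hc _ hs)) (closure_minimal hsW (hc _ hs.one_sub)) ?_
  rw [Set.disjoint_left]
  intro x hx hx'
  have hmul : s * (1 - s) = 0 := by rw [mul_sub, mul_one, hs.eq, sub_self]
  exact (x.2.mem_or_mem (show s * (1 - s) ∈ x.asIdeal by rw [hmul]; exact zero_mem _)).elim hx hx'

theorem isRadical_map_of_fiber {R A : Type u} [CommRing R] [CommRing A] [Algebra R A] (m : Ideal R) [m.IsMaximal]
    (h : _root_.IsReduced (m.ResidueField ⊗[R] A)) : (m.map (algebraMap R A)).IsRadical := by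
  rintro a ⟨k, hk⟩
  let e1 : (R ⧸ m) ≃ₐ[R] m.ResidueField :=
    AlgEquiv.ofBijective (IsScalarTower.toAlgHom R (R ⧸ m) m.ResidueField)
      m.bijective_algebraMap_quotient_residueField
  let e : (A ⧸ m.map (algebraMap R A)) ≃ₐ[R] m.ResidueField ⊗[R] A :=
    (((Algebra.TensorProduct.quotIdealMapEquivTensorQuot A m).restrictScalars R).trans
      (Algebra.TensorProduct.congr AlgEquiv.refl e1)).trans (Algebra.TensorProduct.comm R _ _)
  rw [← Ideal.Quotient.eq_zero_iff_mem] at hk ⊢
  refine e.injective ?_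
  rw [map_zero]
  refine IsReduced.eq_zero _ ⟨k, ?_⟩
  rw [← map_pow e, ← map_pow, hk, map_zero]

theorem isReduced_tensor_of_fiber {X Y : Scheme.{u}} (f : X ⟶ Y) {U : Y.Opens} (hU : IsAffineOpen U)
    {V : X.Opens} (hV : IsAffineOpen V) (hVU : V ≤ f ⁻¹ᵁ U) (P : PrimeSpectrum Γ(Y, U))
    (h : AlgebraicGeometry.IsReduced (f.fiber (hU.fromSpec P))) :
    letI := (f.appLE U V hVU).hom.toAlgebra
    _root_.IsReduced (P.asIdeal.ResidueField ⊗[Γ(Y, U)] Γ(X, V)) := by
  letI := (f.appLE U V hVU).hom.toAlgebra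
  let g := Spec.map (CommRingCat.ofHom (algebraMap Γ(Y, U) Γ(X, V)))
  let Φ : g.fiber P ⟶ f.fiber (hU.fromSpec P) :=
    pullback.map g ((Spec Γ(Y, U)).fromSpecResidueField P) f (Y.fromSpecResidueField (hU.fromSpec P))
      hV.fromSpec (Spec.map (hU.fromSpec.residueFieldMap P)) hU.fromSpec
      (hU.SpecMap_appLE_fromSpec f hV hVU)
      (Scheme.Hom.SpecMap_residueFieldMap_fromSpecResidueField _ _).symm
  haveI : IsOpenImmersion Φ := Scheme.pullback_map_isOpenImmersion _ _ _ _ _ _ _ _ _
  haveI : AlgebraicGeometry.IsReduced (g.fiber P) := isReduced_of_isOpenImmersion Φ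
  haveI : AlgebraicGeometry.IsReduced (Spec (CommRingCat.of (P.asIdeal.Fiber Γ(X, V)))) :=
    @isReduced_of_isOpenImmersion _ _ (Spec.fiberToSpecResidueFieldIso Γ(Y, U) Γ(X, V) P).inv.left _
      (show AlgebraicGeometry.IsReduced (g.fiber P) from inferInstance)
  exact (affine_isReduced_iff (CommRingCat.of (P.asIdeal.Fiber Γ(X, V)))).mp inferInstance

/-- Spec version: affine open `V` of a scheme over `Spec R`. -/
theorem isRadical_map_of_fiber_Spec {R : Type u} [CommRing R] {X : Scheme.{u}}
    (f : X ⟶ Spec (CommRingCat.of R)) {V : X.Opens} (hV : IsAffineOpen V) (m : PrimeSpectrum R)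
    [m.asIdeal.IsMaximal] (h : AlgebraicGeometry.IsReduced (f.fiber m)) :
    (m.asIdeal.map (((Scheme.ΓSpecIso (CommRingCat.of R)).inv ≫ f.appLE ⊤ V (by simp)).hom)).IsRadical := by
  let φ := (Scheme.ΓSpecIso (CommRingCat.of R)).inv ≫ f.appLE ⊤ V (by simp)
  letI := φ.hom.toAlgebra
  have hcomm : Spec.map φ ≫ 𝟙 _ = hV.fromSpec ≫ f := by
    rw [Category.comp_id, ← (isAffineOpen_top (Spec (CommRingCat.of R))).SpecMap_appLE_fromSpec f hV (by simp),
      Spec.map_comp, IsAffineOpen.fromSpec_top, Scheme.isoSpec_Spec_inv]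
  let Φ : (Spec.map φ).fiber m ⟶ f.fiber m :=
    pullback.map (Spec.map φ) ((Spec (CommRingCat.of R)).fromSpecResidueField m) f
      ((Spec (CommRingCat.of R)).fromSpecResidueField m) hV.fromSpec (𝟙 _) (𝟙 _) hcomm (by simp)
  haveI : IsOpenImmersion Φ := Scheme.pullback_map_isOpenImmersion _ _ _ _ _ _ _ _ _
  haveI : AlgebraicGeometry.IsReduced ((Spec.map φ).fiber m) := isReduced_of_isOpenImmersion Φ
  haveI : AlgebraicGeometry.IsReduced (Spec (CommRingCat.of (m.asIdeal.Fiber Γ(X, V)))) :=
    @isReduced_of_isOpenImmersion _ _ (Spec.fiberToSpecResidueFieldIso R Γ(X, V) m).inv.left _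
      (show AlgebraicGeometry.IsReduced ((Spec.map φ).fiber m) from inferInstance)
  exact isRadical_map_of_fiber m.asIdeal ((affine_isReduced_iff (CommRingCat.of (m.asIdeal.Fiber Γ(X, V)))).mp inferInstance)

theorem connected_generic_fibre {R : Type u} [CommRing R] [IsDomain R] [IsDiscreteValuationRing R] {X : Scheme.{u}}
    (f : X ⟶ Spec (CommRingCat.of R)) [Flat f] [ConnectedSpace ↑X]
    (hred : AlgebraicGeometry.IsReduced (f.fiber (IsLocalRing.closedPoint R))) :
    _root_.IsConnected (f ⁻¹' {(⟨⊥, Ideal.isPrime_bot⟩ : PrimeSpectrum R)}) := by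
  set η : Spec (CommRingCat.of R) := (⟨⊥, Ideal.isPrime_bot⟩ : PrimeSpectrum R) with hη
  set G : Set X := f ⁻¹' {η} with hG
  obtain ⟨π, hπ⟩ := IsDiscreteValuationRing.exists_irreducible R
  have hm := (IsDiscreteValuationRing.irreducible_iff_uniformizer π).1 hπ
  have hpt : ∀ p : PrimeSpectrum R, (π ∉ p.asIdeal ↔ p = ⟨⊥, Ideal.isPrime_bot⟩) := by
    intro p
    constructor
    · intro h
      refine PrimeSpectrum.ext ?_
      by_contra hne
      exact h (by rw [IsLocalRing.eq_maximalIdeal (p.isPrime.isMaximal hne), hm]; exact Ideal.mem_span_singleton_self π)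
    · rintro rfl h
      exact hπ.ne_zero h
  have hgen : GeneralizingMap f := Flat.generalizingMap f
  have hηle : ∀ y : Spec (CommRingCat.of R), η ⤳ y := fun y =>
    (PrimeSpectrum.le_iff_specializes (⟨⊥, Ideal.isPrime_bot⟩ : PrimeSpectrum R) (y : PrimeSpectrum R)).1 bot_le
  have hexG : ∀ x : X, ∃ z ∈ G, z ⤳ x := fun x => by
    obtain ⟨z, hz1, hz2⟩ := hgen (hηle (f x))
    exact ⟨z, hz2, hz1⟩
  refine ⟨?_, ?_⟩
  · obtain ⟨x⟩ := (inferInstance : Nonempty X)
    obtain ⟨z, hz, -⟩ := hexG x
    exact ⟨z, hz⟩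
  intro u v hu hv hsub hGu hGv
  by_contra hne
  rw [Set.not_nonempty_iff_eq_empty] at hne
  have hGopen : IsOpen G := by
    have : G = f ⁻¹' (PrimeSpectrum.basicOpen π : Set (PrimeSpectrum R)) := by
      ext x; exact (hpt (f x)).symm
    rw [this]; exact (PrimeSpectrum.basicOpen π).isOpen.preimage f.continuous
  set V : Set X := G ∩ u
  set W : Set X := G ∩ v
  have hVW : Disjoint V W := Set.disjoint_left.2 fun x hxV hxW =>
    (Set.eq_empty_iff_forall_notMem.1 hne x) ⟨hxV.1, hxV.2, hxW.2⟩
  have hcov : closure V ∪ closure W = Set.univ := Set.eq_univ_iff_forall.2 fun x => by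
    obtain ⟨z, hz, hzx⟩ := hexG x
    exact (hsub hz).imp
      (fun h => hzx.mem_closed isClosed_closure (subset_closure ⟨hz, h⟩))
      (fun h => hzx.mem_closed isClosed_closure (subset_closure ⟨hz, h⟩))
  obtain ⟨x, -, hxV, hxW⟩ := isPreconnected_closed_iff.1 PreconnectedSpace.isPreconnected_univ
    (closure V) (closure W) isClosed_closure isClosed_closure hcov.ge
    (by simpa using (show V.Nonempty from hGu).closure) (by simpa using (show W.Nonempty from hGv).closure)
  obtain ⟨_, ⟨Ao, hA, rfl⟩, hxA, -⟩ :=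
    X.isBasis_affineOpens.exists_subset_of_mem_open (Set.mem_univ x) isOpen_univ
  replace hA : IsAffineOpen Ao := hA
  let φ := (Scheme.ΓSpecIso (CommRingCat.of R)).inv ≫ f.appLE ⊤ Ao (by simp)
  have hcomm : Spec.map φ = hA.fromSpec ≫ f := by
    rw [← (isAffineOpen_top (Spec (CommRingCat.of R))).SpecMap_appLE_fromSpec f hA (by simp),
      Spec.map_comp, IsAffineOpen.fromSpec_top, Scheme.isoSpec_Spec_inv]
  have hflat : φ.hom.Flat := by
    haveI : Flat (Spec.map φ) := by rw [hcomm]; infer_instance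
    exact HasRingHomProperty.Spec_iff.mp ‹Flat (Spec.map φ)›
  have hreg : ∀ a, φ.hom π * a = 0 → a = 0 := fun a ha => by
    letI := φ.hom.toAlgebra
    haveI : Module.Flat R Γ(X, Ao) := hflat
    exact Module.Flat.isSMulRegular_of_nonZeroDivisors (M := Γ(X, Ao)) (mem_nonZeroDivisors_of_ne_zero hπ.ne_zero)
      (show π • a = π • 0 by rw [smul_zero, Algebra.smul_def]; exact ha)
  have hrad : (Ideal.span {φ.hom π}).IsRadical := by
    haveI : (IsLocalRing.closedPoint R).asIdeal.IsMaximal := IsLocalRing.maximalIdeal.isMaximal R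
    have := isRadical_map_of_fiber_Spec f hA (IsLocalRing.closedPoint R) hred
    rwa [show (IsLocalRing.closedPoint R).asIdeal = IsLocalRing.maximalIdeal R from rfl, hm, Ideal.map_span,
      Set.image_singleton] at this
  let ι : PrimeSpectrum Γ(X, Ao) → X := fun p => hA.fromSpec p
  have hι : Topology.IsOpenEmbedding ι := hA.fromSpec.isOpenEmbedding
  have hιG : ∀ p, ι p ∈ G ↔ φ.hom π ∉ p.asIdeal := by
    intro p
    have h1 : (f (ι p) : PrimeSpectrum R) = PrimeSpectrum.comap φ.hom p := by
      show (hA.fromSpec ≫ f) p = _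
      rw [← hcomm]; rfl
    refine (hpt (f (ι p))).symm.trans ?_
    rw [h1]; rfl
  have hd := disjoint_closure_of_split hrad hreg (V := ι ⁻¹' V) (W := ι ⁻¹' W)
    ((hGopen.inter hu).preimage hι.continuous) ((hGopen.inter hv).preimage hι.continuous)
    (hVW.preimage ι) (by
      ext p
      constructor
      · rintro (h | h) <;> exact (hιG p).1 h.1
      · intro h
        have := (hιG p).2 h
        exact (hsub this).imp (fun h => ⟨this, h⟩) (fun h => ⟨this, h⟩))
  obtain ⟨p, rfl⟩ : x ∈ Set.range ι := by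
    show x ∈ Set.range hA.fromSpec
    rw [hA.range_fromSpec]; exact hxA
  exact hd.notMem_of_mem_left (a := p)
    (by rw [← hι.isOpenMap.preimage_closure_eq_closure_preimage hι.continuous]; exact hxV)
    (by rw [← hι.isOpenMap.preimage_closure_eq_closure_preimage hι.continuous]; exact hxW)

end FlatMisc
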