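import Mathlib
import Groth.Agent.FlatMisc.NowhereDense
import Groth.Agent.MorLib.GenFinite

/-!
# Quasi-finite morphisms are finite over a dense open
-/

universe u
set_option autoImplicit false
open AlgebraicGeometry CategoryTheory CategoryTheory.Limits TopologicalSpace Topology

namespace Groth.Agent.FlatMisc.FiniteDense

theorem dense_iInter_finite {α ι : Type*} [TopologicalSpace α] [Finite ι] (U : ι → Set α)
    (ho : ∀ i, IsOpen (U i)) (hd : ∀ i, Dense (U i)) : Dense (⋂ i, U i) := by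
  classical
  haveI := Fintype.ofFinite ι
  have key : ∀ s : Finset ι, Dense (⋂ i ∈ s, U i) := by
    intro s
    induction s using Finset.induction with
    | empty => simp
    | insert a s _ ih =>
      rw [Finset.set_biInter_insert]
      exact (hd a).inter_of_isOpen_left ih (ho a)
  simpa using key Finset.univ

/-- A frontier of an open set inside an affine open has nowhere dense image. -/
theorem isNowhereDense_image_frontier {X Y : Scheme.{u}} (f : X ⟶ Y) [LocallyQuasiFinite f] [LocallyOfFiniteType f]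
    {U : X.Opens} (V : X.Opens) [QuasiCompact (U.ι ≫ f)] :
    IsNowhereDense ((U.ι ≫ f) '' frontier (U.ι ⁻¹ᵁ V : Set U.toScheme)) := by
  refine NowhereDense.isNowhereDense_image (U.ι ≫ f) isClosed_frontier ?_
  rw [IsClosed.isNowhereDense_iff isClosed_frontier, ← frontier_compl]
  exact interior_frontier (U.ι ⁻¹ᵁ V).isOpen.isClosed_compl

theorem exists_finite_open_in {X Y : Scheme.{u}} (f : X ⟶ Y) [LocallyQuasiFinite f] [LocallyOfFiniteType f]
    [QuasiCompact f] {N : Y.Opens} (hN : (N : Set Y).Nonempty) :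
    ∃ W : Y.Opens, (W : Set Y).Nonempty ∧ W ≤ N ∧ IsFinite (f ∣_ W) := by
  obtain ⟨y, hy⟩ := hN
  obtain ⟨N₀, hN₀, hyN₀, hN₀N⟩ := exists_isAffineOpen_mem_and_subset (x := y) (U := N) hy
  obtain ⟨t, ht, htf, htc⟩ := X.isBasis_affineOpens.exists_finite_of_isCompact
    (f.isCompact_preimage hN₀.isCompact : IsCompact ((f ⁻¹ᵁ N₀ : X.Opens) : Set X))
  haveI : IsAffine N₀.toScheme := hN₀
  let f₀ : (f ⁻¹ᵁ N₀).toScheme ⟶ N₀.toScheme := f ∣_ N₀
  haveI : LocallyQuasiFinite f₀ := IsZariskiLocalAtTarget.restrict ‹_› _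
  haveI : LocallyOfFiniteType f₀ := IsZariskiLocalAtTarget.restrict ‹_› _
  haveI := htf.to_subtype
  let U : t → (f ⁻¹ᵁ N₀).toScheme.Opens := fun i => (f ⁻¹ᵁ N₀).ι ⁻¹ᵁ i.1
  have hUle : ∀ i : t, i.1 ≤ f ⁻¹ᵁ N₀ := fun i => by rw [htc]; exact le_sSup i.2
  have hU : ∀ i, IsAffineOpen (U i) := fun i => (ht i.2).preimage_of_isOpenImmersion _ (by
    rw [Scheme.Opens.opensRange_ι]; exact hUle i)
  haveI : ∀ i, QuasiCompact ((U i).ι ≫ f₀) := fun i => by
    haveI : IsAffine (U i).toScheme := hU i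
    infer_instance
  let G : t × t → Set N₀.toScheme := fun p =>
    (closure (((U p.1).ι ≫ f₀) '' frontier ((U p.1).ι ⁻¹ᵁ U p.2 : Set (U p.1).toScheme)))ᶜ
  have hd : Dense (⋂ p, G p) := dense_iInter_finite G (fun p => isClosed_closure.isOpen_compl) fun p => by
    rw [← interior_eq_empty_iff_dense_compl]
    exact isNowhereDense_image_frontier f₀ (U p.2)
  obtain ⟨z, hz⟩ := hd.inter_open_nonempty Set.univ isOpen_univ ⟨⟨y, hyN₀⟩, trivial⟩
  obtain ⟨N₁, hN₁, hzN₁, hN₁le⟩ := exists_isAffineOpen_mem_and_subset (x := z)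
    (U := (⟨⋂ p, G p, isOpen_iInter_of_finite fun p => isClosed_closure.isOpen_compl⟩ : N₀.toScheme.Opens)) hz.2
  haveI : IsAffine N₁.toScheme := hN₁
  let h := f₀ ∣_ N₁
  haveI : LocallyQuasiFinite h := IsZariskiLocalAtTarget.restrict ‹_› _
  haveI : LocallyOfFiniteType h := IsZariskiLocalAtTarget.restrict ‹_› _
  haveI : QuasiCompact f₀ := IsZariskiLocalAtTarget.restrict ‹_› _
  haveI : QuasiCompact h := IsZariskiLocalAtTarget.restrict ‹_› _
  let O := f₀ ⁻¹ᵁ N₁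
  have hUO : ∀ i, IsCompact ((U i ⊓ O : Scheme.Opens _) : Set (f ⁻¹ᵁ N₀).toScheme) := fun i => by
    haveI : IsAffine (U i).toScheme := hU i
    have := (((U i).ι ≫ f₀).isCompact_preimage hN₁.isCompact).image (U i).ι.continuous
    convert this using 1
    ext x
    constructor
    · rintro ⟨hxi, hxO⟩; exact ⟨⟨x, hxi⟩, hxO, rfl⟩
    · rintro ⟨w, hw, rfl⟩; exact ⟨w.2, hw⟩
  have hinter : ∀ i j, IsCompact ((U i ⊓ U j ⊓ O : Scheme.Opens _) : Set (f ⁻¹ᵁ N₀).toScheme) := by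
    intro i j
    have hc : IsCompact (((U i).ι ≫ f₀) ⁻¹' (N₁ : Set N₀.toScheme) ∩ closure ((U i).ι ⁻¹ᵁ U j : Set (U i).toScheme)) := by
      haveI : IsAffine (U i).toScheme := hU i
      exact (((U i).ι ≫ f₀).isCompact_preimage hN₁.isCompact).inter_right isClosed_closure
    have heq : (U i).ι '' (((U i).ι ≫ f₀) ⁻¹' (N₁ : Set N₀.toScheme) ∩ closure ((U i).ι ⁻¹ᵁ U j : Set (U i).toScheme)) =
        ((U i ⊓ U j ⊓ O : Scheme.Opens _) : Set (f ⁻¹ᵁ N₀).toScheme) := by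
      ext x
      constructor
      · rintro ⟨w, ⟨hw₁, hw₂⟩, rfl⟩
        refine ⟨⟨w.2, ?_⟩, hw₁⟩
        by_contra hn
        refine Set.mem_iInter.mp (hN₁le hw₁) (i, j) (subset_closure ⟨w, ?_, rfl⟩)
        rw [((U i).ι ⁻¹ᵁ U j).isOpen.frontier_eq]
        exact ⟨hw₂, hn⟩
      · rintro ⟨⟨hxi, hxj⟩, hxO⟩
        exact ⟨⟨x, hxi⟩, ⟨hxO, subset_closure hxj⟩, rfl⟩
    rw [← heq]
    exact hc.image (U i).ι.continuous
  haveI : QuasiSeparatedSpace O.toScheme := by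
    let V : t → O.toScheme.Opens := fun i => O.ι ⁻¹ᵁ U i
    have hcV : ∀ i j, IsCompact ((V i ⊓ V j : O.toScheme.Opens) : Set O.toScheme) := fun i j => by
      rw [O.ι.isOpenEmbedding.isInducing.isCompact_iff]
      have : O.ι '' ((V i ⊓ V j : O.toScheme.Opens) : Set O.toScheme) =
          ((U i ⊓ U j ⊓ O : Scheme.Opens _) : Set (f ⁻¹ᵁ N₀).toScheme) := by
        ext x
        constructor
        · rintro ⟨w, hw, rfl⟩; exact ⟨hw, w.2⟩
        · rintro ⟨hx, hxO⟩; exact ⟨⟨x, hxO⟩, hx, rfl⟩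
      rw [this]
      exact hinter i j
    have hVsep : ∀ i, IsQuasiSeparated (V i : Set O.toScheme) := fun i => by
      refine O.ι.isOpenEmbedding.isQuasiSeparated_iff.mpr ?_
      exact (hU i).isQuasiSeparated.of_subset (by rintro _ ⟨w, hw, rfl⟩; exact hw)
    rw [← isQuasiSeparated_univ_iff]
    intro A B _ hA hAc _ hB hBc
    have hcov : ∀ (A : Set O.toScheme), IsOpen A → IsCompact A → ∃ K : t → Set O.toScheme,
        (∀ i, IsOpen (K i) ∧ IsCompact (K i) ∧ K i ⊆ V i) ∧ A = ⋃ i, K i := by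
      intro A hA hAc
      classical
      have hb : IsTopologicalBasis {s : Set O.toScheme | IsOpen s ∧ IsCompact s ∧ ∃ i, s ⊆ V i} := by
        refine isTopologicalBasis_of_isOpen_of_nhds (fun s hs => hs.1) fun x s hx hs => ?_
        obtain ⟨i, hi⟩ : ∃ i, x ∈ V i := by
          have hx1 : (x.1.1 : X) ∈ sSup t := htc.le x.1.2
          obtain ⟨W, hW, hxW⟩ := Opens.mem_sSup.mp hx1
          exact ⟨⟨W, hW⟩, hxW⟩
        obtain ⟨W, hW, hxW, hWs⟩ := exists_isAffineOpen_mem_and_subset (x := x) (U := (⟨s, hs⟩ : O.toScheme.Opens) ⊓ V i) ⟨hx, hi⟩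
        exact ⟨W, ⟨W.isOpen, hW.isCompact, i, fun w hw => (hWs hw).2⟩, hxW, fun w hw => (hWs hw).1⟩
      obtain ⟨S, hS, hSA⟩ := hb.open_eq_sUnion hA
      subst hSA
      obtain ⟨S', hS'S, hS'f, hS'⟩ := hAc.elim_finite_subcover_image (b := S) (c := id) (fun s hs => (hS hs).1)
        (by rw [Set.sUnion_eq_biUnion]; rfl)
      refine ⟨fun i => ⋃ s ∈ {s ∈ S' | s ⊆ V i}, s, fun i => ⟨isOpen_biUnion fun s hs => (hS (hS'S hs.1)).1,
        (hS'f.subset (Set.sep_subset _ _)).isCompact_biUnion fun s hs => (hS (hS'S hs.1)).2.1,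
        Set.iUnion₂_subset fun s hs => hs.2⟩, ?_⟩
      refine subset_antisymm (fun x hx => ?_) (Set.iUnion_subset fun i => Set.iUnion₂_subset fun s hs =>
        Set.subset_sUnion_of_mem (hS'S hs.1))
      obtain ⟨s, hs, hxs⟩ := Set.mem_iUnion₂.mp (hS' hx)
      obtain ⟨i, hi⟩ := (hS (hS'S hs)).2.2
      exact Set.mem_iUnion.mpr ⟨i, Set.mem_biUnion ⟨hs, hi⟩ hxs⟩
    obtain ⟨K, hK, rfl⟩ := hcov A hA hAc
    obtain ⟨L, hL, rfl⟩ := hcov B hB hBc
    rw [Set.iUnion_inter_iUnion]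
    refine isCompact_iUnion fun i => isCompact_iUnion fun j => ?_
    have : K i ∩ L j = (K i ∩ ((V i ⊓ V j : O.toScheme.Opens) : Set _)) ∩ ((L j) ∩ ((V i ⊓ V j : O.toScheme.Opens) : Set _)) := by
      ext x
      exact ⟨fun h => ⟨⟨h.1, (hK i).2.2 h.1, (hL j).2.2 h.2⟩, h.2, (hK i).2.2 h.1, (hL j).2.2 h.2⟩, fun h => ⟨h.1.1, h.2.1⟩⟩
    rw [this]
    have h₁ : IsCompact (K i ∩ ((V i ⊓ V j : O.toScheme.Opens) : Set _)) :=
      hVsep i _ _ (hK i).2.2 (hK i).1 (hK i).2.1 (fun x hx => hx.1) (V i ⊓ V j).isOpen (hcV i j)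
    have h₂ : IsCompact (L j ∩ ((V i ⊓ V j : O.toScheme.Opens) : Set _)) :=
      hVsep j _ _ (hL j).2.2 (hL j).1 (hL j).2.1 (fun x hx => hx.2) (V i ⊓ V j).isOpen (hcV i j)
    exact hVsep i _ _ (fun x hx => (hK i).2.2 hx.1) ((hK i).1.inter (V i ⊓ V j).isOpen) h₁ (fun x hx => hx.2.1)
      ((hL j).1.inter (V i ⊓ V j).isOpen) h₂
  haveI : QuasiSeparated h := HasAffineProperty.iff_of_isAffine.mpr ‹_›
  obtain ⟨η, -, hmax⟩ := NowhereDense.exists_maximal_point (X := N₁.toScheme) (O := ⊤) ⟨⟨z, hzN₁⟩, trivial⟩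
  have hη : η ∈ genericPoints N₁.toScheme := by
    refine ⟨isIrreducible_singleton.closure, fun T hT hle => ?_⟩
    have hg := hT.isGenericPoint_genericPoint_closure
    have h1 : hT.genericPoint = η := hmax _ (hg.specializes (subset_closure (hle (subset_closure rfl))))
    exact fun x hx => by
      rw [← h1]
      exact (hg.specializes (subset_closure hx)).mem_closed isClosed_closure (subset_closure rfl)
  obtain ⟨V, -, hηV, -, hfin⟩ := MorLib.GenFinite.exists_isFinite h hη (h.finite_preimage_singleton η)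
    (fun x hx => MorLib.GenFinite.exists_open_of_finite_fibre h (h.finite_preimage_singleton η) x hx)
    (fun V₀ hV₀ hη₀ U₁ U₂ h₁ h₂ e₁ e₂ hne => MorLib.GenFinite.exists_avoid_inf h hη hV₀ hη₀ h₁ h₂ e₁ e₂ hne)
    ⊤ trivial
  refine ⟨N₀.ι ''ᵁ (N₁.ι ''ᵁ V), ⟨_, _, ⟨η, hηV, rfl⟩, rfl⟩, fun x hx => hN₀N ?_, ?_⟩
  · obtain ⟨w, -, rfl⟩ := hx; exact w.2
  · rw [← MorphismProperty.arrow_mk_iso_iff @IsFinite (morphismRestrictRestrict f N₀ (N₁.ι ''ᵁ V)),
      ← MorphismProperty.arrow_mk_iso_iff @IsFinite (morphismRestrictRestrict f₀ N₁ V)]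
    exact hfin

/-- A quasi-finite morphism is finite over a dense open. -/
theorem exists_dense_isFinite {X Y : Scheme.{u}} (f : X ⟶ Y) [LocallyQuasiFinite f] [LocallyOfFiniteType f]
    [QuasiCompact f] : ∃ U : Y.Opens, Dense (U : Set Y) ∧ IsFinite (f ∣_ U) := by
  let T := {W : Y.Opens // IsFinite (f ∣_ W)}
  refine ⟨⨆ W : T, W.1, ?_, MorLib.GenFinite.isFinite_iSup f _ fun W => W.2⟩
  rw [dense_iff_inter_open]
  intro O hO hne
  obtain ⟨W, ⟨x, hx⟩, hWO, hW⟩ := exists_finite_open_in f (N := ⟨O, hO⟩) hne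
  exact ⟨x, hWO hx, Opens.mem_iSup.mpr ⟨⟨W, hW⟩, hx⟩⟩

end Groth.Agent.FlatMisc.FiniteDense
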