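import Mathlib

/-! A quasi-finite finitely presented algebra is open in a finite finitely presented one. -/

set_option autoImplicit false

universe u

open AlgebraicGeometry CategoryTheory

namespace Groth.Agent.FlatMisc.FiniteFP

/-- ZMT with a finitely presented finite envelope. -/
theorem exists_envelope (A S : Type u) [CommRing A] [CommRing S] [Algebra A S]
    [Algebra.FinitePresentation A S] [Algebra.QuasiFinite A S] :
    ∃ (B : Type u) (_ : CommRing B) (_ : Algebra A B) (_ : Module.Finite A B)
      (_ : Module.FinitePresentation A B) (θ : B →ₐ[A] S) (m : ℕ) (g : Fin m → B),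
      Ideal.span (Set.range (θ ∘ g)) = ⊤ ∧
      ∀ l, Function.Bijective (Localization.awayMap θ.toRingHom (g l)) := by
  classical
  choose S' hS' r hr hbij using fun p : PrimeSpectrum S =>
    Algebra.QuasiFiniteAt.exists_fg_and_exists_notMem_and_awayMap_bijective (R := A) p.asIdeal
  have htop : Ideal.span (Set.range fun p => (r p : S)) = ⊤ := by
    by_contra hne
    obtain ⟨M, hM, hle⟩ := Ideal.exists_le_maximal _ hne
    exact hr ⟨M, hM.isPrime⟩ (hle (Ideal.subset_span ⟨_, rfl⟩))
  obtain ⟨T, hT⟩ : ∃ T : Finset (PrimeSpectrum S), Ideal.span ((fun p => (r p : S)) '' (T : Set _)) = ⊤ := by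
    obtain ⟨t, ht, h1⟩ := Submodule.mem_span_finite_of_mem_span
      (show (1 : S) ∈ Ideal.span (Set.range fun p => (r p : S)) from htop ▸ trivial)
    obtain ⟨T, hT⟩ := Finset.subset_set_image_iff.mp
      (show (t : Set S) ⊆ (fun p => (r p : S)) '' Set.univ by rwa [Set.image_univ])
    refine ⟨T, (Ideal.eq_top_iff_one _).mpr ?_⟩
    rw [← hT.2, Finset.coe_image] at h1
    exact h1
  choose gen hgen using hS'
  let B0 : Subalgebra A S := Algebra.adjoin A (⋃ p ∈ T, (gen p : Set S))
  have hle : ∀ p ∈ T, S' p ≤ B0 := fun p hp x hx => by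
    have : x ∈ Submodule.span A (gen p : Set S) := by rw [hgen p]; exact hx
    exact Submodule.span_le.mpr (fun y hy => Algebra.subset_adjoin (Set.mem_biUnion hp hy))
      this |> fun h => (show x ∈ B0.toSubmodule from h)
  haveI hfinB0 : Module.Finite A B0 := by
    refine (Module.Finite.iff_fg (N := Subalgebra.toSubmodule B0)).mpr ?_
    refine fg_adjoin_of_finite (T.finite_toSet.biUnion fun p _ => (gen p).finite_toSet) ?_
    intro x hx
    obtain ⟨p, -, hxp⟩ := Set.mem_iUnion₂.mp hx
    have hxS : x ∈ S' p := by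
      show x ∈ (S' p).toSubmodule
      rw [← hgen p]
      exact Submodule.subset_span hxp
    haveI : Module.Finite A (S' p) := (Module.Finite.iff_fg (N := Subalgebra.toSubmodule (S' p))).mpr ⟨gen p, hgen p⟩
    exact (IsIntegral.of_finite A (⟨x, hxS⟩ : S' p)).map (S' p).val
  obtain ⟨C, _, _, _, _, _, π, hπ⟩ := Module.Finite.exists_free_surjective A B0
  let en := T.equivFin
  let g0 : Fin T.card → B0 := fun l => ⟨(r (en.symm l).1 : S), hle _ (en.symm l).2 (r (en.symm l).1).2⟩
  choose g hg using fun l => hπ (g0 l)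
  let θ0 : C →ₐ[A] S := B0.val.comp π
  haveI : Algebra.FinitePresentation A C :=
    haveI := Module.finitePresentation_of_projective A C
    Algebra.FinitePresentation.of_finitePresentation A C
  -- surjectivity after localization
  have hsur : ∀ l, Function.Surjective (Localization.awayMap θ0.toRingHom (g l)) := by
    intro l z
    let p := (en.symm l).1
    have hgl : θ0 (g l) = (r p : S) := congrArg Subtype.val (hg l)
    obtain ⟨s, ⟨_, n, rfl⟩, rfl⟩ := IsLocalization.exists_mk'_eq (Submonoid.powers (θ0.toRingHom (g l))) z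
    obtain ⟨w, hw⟩ := (hbij p).2 (algebraMap S (Localization.Away ((S' p).val.toRingHom (r p))) s)
    obtain ⟨b, ⟨_, M, rfl⟩, rfl⟩ := IsLocalization.exists_mk'_eq (Submonoid.powers (r p)) w
    rw [Localization.awayMap, IsLocalization.Away.map, IsLocalization.map_mk', IsLocalization.mk'_eq_iff_eq_mul,
      ← map_mul, IsLocalization.eq_iff_exists (Submonoid.powers ((S' p).val.toRingHom (r p)))] at hw
    obtain ⟨⟨_, K, rfl⟩, hK⟩ := hw
    replace hK : (r p : S) ^ K * (b : S) = (r p : S) ^ K * (s * ((r p ^ M : S' p) : S)) := hK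
    push_cast at hK
    obtain ⟨b', hb'⟩ := hπ ⟨b, hle p (en.symm l).2 b.2⟩
    refine ⟨IsLocalization.mk' _ (g l ^ K * b') (⟨g l ^ (K + M + n), K + M + n, rfl⟩ : Submonoid.powers (g l)), ?_⟩
    rw [Localization.awayMap, IsLocalization.Away.map, IsLocalization.map_mk', IsLocalization.mk'_eq_iff_eq]
    congr 1
    show θ0 (g l) ^ n * θ0 (g l ^ K * b') = θ0 (g l ^ (K + M + n)) * s
    rw [map_mul, map_pow, map_pow, hgl, show θ0 b' = (b : S) from congrArg Subtype.val hb', hK]
    ring
  -- finitely many relations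
  have hJ : ∀ l, ∃ s : Finset C, (↑s ⊆ (RingHom.ker θ0.toRingHom : Set C)) ∧
      RingHom.ker (Localization.awayMap θ0.toRingHom (g l)) ≤
        (Ideal.span (s : Set C)).map (algebraMap C (Localization.Away (g l))) := by
    intro l
    let Ag := Localization.Away (g l)
    let Sg := Localization.Away (θ0.toRingHom (g l))
    let ψ : Ag →ₐ[A] Sg := { Localization.awayMap θ0.toRingHom (g l) with
      commutes' := fun a => by
        show Localization.awayMap θ0.toRingHom (g l) (algebraMap A Ag a) = algebraMap A Sg a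
        rw [IsScalarTower.algebraMap_apply A C Ag, Localization.awayMap, IsLocalization.Away.map, IsLocalization.map_eq]
        show algebraMap S Sg (θ0 (algebraMap A C a)) = _
        rw [θ0.commutes, ← IsScalarTower.algebraMap_apply] }
    haveI : Algebra.FinitePresentation A Ag :=
      haveI : Algebra.FinitePresentation C Ag := IsLocalization.Away.finitePresentation (g l)
      Algebra.FinitePresentation.trans A C Ag
    haveI : Algebra.FinitePresentation A Sg :=
      haveI : Algebra.FinitePresentation S Sg := IsLocalization.Away.finitePresentation (θ0.toRingHom (g l))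
      Algebra.FinitePresentation.trans A S Sg
    obtain ⟨K, hK⟩ := Algebra.FinitePresentation.ker_fG_of_surjective ψ (hsur l)
    have : ∀ z : (K : Set Ag), ∃ c : C, θ0 c = 0 ∧ (z : Ag) ∈ Ideal.span {algebraMap C Ag c} := by
      rintro ⟨z, hz⟩
      have hz0 : Localization.awayMap θ0.toRingHom (g l) z = 0 :=
        (hK ▸ Submodule.subset_span hz : z ∈ RingHom.ker ψ.toRingHom)
      obtain ⟨b, ⟨_, M, rfl⟩, rfl⟩ := IsLocalization.exists_mk'_eq (Submonoid.powers (g l)) z
      rw [Localization.awayMap, IsLocalization.Away.map, IsLocalization.map_mk', IsLocalization.mk'_eq_zero_iff] at hz0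
      obtain ⟨⟨_, N, rfl⟩, hN⟩ := hz0
      replace hN : θ0 (g l) ^ N * θ0 b = 0 := hN
      refine ⟨g l ^ N * b, by rw [map_mul, map_pow, hN], Ideal.mem_span_singleton'.mpr
        ⟨IsLocalization.mk' Ag 1 (⟨g l ^ (N + M), N + M, rfl⟩ : Submonoid.powers (g l)), ?_⟩⟩
      rw [mul_comm, IsLocalization.mul_mk'_eq_mk'_of_mul, mul_one, IsLocalization.mk'_eq_iff_eq]
      congr 1
      show g l ^ M * (g l ^ N * b) = g l ^ (N + M) * b
      ring
    choose c hc0 hc using this
    refine ⟨Finset.univ.image c, fun x hx => ?_, ?_⟩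
    · obtain ⟨z, -, rfl⟩ := Finset.mem_image.mp hx
      exact hc0 z
    · show RingHom.ker ψ.toRingHom ≤ _
      rw [← hK]
      refine Ideal.span_le.mpr fun z hz => ?_
      have h1 : Ideal.span {algebraMap C Ag (c ⟨z, hz⟩)} ≤
          (Ideal.span (↑(Finset.univ.image c) : Set C)).map (algebraMap C Ag) :=
        (Ideal.span_singleton_le_iff_mem _).mpr (Ideal.mem_map_of_mem _ (Ideal.subset_span (by simp)))
      exact h1 (hc ⟨z, hz⟩)
  choose s hs hker using hJ
  let J0 : Ideal C := Ideal.span (⋃ l, (s l : Set C))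
  have hJ0 : J0 ≤ RingHom.ker θ0.toRingHom := Ideal.span_le.mpr (Set.iUnion_subset hs)
  have hJfg : J0.FG := Submodule.fg_span (Set.finite_iUnion fun l => (s l).finite_toSet)
  let θ : (C ⧸ J0) →ₐ[A] S := Ideal.Quotient.liftₐ J0 θ0 hJ0
  haveI : Algebra.FinitePresentation A (C ⧸ J0) := Algebra.FinitePresentation.quotient hJfg
  haveI : Module.Finite A (C ⧸ J0) := Module.Finite.of_surjective (Ideal.Quotient.mkₐ A J0).toLinearMap Ideal.Quotient.mk_surjective
  refine ⟨C ⧸ J0, inferInstance, inferInstance, inferInstance,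
    Module.FinitePresentation.of_finite_of_finitePresentation A (C ⧸ J0), θ, T.card, fun l => Ideal.Quotient.mk J0 (g l), ?_, fun l => ⟨?_, ?_⟩⟩
  · refine top_unique (hT.ge.trans (Ideal.span_mono ?_))
    rintro _ ⟨p, hp, rfl⟩
    refine ⟨en ⟨p, hp⟩, ?_⟩
    show θ0 (g (en ⟨p, hp⟩)) = _
    rw [show θ0 (g (en ⟨p, hp⟩)) = (g0 (en ⟨p, hp⟩) : S) from congrArg Subtype.val (hg _)]
    exact congrArg (fun q : T => ((r q.1) : S)) (en.symm_apply_apply ⟨p, hp⟩)
  · rw [injective_iff_map_eq_zero]
    intro z hz
    obtain ⟨b, ⟨_, M, rfl⟩, rfl⟩ := IsLocalization.exists_mk'_eq (Submonoid.powers (Ideal.Quotient.mk J0 (g l))) z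
    obtain ⟨c, rfl⟩ := Ideal.Quotient.mk_surjective b
    rw [Localization.awayMap, IsLocalization.Away.map, IsLocalization.map_mk', IsLocalization.mk'_eq_zero_iff] at hz
    obtain ⟨⟨_, N, rfl⟩, hN⟩ := hz
    replace hN : θ0 (g l) ^ N * θ0 c = 0 := hN
    let q : Localization.Away (g l) →+* Localization.Away (Ideal.Quotient.mk J0 (g l)) :=
      Localization.awayMap (Ideal.Quotient.mk J0) (g l)
    have h1 : algebraMap C (Localization.Away (g l)) (g l ^ N * c) ∈
        RingHom.ker (Localization.awayMap θ0.toRingHom (g l)) := by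
      rw [RingHom.mem_ker, Localization.awayMap, IsLocalization.Away.map, IsLocalization.map_eq]
      show algebraMap S _ (θ0 (g l ^ N * c)) = 0
      rw [map_mul, map_pow, hN, map_zero]
    have h2 : q (algebraMap C _ (g l ^ N * c)) = 0 := by
      have hle' : (Ideal.span (s l : Set C)).map (algebraMap C (Localization.Away (g l))) ≤ RingHom.ker q := by
        rw [Ideal.map_le_iff_le_comap, Ideal.span_le]
        intro x hx
        show q (algebraMap C _ x) = 0
        simp only [q, Localization.awayMap, IsLocalization.Away.map, IsLocalization.map_eq]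
        rw [show Ideal.Quotient.mk J0 x = 0 from
          Ideal.Quotient.eq_zero_iff_mem.mpr (Ideal.subset_span (Set.mem_iUnion.mpr ⟨l, hx⟩)), map_zero]
      exact hle' (hker l h1)
    simp only [q, Localization.awayMap, IsLocalization.Away.map, IsLocalization.map_eq] at h2
    rw [map_mul (Ideal.Quotient.mk J0), map_pow] at h2
    obtain ⟨⟨_, K, rfl⟩, hK⟩ := (IsLocalization.map_eq_zero_iff (Submonoid.powers (Ideal.Quotient.mk J0 (g l))) _ _).1 h2
    refine (IsLocalization.mk'_eq_zero_iff _ _).2 ⟨⟨_, K + N, rfl⟩, ?_⟩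
    show Ideal.Quotient.mk J0 (g l) ^ (K + N) * Ideal.Quotient.mk J0 c = 0
    rw [pow_add, mul_assoc]
    exact hK
  · intro z
    obtain ⟨w, hw⟩ := hsur l z
    refine ⟨Localization.awayMap (Ideal.Quotient.mk J0) (g l) w, ?_⟩
    obtain ⟨b, m', rfl⟩ := IsLocalization.exists_mk'_eq (Submonoid.powers (g l)) w
    rw [← hw]
    simp only [Localization.awayMap, IsLocalization.Away.map, IsLocalization.map_mk']
    rfl

/-- The envelope gives an open immersion of spectra. -/
theorem isOpenImmersion_specMap {B S : CommRingCat.{u}} (θ : B ⟶ S) {m : ℕ} (g : Fin m → B)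
    (hspan : Ideal.span (Set.range (θ.hom ∘ g)) = ⊤)
    (hbij : ∀ l, Function.Bijective (Localization.awayMap θ.hom (g l))) :
    IsOpenImmersion (Spec.map θ) ∧
      Set.range (Spec.map θ) = ⋃ l, (PrimeSpectrum.basicOpen (g l) : Set (PrimeSpectrum B)) := by
  have hcov : ∀ y : Spec S, ∃ l, g l ∉ (show PrimeSpectrum B from Spec.map θ y).asIdeal := by
    intro y
    by_contra h
    push_neg at h
    refine (show PrimeSpectrum S from y).isPrime.ne_top (top_unique (hspan.ge.trans (Ideal.span_le.mpr ?_)))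
    rintro _ ⟨l, rfl⟩
    exact h l
  have hiso : ∀ l, IsIso (Spec.map θ ∣_ PrimeSpectrum.basicOpen (g l)) := by
    intro l
    refine ((MorphismProperty.isomorphisms Scheme.{u}).arrow_mk_iso_iff (SpecMapRestrictBasicOpenIso θ (g l))).2 ?_
    haveI : IsIso (CommRingCat.ofHom (Localization.awayMap θ.hom (g l))) :=
      (ConcreteCategory.isIso_iff_bijective _).2 (hbij l)
    show IsIso (Spec.map (CommRingCat.ofHom (Localization.awayMap θ.hom (g l))))
    infer_instance
  refine ⟨IsZariskiLocalAtTarget.of_range_subset_iSup (P := @IsOpenImmersion)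
    (fun l => PrimeSpectrum.basicOpen (g l)) ?_ fun l => haveI := hiso l; inferInstance, ?_⟩
  · rintro _ ⟨y, rfl⟩
    exact TopologicalSpace.Opens.mem_iSup.2 (hcov y)
  refine subset_antisymm (Set.range_subset_iff.mpr fun y => Set.mem_iUnion.mpr (hcov y)) ?_
  refine Set.iUnion_subset fun l z hz => ?_
  haveI := hiso l
  obtain ⟨w, hw⟩ := (Spec.map θ ∣_ PrimeSpectrum.basicOpen (g l)).surjective
    (⟨z, hz⟩ : (PrimeSpectrum.basicOpen (g l) : (Spec B).Opens))
  exact ⟨w.1, by rw [← morphismRestrict_base_coe]; exact congrArg Subtype.val hw⟩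

end Groth.Agent.FlatMisc.FiniteFP
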