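import Mathlib
import Groth.Agent.S2082
import Groth.Agent.AvramovLib.Ps
import Groth.Agent.RegLoc6.Normal

/-!
# Finite dominant maps between regular rings are flat
-/

universe u
set_option autoImplicit false

namespace Groth.Agent.FlatMisc.FiniteRegular

open IsLocalRing

/-- The core: a finite algebra over a regular local ring, localized at a prime with regular
local ring into which the base injects, is flat there. -/
theorem ringKrullDim_eq_of_finite {A C B : Type u} [CommRing A] [CommRing C] [CommRing B] [IsRegularLocalRing A]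
    [IsLocalRing B] [IsDomain B] [Algebra A C] [Module.Finite A C] [Algebra C B] [Algebra A B] [IsScalarTower A C B]
    (Q : Ideal C) [Q.IsPrime] [IsLocalization.AtPrime B Q] [Q.LiesOver (maximalIdeal A)]
    (hinj : Function.Injective (algebraMap A B)) :
    ringKrullDim B = ringKrullDim A ∧ ringKrullDim (B ⧸ (maximalIdeal A).map (algebraMap A B)) = 0 := by
  haveI : IsNoetherianRing C := IsNoetherianRing.of_finite A C
  haveI := RegLoc6.isDomain_of_isRegularLocalRing A
  haveI := RegLoc6.isIntegrallyClosed_of_isRegularLocalRing A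
  have hmax : ∀ (I : Ideal C), I.IsPrime → I ≤ Q → (maximalIdeal A).map (algebraMap A C) ≤ I → I = Q := by
    intro I hI hIQ hmI
    haveI := hI
    have h1 : (I.comap (algebraMap A C)) = maximalIdeal A :=
      le_antisymm (le_maximalIdeal (Ideal.IsPrime.ne_top inferInstance)) (Ideal.map_le_iff_le_comap.mp hmI)
    haveI : I.IsMaximal := Ideal.isMaximal_of_isIntegral_of_isMaximal_comap (R := A) I (by rw [h1]; infer_instance)
    exact Ideal.IsMaximal.eq_of_le inferInstance (Ideal.IsPrime.ne_top inferInstance) hIQ
  have hmQ : (maximalIdeal A).map (algebraMap A C) ≤ Q :=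
    Ideal.map_le_iff_le_comap.mpr (Q.over_def (maximalIdeal A)).le
  have hfib : (Q.map (Ideal.Quotient.mk ((maximalIdeal A).map (algebraMap A C)))).height = 0 := by
    haveI : (Q.map (Ideal.Quotient.mk ((maximalIdeal A).map (algebraMap A C)))).IsPrime :=
      Ideal.map_isPrime_of_surjective Ideal.Quotient.mk_surjective (by rw [Ideal.mk_ker]; exact hmQ)
    rw [Ideal.height_eq_zero_iff]
    refine ⟨⟨inferInstance, bot_le⟩, ?_⟩
    rintro I ⟨hI, -⟩ hIQ
    haveI := hI
    have h2 : I.comap (Ideal.Quotient.mk _) ≤ Q := by
      refine (Ideal.comap_mono hIQ).trans ?_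
      rw [Ideal.comap_map_of_surjective _ Ideal.Quotient.mk_surjective, ← RingHom.ker_eq_comap_bot, Ideal.mk_ker, sup_eq_left.mpr hmQ]
    have h3 := hmax _ inferInstance h2 (by
      intro x hx
      rw [Ideal.mem_comap, Ideal.Quotient.eq_zero_iff_mem.mpr hx]
      exact I.zero_mem)
    exact Ideal.map_le_iff_le_comap.mpr h3.ge
  have hdim : ringKrullDim B = ringKrullDim A := by
    rw [IsLocalization.AtPrime.ringKrullDim_eq_height Q B, ← IsLocalRing.maximalIdeal_height_eq_ringKrullDim]
    refine congrArg _ (le_antisymm ?_ ?_)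
    · have := Ideal.height_le_height_add_of_liesOver (maximalIdeal A) Q
      rwa [hfib, add_zero] at this
    · let q₀ := RingHom.ker (algebraMap C B)
      haveI : q₀.IsPrime := RingHom.ker_isPrime _
      haveI : FaithfulSMul A (C ⧸ q₀) := by
        rw [faithfulSMul_iff_algebraMap_injective]
        intro a b hab
        apply hinj
        rw [IsScalarTower.algebraMap_apply A C B, IsScalarTower.algebraMap_apply A C B, ← sub_eq_zero, ← map_sub]
        exact Ideal.Quotient.eq.mp hab
      have hq₀ : q₀ ≤ Q := fun c hc => by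
        by_contra hcQ
        have h4 := IsLocalization.map_units B (⟨c, hcQ⟩ : Q.primeCompl)
        rw [show algebraMap C B c = 0 from hc] at h4
        exact not_isUnit_zero h4
      let Qb : Ideal (C ⧸ q₀) := Q.map (Ideal.Quotient.mk q₀)
      haveI : Qb.IsPrime := Ideal.map_isPrime_of_surjective Ideal.Quotient.mk_surjective (by rw [Ideal.mk_ker]; exact hq₀)
      have hcomap : Qb.comap (Ideal.Quotient.mk q₀) = Q := by
        rw [Ideal.comap_map_of_surjective _ Ideal.Quotient.mk_surjective, ← RingHom.ker_eq_comap_bot, Ideal.mk_ker, sup_eq_left.mpr hq₀]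
      haveI : Qb.LiesOver (maximalIdeal A) := ⟨by
        rw [Q.over_def (maximalIdeal A), ← hcomap]
        rfl⟩
      have h5 : (maximalIdeal A).height ≤ Qb.height := by
        rw [Ideal.height_eq_height_add_of_liesOver_of_hasGoingDown (maximalIdeal A) Qb]
        exact le_self_add
      refine h5.trans ?_
      let pb : PrimeSpectrum (C ⧸ q₀) := ⟨Qb, inferInstance⟩
      rw [show Qb.height = _ from pb.height_eq_orderHeight, show Q.height = _ from (⟨Q, inferInstance⟩ : PrimeSpectrum C).height_eq_orderHeight,
        show (⟨Q, inferInstance⟩ : PrimeSpectrum C) = PrimeSpectrum.comap (Ideal.Quotient.mk q₀) pb from PrimeSpectrum.ext hcomap.symm]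
      exact Order.height_le_height_apply_of_strictMono _ (RingHom.strictMono_comap_of_surjective Ideal.Quotient.mk_surjective) _
  refine ⟨hdim, ?_⟩
  have hle : (maximalIdeal A).map (algebraMap A B) ≤ maximalIdeal B := by
    rw [IsScalarTower.algebraMap_eq A C B, ← Ideal.map_map]
    rw [← IsLocalization.AtPrime.map_eq_maximalIdeal Q B]
    exact Ideal.map_mono hmQ
  haveI : Nontrivial (B ⧸ (maximalIdeal A).map (algebraMap A B)) :=
    Ideal.Quotient.nontrivial_iff.mpr fun h => (maximalIdeal B).ne_top_iff_one.mp Ideal.IsPrime.ne_top' (hle (h ▸ trivial))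
  haveI : Ring.KrullDimLE 0 (B ⧸ (maximalIdeal A).map (algebraMap A B)) := by
    rw [Ring.krullDimLE_zero_iff]
    intro I hI
    haveI := hI
    have h6 : (I.comap (Ideal.Quotient.mk ((maximalIdeal A).map (algebraMap A B)))) = maximalIdeal B := by
      set J := I.comap (Ideal.Quotient.mk ((maximalIdeal A).map (algebraMap A B))) with hJ
      haveI : J.IsPrime := Ideal.IsPrime.comap _
      have h7 : J.comap (algebraMap C B) = Q := by
        refine hmax _ inferInstance ?_ ?_
        · exact fun c hc => by
            by_contra hcQ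
            exact Ideal.IsPrime.ne_top (I := J) inferInstance (Ideal.eq_top_of_isUnit_mem _ hc (IsLocalization.map_units B (⟨c, hcQ⟩ : Q.primeCompl)))
        · rw [Ideal.map_le_iff_le_comap, Ideal.comap_comap, ← IsScalarTower.algebraMap_eq, hJ]
          intro a ha
          rw [Ideal.mem_comap, Ideal.mem_comap, Ideal.Quotient.eq_zero_iff_mem.mpr (Ideal.mem_map_of_mem _ ha)]
          exact I.zero_mem
      rw [← IsLocalization.AtPrime.map_eq_maximalIdeal Q B, ← h7]
      exact (IsLocalization.map_comap Q.primeCompl B J).symm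
    have h8 : (maximalIdeal B).map (Ideal.Quotient.mk ((maximalIdeal A).map (algebraMap A B))) = I := by
      rw [← h6, Ideal.map_comap_of_surjective _ Ideal.Quotient.mk_surjective]
    rw [← h8]
    exact Ideal.IsMaximal.map_of_surjective_of_ker_le Ideal.Quotient.mk_surjective (by rw [Ideal.mk_ker]; exact hle)
  exact ringKrullDimZero_iff_ringKrullDim_eq_zero.mp inferInstance

/-- Finite type + finite: localisations with regular local rings and injective local map are flat. -/
theorem flat_localization {R C A B : Type u} [CommRing R] [CommRing C] [CommRing A] [CommRing B]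
    [IsRegularLocalRing A] [IsRegularLocalRing B] [Algebra R C] [Module.Finite R C] [Algebra R A]
    [Algebra C B] [Algebra R B] [Algebra A B] [IsScalarTower R C B] [IsScalarTower R A B]
    (P : Ideal R) [P.IsPrime] (Q : Ideal C) [Q.IsPrime] [IsLocalization.AtPrime A P] [IsLocalization.AtPrime B Q]
    [hQP : Q.LiesOver P] [IsLocalHom (algebraMap A B)] (hinj : Function.Injective (algebraMap A B)) :
    Module.Flat A B := by
  haveI := RegLoc6.isDomain_of_isRegularLocalRing B
  haveI := AvramovLib.isCM_of_regular B
  let C' := Localization (Algebra.algebraMapSubmonoid C P.primeCompl)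
  have hW : Algebra.algebraMapSubmonoid C P.primeCompl ≤ Q.primeCompl := by
    rintro _ ⟨r, hr, rfl⟩ h
    exact hr (hQP.over.ge h)
  letI : Algebra A C' := (IsLocalization.map (M := P.primeCompl) (T := Algebra.algebraMapSubmonoid C P.primeCompl) C' (algebraMap R C) (Submonoid.le_comap_map P.primeCompl) : A →+* C').toAlgebra
  haveI : IsScalarTower R A C' := .of_algebraMap_eq fun r => by
    rw [RingHom.algebraMap_toAlgebra, IsLocalization.map_eq]
    rfl
  haveI : Module.Finite A C' := Module.Finite.of_isLocalizedModule P.primeCompl (IsScalarTower.toAlgHom R C C').toLinearMap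
  letI : Algebra C' B := (IsLocalization.lift (M := Algebra.algebraMapSubmonoid C P.primeCompl)
    (g := algebraMap C B) fun y => IsLocalization.map_units B (⟨y.1, hW y.2⟩ : Q.primeCompl)).toAlgebra
  haveI : IsScalarTower C C' B := .of_algebraMap_eq fun c => by
    rw [RingHom.algebraMap_toAlgebra, IsLocalization.lift_eq]
  haveI : IsScalarTower A C' B := .of_algebraMap_eq' (IsLocalization.ringHom_ext P.primeCompl (RingHom.ext fun r => by
    simp only [RingHom.comp_apply]
    rw [← IsScalarTower.algebraMap_apply R A B, ← IsScalarTower.algebraMap_apply R A C',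
      IsScalarTower.algebraMap_apply R C C', ← IsScalarTower.algebraMap_apply C C' B, ← IsScalarTower.algebraMap_apply R C B]))
  let Q' : Ideal C' := (IsLocalRing.maximalIdeal B).comap (algebraMap C' B)
  haveI : Q'.IsPrime := Ideal.IsPrime.comap _
  haveI : IsLocalization (Q.primeCompl.map (algebraMap C C')) B :=
    IsLocalization.isLocalization_of_submonoid_le C' B (Algebra.algebraMapSubmonoid C P.primeCompl) Q.primeCompl hW
  haveI : IsLocalization.AtPrime B Q' := IsLocalization.of_le (Q.primeCompl.map (algebraMap C C')) Q'.primeCompl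
    (by
      rintro _ ⟨c, hc, rfl⟩ h
      rw [SetLike.mem_coe, Ideal.mem_comap, ← IsScalarTower.algebraMap_apply] at h
      exact h (IsLocalization.map_units B (⟨c, hc⟩ : Q.primeCompl)))
    (fun r hr => IsLocalRing.notMem_maximalIdeal.mp hr)
  haveI : Q'.LiesOver (maximalIdeal A) := ⟨by
    rw [Ideal.under_def, Ideal.comap_comap, ← IsScalarTower.algebraMap_eq]
    exact (IsLocalRing.maximalIdeal.isMaximal A).eq_of_le (Ideal.IsPrime.ne_top (Ideal.IsPrime.comap _)) fun a ha => map_nonunit (algebraMap A B) a ha⟩
  obtain ⟨h1, h2⟩ := ringKrullDim_eq_of_finite (A := A) (B := B) Q' hinj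
  exact Groth.Agent.S2082.result (by rw [h1, h2, add_zero])

end Groth.Agent.FlatMisc.FiniteRegular
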