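import Mathlib
import Groth.Agent.Approx.IntegralLimit
import Groth.Agent.S1378

/-! A finite finitely presented surjection through which a flat cover has local sections. -/

set_option autoImplicit false
set_option backward.isDefEq.respectTransparency.types false

universe u

open AlgebraicGeometry CategoryTheory Limits TopologicalSpace Opposite

namespace Groth.Agent.FlatMisc.FiniteSectionCover

/-- Local sections over an integral surjection descend to a finite finitely presented one. -/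
theorem exists_finite {U S T : Scheme.{u}} (g : U ⟶ S) [LocallyOfFinitePresentation g] [CompactSpace S]
    [QuasiSeparatedSpace S] (π : T ⟶ S) [IsIntegralHom π] [Surjective π]
    (h : ∀ t : T, ∃ (V : T.Opens) (r : ↑V ⟶ U), t ∈ V ∧ r ≫ g = V.ι ≫ π) :
    ∃ (Y : Scheme.{u}) (ρ : Y ⟶ S), Surjective ρ ∧ IsFinite ρ ∧ LocallyOfFinitePresentation ρ ∧
      ∀ y : Y, ∃ (V : Y.Opens) (h : ↑V ⟶ U), y ∈ V ∧ h ≫ g = V.ι ≫ ρ := by
  classical
  obtain ⟨I, _, _, _, D, c, hc, hD, ⟨e⟩⟩ := Approx.exists_isLimit_finite_fp π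
  let D' := D ⋙ Over.forget S
  let c' := (Over.forget S).mapCone c
  have hc' : IsLimit c' := isLimitOfPreserves (Over.forget S) hc
  haveI : ∀ i, IsFinite (D.obj i).hom := fun i => (hD i).1
  haveI : ∀ i, LocallyOfFinitePresentation (D.obj i).hom := fun i => (hD i).2
  haveI : ∀ {i j : Iᵒᵖ} (a : i ⟶ j), IsAffineHom (D'.map a) := fun {i j} a => by
    haveI : IsAffineHom ((D.map a).left ≫ (D.obj j).hom) := by rw [Over.w]; infer_instance
    exact MorphismProperty.of_postcomp (W := @IsAffineHom) (W' := @IsSeparated) (D.map a).left (D.obj j).hom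
      inferInstance inferInstance
  haveI : ∀ i, CompactSpace (D'.obj i) := fun i =>
    @QuasiCompact.compactSpace_of_compactSpace (D.obj i).left S (D.obj i).hom _ (by haveI := (hD i).1; infer_instance)
  haveI : ∀ i, QuasiSeparatedSpace (D'.obj i) := fun i =>
    @quasiSeparatedSpace_of_quasiSeparated (D.obj i).left S (D.obj i).hom _ (by haveI := (hD i).1; infer_instance)
  have he : e.hom.left ≫ π = c.pt.hom := Over.w e.hom
  choose V0 r hmem hr using h
  choose V hV hxV hVV using fun t : c'.pt => exists_isAffineOpen_mem_and_subset (x := t)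
    (U := e.hom.left ⁻¹ᵁ V0 (e.hom.left t)) (hmem (e.hom.left t))
  obtain ⟨i, s, W, hW, hWV⟩ := Scheme.exists_isOpenCover_and_isAffine D' c' hc' V
    (IsOpenCover.mk (eq_top_iff.mpr fun t _ => Opens.mem_iSup.mpr ⟨t, hxV t⟩)) hV
  have hstep : ∀ k : s, ∃ (j : Over i) (b : ↑(D'.map j.hom ⁻¹ᵁ W k) ⟶ U),
      b ≫ g = (D'.map j.hom ⁻¹ᵁ W k).ι ≫ (D.obj j.left).hom := by
    intro k
    haveI : IsAffine (W k : Scheme.{u}) := (hWV k).1
    haveI : ∀ j : Over i, IsAffine ((opensDiagram D' i (W k)).obj j) := fun j => (hWV k).1.preimage (D'.map j.hom)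
    let t : opensDiagram D' i (W k) ⟶ (Functor.const (Over i)).obj S :=
      { app := fun j => (D'.map j.hom ⁻¹ᵁ W k).ι ≫ (D.obj j.left).hom
        naturality := fun j j' φ => by
          show ((D'.map φ.left).resLE _ _ _) ≫ (D'.map j'.hom ⁻¹ᵁ W k).ι ≫ (D.obj j'.left).hom = _ ≫ 𝟙 S
          rw [Scheme.Hom.resLE_comp_ι_assoc, Category.comp_id]
          exact congrArg (_ ≫ ·) (Over.w (D.map φ.left)) }
    have hle : c'.π.app i ⁻¹ᵁ W k ≤ e.hom.left ⁻¹ᵁ V0 (e.hom.left k.1) := by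
      rw [← (hWV k).2]; exact hVV k.1
    let a : (opensCone D' c' i (W k)).pt ⟶ U := e.hom.left.resLE _ _ hle ≫ r (e.hom.left k.1)
    obtain ⟨j, b, -, hb⟩ := Scheme.exists_π_app_comp_eq_of_locallyOfFinitePresentation
      (opensDiagram D' i (W k)) t g (opensCone D' c' i (W k)) (isLimitOpensCone D' c' hc' i (W k)) a (by
        ext j
        show (c'.π.app j.left).resLE _ _ _ ≫ (D'.map j.hom ⁻¹ᵁ W k).ι ≫ (D.obj j.left).hom =
          (e.hom.left.resLE _ _ hle ≫ r (e.hom.left k.1)) ≫ g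
        rw [Scheme.Hom.resLE_comp_ι_assoc, Category.assoc, hr, Scheme.Hom.resLE_comp_ι_assoc, he]
        exact congrArg (_ ≫ ·) (Over.w (c.π.app j.left)))
    exact ⟨j, b, hb⟩
  choose j b hb using hstep
  obtain ⟨m, hm⟩ := IsCofiltered.inf_objs_exists (insert (Over.mk (𝟙 i)) (Finset.univ.image j))
  refine ⟨(D.obj m.left).left, (D.obj m.left).hom, ⟨fun x => ?_⟩, inferInstance, inferInstance, fun y => ?_⟩
  · obtain ⟨t, ht⟩ := (e.hom.left ≫ π).surjective x
    refine ⟨c'.π.app m.left t, ?_⟩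
    rw [← ht, he]
    exact congrArg (fun q : c.pt.left ⟶ S => q t) (Over.w (c.π.app m.left))
  · obtain ⟨k, hk⟩ := hW.exists_mem (D'.map m.hom y)
    obtain ⟨φ⟩ := hm (Finset.mem_insert_of_mem (Finset.mem_image_of_mem j (Finset.mem_univ k)))
    have hle : D'.map m.hom ⁻¹ᵁ W k ≤ D'.map φ.left ⁻¹ᵁ (D'.map (j k).hom ⁻¹ᵁ W k) := by
      rw [← Scheme.Hom.comp_preimage, ← D'.map_comp, Over.w φ]
    refine ⟨D'.map m.hom ⁻¹ᵁ W k, (D'.map φ.left).resLE _ _ hle ≫ b k, hk, ?_⟩
    rw [Category.assoc, hb]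
    exact (Scheme.Hom.resLE_comp_ι_assoc _ hle _).trans (congrArg (_ ≫ ·) (Over.w (D.map φ.left)))

/-- The statement for flat covers. -/
theorem main {U S : Scheme.{u}} (g : U ⟶ S) [Flat g] [LocallyOfFinitePresentation g] [Surjective g]
    [CompactSpace S] [QuasiSeparatedSpace S] :
    ∃ (Y : Scheme.{u}) (ρ : Y ⟶ S), Surjective ρ ∧ IsFinite ρ ∧ LocallyOfFinitePresentation ρ ∧
      ∀ y : Y, ∃ (V : Y.Opens) (h : ↑V ⟶ U), y ∈ V ∧ h ≫ g = V.ι ≫ ρ := by
  obtain ⟨T, π, hπs, hπi, hloc⟩ := S1378.result g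
  exact exists_finite g π fun t => by
    obtain ⟨V, r, ht, hr⟩ := hloc t
    exact ⟨V, r, ht, hr⟩

end Groth.Agent.FlatMisc.FiniteSectionCover
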