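import Groth.Agent.FibDim.GenerizeDim
import Groth.Agent.FibDim.RelDim
import Groth.Agent.FibDim.Comp
import Groth.Agent.FibDim.FlatBC
import Groth.Agent.FibDim.Minimal
import Groth.Agent.VarDim.Top
import Mathlib

/-!
# Dimensions of components for flat morphisms of schemes of finite type over a field
-/

set_option autoImplicit false
set_option linter.style.haveILetI false

open AlgebraicGeometry CategoryTheory Limits Topology

namespace Groth.Agent.FlatDims

universe u

variable {X Y : Scheme.{u}}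

/-- A maximal point for the specialization order. -/
def IsMaxPt {α : Type u} [TopologicalSpace α] (x : α) : Prop := ∀ y, y ⤳ x → y = x

theorem exists_maxPt {α : Type u} [TopologicalSpace α] [QuasiSober α] [T0Space α] (x : α) :
    ∃ η, η ⤳ x ∧ IsMaxPt η :=
  FibDim.exists_maximal_generization x

section Flat

variable (f : X ⟶ Y) [Flat f]

theorem isMaxPt_map {w : X} (hw : IsMaxPt w) : IsMaxPt (f w) := fun t ht => by
  obtain ⟨ζ, hζ, rfl⟩ := FibDim.lifts_of_flat_stalk f (x := w) (Flat.stalkMap f w) specializes_rfl ht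
  rw [hw ζ hζ]

/-- Dimensions of fibre components propagate to generizations. -/
theorem exists_fibMax_over [LocallyOfFiniteType f] [IsLocallyNoetherian Y] {z : X} (hz : FibDim.FibMax f z)
    {η : Y} (hη : η ⤳ f z) :
    ∃ w, w ⤳ z ∧ f w = η ∧ FibDim.FibMax f w ∧ FibDim.rd f w = FibDim.rd f z := by
  haveI : LocallyOfFinitePresentation f := LocallyOfFinitePresentation.iff_locallyOfFiniteType.2 ‹_›
  exact FibDim.exists_fibMax_eq_rd f f.isOpenMap hz hη

theorem isMaxPt_of_fibMax {w : X} (hw : FibDim.FibMax f w) (h : IsMaxPt (f w)) : IsMaxPt w :=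
  fun y hy => hw y hy (h _ (hy.map f.continuous))

end Flat

theorem fibMax_of_isMaxPt (f : X ⟶ Y) {w : X} (hw : IsMaxPt w) : FibDim.FibMax f w :=
  FibDim.fibMax_of_maximal f hw

section Field

variable {k : Type u} [Field k] (qX : X ⟶ Spec (CommRingCat.of k)) (qY : Y ⟶ Spec (CommRingCat.of k))

theorem dim_closure [LocallyOfFiniteType qX] (w : X) :
    topologicalKrullDim ↥(closure ({w} : Set X)) = ((VarDim.deg qX w : ℕ∞) : WithBot ℕ∞) :=
  VarDim.topologicalKrullDim_closure_singleton qX w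

theorem components_iff [LocallyOfFiniteType qX] (d : WithBot ℕ∞) :
    (∀ Z ∈ irreducibleComponents (X : Type u), topologicalKrullDim ↥Z = d) ↔
      ∀ w : X, IsMaxPt w → ((VarDim.deg qX w : ℕ∞) : WithBot ℕ∞) = d := by
  constructor
  · intro h w hw
    rw [← dim_closure qX w]
    exact h _ (FDescent.closure_mem_irreducibleComponents hw)
  · intro h Z hZ
    obtain ⟨w, rfl, hw⟩ := FDescent.exists_maximal_of_mem_irreducibleComponents hZ
    rw [dim_closure qX w]
    exact h w hw

theorem deg_eq [LocallyOfFiniteType qY] (f : X ⟶ Y) [LocallyOfFiniteType f] (hf : f ≫ qY = qX) (x : X) :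
    VarDim.deg qX x = VarDim.deg qY (f x) + FibDim.rd f x := by
  have h1 : (VarDim.fdeg f x : Cardinal) = FibDim.rd f x := by
    rw [VarDim.fdeg_eq_rdeg f qY, FibDim.rd_eq_rdeg]
  rw [VarDim.deg_eq_add f qY hf, Nat.cast_inj.1 h1]

theorem locallyOfFiniteType_of_comp' [LocallyOfFiniteType qX] (f : X ⟶ Y) (hf : f ≫ qY = qX) :
    LocallyOfFiniteType f := by
  subst hf
  exact locallyOfFiniteType_of_comp f qY

theorem fibre_iff (f : X ⟶ Y) [LocallyOfFiniteType f] (n : ℕ) :
    (∀ (y : Y) (Z : Set ↥(f.fiber y)), Z ∈ irreducibleComponents ↥(f.fiber y) →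
        topologicalKrullDim ↥Z = (n : WithBot ℕ∞)) ↔
      ∀ z : X, FibDim.FibMax f z → FibDim.rd f z = n := by
  constructor
  · intro h z hz
    have h1 : ((FibDim.rd f z : ℕ∞) : WithBot ℕ∞) ∈
        (fun Z : Set ↥(f.fiber (f z)) => topologicalKrullDim ↥Z) '' irreducibleComponents ↥(f.fiber (f z)) := by
      rw [FibDim.fiber_component_dims f (f z)]
      exact ⟨z, ⟨rfl, hz⟩, rfl⟩
    obtain ⟨Z, hZ, hd⟩ := h1
    have := hd.symm.trans (h _ Z hZ)
    exact_mod_cast this
  · intro h y Z hZ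
    have h1 : topologicalKrullDim ↥Z ∈
        (fun z => ((FibDim.rd f z : ℕ∞) : WithBot ℕ∞)) '' {z : X | f z = y ∧ FibDim.FibMax f z} := by
      rw [← FibDim.fiber_component_dims f y]
      exact ⟨Z, hZ, rfl⟩
    obtain ⟨z, ⟨-, hz⟩, hd⟩ := h1
    rw [← hd]
    show ((FibDim.rd f z : ℕ∞) : WithBot ℕ∞) = n
    rw [h z hz]
    rfl

/-- The main equivalence. -/
theorem components_iff_fibres [LocallyOfFiniteType qX] [LocallyOfFiniteType qY] (f : X ⟶ Y) [Flat f]
    (hf : f ≫ qY = qX) (d n : ℕ) (hY : ∀ η : Y, IsMaxPt η → VarDim.deg qY η = d) :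
    (∀ Z ∈ irreducibleComponents (X : Type u), topologicalKrullDim ↥Z = ((d + n : ℕ) : WithBot ℕ∞)) ↔
      ∀ (y : Y) (Z : Set ↥(f.fiber y)), Z ∈ irreducibleComponents ↥(f.fiber y) →
        topologicalKrullDim ↥Z = (n : WithBot ℕ∞) := by
  haveI := locallyOfFiniteType_of_comp' qX qY f hf
  haveI : IsLocallyNoetherian Y := LocallyOfFiniteType.isLocallyNoetherian qY
  rw [components_iff qX, fibre_iff f n]
  constructor
  · intro h z hz
    obtain ⟨η, hη, hηm⟩ := exists_maxPt (f z)
    obtain ⟨w, -, rfl, hwm, hwr⟩ := exists_fibMax_over f hz hη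
    have h1 := h w (isMaxPt_of_fibMax f hwm hηm)
    rw [deg_eq qX qY f hf, hY _ hηm, hwr] at h1
    have h2 : d + FibDim.rd f z = d + n := by exact_mod_cast h1
    omega
  · intro h w hw
    rw [deg_eq qX qY f hf, hY _ (isMaxPt_map f hw), h w (fibMax_of_isMaxPt f hw)]
    rfl

/-- Components of the preimage of an irreducible closed set after base change. -/
theorem component_preimage [LocallyOfFiniteType qX] [LocallyOfFiniteType qY] (f : X ⟶ Y) [Flat f]
    (hf : f ≫ qY = qX) (n : ℕ) (hn : ∀ z : X, FibDim.FibMax f z → FibDim.rd f z = n)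
    {X' Y' : Scheme.{u}} (qY' : Y' ⟶ Spec (CommRingCat.of k)) [LocallyOfFiniteType qY']
    {p : X' ⟶ X} {q : X' ⟶ Y'} {g : Y' ⟶ Y} (h : IsPullback p q f g)
    (V : Set ↥Y') (hV : IsClosed V) (hVirr : IsIrreducible V)
    (W : Set ↥(q.base ⁻¹' V)) (hW : W ∈ irreducibleComponents ↥(q.base ⁻¹' V)) :
    topologicalKrullDim ↥W = topologicalKrullDim ↥V + (n : WithBot ℕ∞) := by
  haveI := locallyOfFiniteType_of_comp' qX qY f hf
  haveI : LocallyOfFiniteType q := MorphismProperty.of_isPullback h ‹_›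
  haveI : Flat q := MorphismProperty.of_isPullback h ‹_›
  have hcl : IsClosed (q.base ⁻¹' V) := hV.preimage q.continuous
  haveI : QuasiSober ↥(q.base ⁻¹' V) := hcl.isClosedEmbedding_subtypeVal.quasiSober
  obtain ⟨w, rfl, hw⟩ := FDescent.exists_maximal_of_mem_irreducibleComponents hW
  obtain ⟨v, hv⟩ := QuasiSober.sober hVirr hV
  have hvw : v ⤳ q w.1 := specializes_iff_mem_closure.2 (by rw [hv.def]; exact w.2)
  obtain ⟨ζ, hζ, hqζ⟩ := FibDim.lifts_of_flat_stalk q (x := w.1) (Flat.stalkMap q w.1) specializes_rfl hvw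
  have hζV : ζ ∈ q.base ⁻¹' V := by
    show q ζ ∈ V
    rw [hqζ]; exact hv.mem
  have hζw := hw ⟨ζ, hζV⟩ ((subtype_specializes_iff _ _).2 hζ)
  have hqw : q w.1 = v := by rw [← congrArg Subtype.val hζw]; exact hqζ
  have hm : FibDim.FibMax q w.1 := fun y hy hfy => by
    have hyV : y ∈ q.base ⁻¹' V := by show q y ∈ V; rw [hfy]; exact w.2
    exact congrArg Subtype.val (hw ⟨y, hyV⟩ ((subtype_specializes_iff _ _).2 hy))
  have hrd : FibDim.rd q w.1 = n := by
    have h1 := FibDim.fibreDimAt_baseChange h w.1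
    have hm' := FibDim.fibMax_of_baseChange h hm
    rw [FibDim.fibreDimAt_eq_rd q hm, FibDim.fibreDimAt_eq_rd f hm', hn _ hm'] at h1
    exact_mod_cast h1
  have hVd : topologicalKrullDim ↥V = ((VarDim.deg qY' v : ℕ∞) : WithBot ℕ∞) := by
    rw [← dim_closure qY' v]
    exact ((Homeomorph.setCongr hv.def.symm)).isHomeomorph.topologicalKrullDim_eq
  have hWd : topologicalKrullDim ↥(closure ({w} : Set ↥(q.base ⁻¹' V))) =
      ((VarDim.deg (q ≫ qY') w.1 : ℕ∞) : WithBot ℕ∞) := by
    rw [← dim_closure (q ≫ qY') w.1]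
    refine (((IsEmbedding.subtypeVal.homeomorphImage _).trans
      (Homeomorph.setCongr ?_))).isHomeomorph.topologicalKrullDim_eq
    rw [← hcl.isClosedEmbedding_subtypeVal.closure_image_eq, Set.image_singleton]
  rw [hWd, hVd, deg_eq (q ≫ qY') qY' q rfl w.1, hqw, hrd]
  rfl

end Field

end Groth.Agent.FlatDims
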