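import Mathlib
import Groth.Agent.EGA41Lib.ConsX

/-! A separated flat morphism of finite type which is an isomorphism over a schematically dense open. -/

set_option autoImplicit false
set_option backward.isDefEq.respectTransparency.types false

universe u

open AlgebraicGeometry CategoryTheory Limits TopologicalSpace Topology

namespace Groth.Agent.FlatMisc.FlatIsoDense

variable {X S : Scheme.{u}} (f : X ⟶ S) (U : S.Opens)

/-- An iso over a schematically dense open and separated flat is a monomorphism. -/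
theorem mono [IsSeparated f] [Flat f] [QuasiCompact U.ι] [IsSchemeTheoreticallyDominant U.ι] [IsIso (f ∣_ U)] :
    Mono f := by
  let p := pullback.fst f f ≫ f
  haveI : Flat p := inferInstance
  have hH := IsPullback.of_hasPullback U.ι p
  haveI : IsSchemeTheoreticallyDominant (pullback.snd U.ι p) := inferInstance
  haveI : Mono (f ∣_ U) := inferInstance
  -- the two projections agree over `U`
  have hagree : pullback.snd U.ι p ≫ pullback.fst f f = pullback.snd U.ι p ≫ pullback.snd f f := by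
    have hU := isPullback_morphismRestrict f U
    have h1 : (pullback.snd U.ι p ≫ pullback.fst f f) ≫ f = pullback.fst U.ι p ≫ U.ι := by
      rw [Category.assoc]; exact pullback.condition.symm
    have h2 : (pullback.snd U.ι p ≫ pullback.snd f f) ≫ f = pullback.fst U.ι p ≫ U.ι := by
      rw [Category.assoc, ← pullback.condition (f := f) (g := f), ← Category.assoc]; exact h1
    let a := hU.lift (pullback.fst U.ι p) (pullback.snd U.ι p ≫ pullback.fst f f) h1.symm
    let b := hU.lift (pullback.fst U.ι p) (pullback.snd U.ι p ≫ pullback.snd f f) h2.symm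
    have hab : a = b := by
      rw [← cancel_mono (f ∣_ U)]
      simp [a, b]
    rw [← hU.lift_snd (pullback.fst U.ι p) (pullback.snd U.ι p ≫ pullback.fst f f) h1.symm,
      ← hU.lift_snd (pullback.fst U.ι p) (pullback.snd U.ι p ≫ pullback.snd f f) h2.symm]
    exact congrArg (· ≫ _) hab
  -- hence the diagonal is schematically dominant
  let Δ := pullback.diagonal f
  haveI : IsClosedImmersion Δ := inferInstance
  have hfac : (pullback.snd U.ι p ≫ pullback.fst f f) ≫ Δ = pullback.snd U.ι p := by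
    apply pullback.hom_ext
    · simp [Δ]
    · simp only [Δ, Category.assoc, pullback.diagonal_snd, Category.comp_id]
      exact hagree
  have hker : Δ.ker = ⊥ := le_bot_iff.mp <| by
    calc Δ.ker ≤ ((pullback.snd U.ι p ≫ pullback.fst f f) ≫ Δ).ker := Scheme.Hom.le_ker_comp _ _
      _ = ⊥ := by rw [hfac]; exact Scheme.Hom.ker_eq_bot _
  haveI : IsIso Δ := IsClosedImmersion.isIso_of_ker_eq Δ (𝟙 _) Δ (Category.comp_id _)
    (hker.trans (Scheme.Hom.ker_eq_bot _).symm)
  exact (pullback.isIso_diagonal_iff f).mp inferInstance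

/-- The stalk maps of a flat monomorphism are isomorphisms. -/
theorem isIso_stalkMap [Flat f] [Mono f] (x : X) : IsIso (f.stalkMap x) := by
  rw [ConcreteCategory.isIso_iff_bijective]
  refine isIso_SpecMap_iff.mp ?_
  let σ := Spec.map (f.stalkMap x)
  haveI : Mono (σ ≫ S.fromSpecStalk (f x)) := by
    rw [Scheme.SpecMap_stalkMap_fromSpecStalk]; infer_instance
  haveI : Mono σ := mono_of_mono σ (S.fromSpecStalk (f x))
  haveI : Flat σ := (HasRingHomProperty.Spec_iff (P := @Flat)).mpr (Flat.iff_flat_stalkMap f |>.mp inferInstance x)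
  haveI : Surjective σ := ⟨by
    letI := (f.stalkMap x).hom.toAlgebra
    haveI : Module.Flat (S.presheaf.stalk (f x)) (X.presheaf.stalk x) := Flat.iff_flat_stalkMap f |>.mp inferInstance x
    haveI : IsLocalHom (algebraMap (S.presheaf.stalk (f x)) (X.presheaf.stalk x)) :=
      inferInstanceAs (IsLocalHom (f.stalkMap x).hom)
    haveI := Module.FaithfullyFlat.of_flat_of_isLocalHom (A := S.presheaf.stalk (f x)) (B := X.presheaf.stalk x)
    exact PrimeSpectrum.comap_surjective_of_faithfullyFlat⟩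
  exact Flat.isIso_of_surjective_of_mono σ

/-- Surjectivity on a stalk spreads out to a basic open. -/
theorem exists_surjective {A B : Type u} [CommRing A] [CommRing B] [Algebra A B] [Algebra.FiniteType A B]
    (q : Ideal B) [q.IsPrime]
    (hsur : Function.Surjective (Localization.localRingHom (q.comap (algebraMap A B)) q (algebraMap A B) rfl)) :
    ∃ (h : A) (c : B), h ∉ q.comap (algebraMap A B) ∧ c ∉ q ∧ IsUnit (algebraMap B (Localization.Away c) (algebraMap A B h)) ∧
      ∀ y : Localization.Away c, ∃ (a : A) (n : ℕ),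
        y * algebraMap A (Localization.Away c) h ^ n = algebraMap A (Localization.Away c) a := by
  classical
  let p := q.comap (algebraMap A B)
  obtain ⟨s, hs⟩ := ‹Algebra.FiniteType A B›.1
  have hfr : ∀ b : B, ∃ a h' : A, ∃ u : B, h' ∉ p ∧ u ∉ q ∧ u * (b * algebraMap A B h') = u * algebraMap A B a := by
    intro b
    obtain ⟨z, hz⟩ := hsur (algebraMap B (Localization.AtPrime q) b)
    obtain ⟨a, h', rfl⟩ := IsLocalization.exists_mk'_eq p.primeCompl z
    rw [Localization.localRingHom_mk', IsLocalization.mk'_eq_iff_eq_mul, ← map_mul] at hz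
    obtain ⟨u, hu⟩ := (IsLocalization.eq_iff_exists q.primeCompl _).mp hz
    exact ⟨a, h', u, h'.2, u.2, hu.symm⟩
  choose a h' u hh' hu heq using hfr
  let h0 := ∏ b ∈ s, h' b
  let c0 := (∏ b ∈ s, u b) * algebraMap A B h0
  have hh0 : h0 ∉ p := fun hmem => by
    obtain ⟨b, -, hb⟩ := (Ideal.IsPrime.prod_mem_iff).mp hmem
    exact hh' b hb
  have hc0 : c0 ∉ q := fun hmem => by
    rcases ‹q.IsPrime›.mem_or_mem hmem with h1 | h1
    · obtain ⟨b, -, hb⟩ := (Ideal.IsPrime.prod_mem_iff).mp h1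
      exact hu b hb
    · exact hh0 h1
  -- numerators over `B[1/c0]`
  have key : ∀ b : B, ∃ (r : A) (n k : ℕ), c0 ^ k * (b * algebraMap A B h0 ^ n) = c0 ^ k * algebraMap A B r := by
    intro b
    have hb : b ∈ Algebra.adjoin A (s : Set B) := hs ▸ trivial
    induction hb using Algebra.adjoin_induction with
    | mem b hb =>
      obtain ⟨d, hd⟩ : u b ∣ c0 := (Finset.dvd_prod_of_mem u hb).trans (dvd_mul_right _ _)
      obtain ⟨d', hd'⟩ : h' b ∣ h0 := Finset.dvd_prod_of_mem h' hb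
      refine ⟨a b * d', 1, 1, ?_⟩
      rw [pow_one, pow_one, hd, hd', map_mul, map_mul]
      linear_combination (d * algebraMap A B d') * heq b
    | algebraMap r => exact ⟨r, 0, 0, by rw [pow_zero, pow_zero, mul_one]⟩
    | add x y _ _ hx hy =>
      obtain ⟨r, n, k, hr⟩ := hx
      obtain ⟨r', n', k', hr'⟩ := hy
      refine ⟨r * h0 ^ n' + r' * h0 ^ n, n + n', k + k', ?_⟩
      rw [map_add, map_mul, map_mul, map_pow, map_pow, pow_add, pow_add]
      linear_combination (c0 ^ k' * algebraMap A B h0 ^ n') * hr + (c0 ^ k * algebraMap A B h0 ^ n) * hr'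
    | mul x y _ _ hx hy =>
      obtain ⟨r, n, k, hr⟩ := hx
      obtain ⟨r', n', k', hr'⟩ := hy
      refine ⟨r * r', n + n', k + k', ?_⟩
      rw [map_mul, pow_add, pow_add]
      linear_combination (c0 ^ k' * y * algebraMap A B h0 ^ n') * hr + (c0 ^ k * algebraMap A B r) * hr'
  obtain ⟨r0, n0, k0, hr0⟩ := key c0
  have hr0p : algebraMap A B r0 ∉ q := fun hmem => by
    have h1 : c0 ^ k0 * (c0 * algebraMap A B h0 ^ n0) ∈ q := by rw [hr0]; exact q.mul_mem_left _ hmem
    rcases ‹q.IsPrime›.mem_or_mem h1 with h2 | h2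
    · exact hc0 (‹q.IsPrime›.mem_of_pow_mem _ h2)
    · rcases ‹q.IsPrime›.mem_or_mem h2 with h3 | h3
      · exact hc0 h3
      · exact hh0 (‹q.IsPrime›.mem_of_pow_mem _ h3)
  let h := h0 * r0
  let c := c0 * algebraMap A B r0
  have hh : h ∉ p := fun hmem => by
    rcases (inferInstance : p.IsPrime).mem_or_mem hmem with h1 | h1
    · exact hh0 h1
    · exact hr0p h1
  have hc : c ∉ q := fun hmem => by
    rcases ‹q.IsPrime›.mem_or_mem hmem with h1 | h1
    · exact hc0 h1
    · exact hr0p h1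
  let Bc := Localization.Away c
  let θ : A →+* Bc := algebraMap A Bc
  have hθ : ∀ r, θ r = algebraMap B Bc (algebraMap A B r) := fun r => IsScalarTower.algebraMap_apply A B Bc r
  have hcu : IsUnit (algebraMap B Bc c) := IsLocalization.Away.algebraMap_isUnit c
  rw [map_mul, IsUnit.mul_iff] at hcu
  have hh0u : IsUnit (θ h0) := by
    have := hcu.1; rw [map_mul, IsUnit.mul_iff] at this; rw [hθ]; exact this.2
  have hr0u : IsUnit (θ r0) := by rw [hθ]; exact hcu.2
  have hhu : IsUnit (θ h) := by rw [map_mul]; exact hh0u.mul hr0u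
  refine ⟨h, c, hh, hc, hθ h ▸ hhu, ?_⟩
  have hB : ∀ b : B, ∃ (r : A) (n : ℕ), algebraMap B Bc b * θ h ^ n = θ r := by
    intro b
    obtain ⟨r, n, k, hr⟩ := key b
    refine ⟨r * r0 ^ n, n, ?_⟩
    have h1 : algebraMap B Bc b * θ h0 ^ n = θ r := by
      refine (hcu.1.pow k).mul_left_cancel ?_
      rw [hθ, hθ, ← map_pow, ← map_pow, ← map_mul, ← map_mul, ← map_mul, hr]
    rw [map_mul, mul_pow, ← mul_assoc, h1, map_mul, map_pow]
  have hc0' : algebraMap B Bc c0 * θ h0 ^ n0 = θ r0 := by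
    refine (hcu.1.pow k0).mul_left_cancel ?_
    rw [hθ, hθ, ← map_pow, ← map_pow, ← map_mul, ← map_mul, ← map_mul, hr0]
  -- the inverse of `c`
  have hcinv : ∀ n : ℕ, ∃ (r : A) (m : ℕ), algebraMap B Bc c ^ n * θ r = θ h ^ m := by
    intro n
    refine ⟨(h0 ^ (n0 + 2)) ^ n, 2 * n, ?_⟩
    rw [map_mul, ← hθ, map_pow, map_pow, ← mul_pow, pow_mul, map_mul θ h0 r0, mul_pow (θ h0) (θ r0)]
    congr 1
    rw [pow_add]
    linear_combination (θ r0 * θ h0 ^ 2) * hc0'
  intro y
  obtain ⟨b, ⟨_, n, rfl⟩, rfl⟩ := IsLocalization.exists_mk'_eq (Submonoid.powers c) y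
  obtain ⟨r, m, hr⟩ := hcinv n
  obtain ⟨r', m', hr'⟩ := hB b
  refine ⟨r' * r, m' + m, ?_⟩
  have hspec := IsLocalization.mk'_spec Bc b (⟨c ^ n, n, rfl⟩ : Submonoid.powers c)
  rw [map_pow] at hspec
  show IsLocalization.mk' Bc b (⟨c ^ n, n, rfl⟩ : Submonoid.powers c) * θ h ^ (m' + m) = θ (r' * r)
  rw [map_mul θ r' r, ← hr', pow_add, ← hr, ← hspec]
  ring

/-- The local picture: an open neighbourhood on which `f` is an open immersion. -/
theorem exists_nbhd [LocallyOfFiniteType f] [Flat f] [Mono f] [QuasiCompact U.ι]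
    [IsSchemeTheoreticallyDominant U.ι] [IsIso (f ∣_ U)] (x : X) :
    ∃ V : X.Opens, x ∈ V ∧ IsOpenImmersion (V.ι ≫ f) := by
  classical
  obtain ⟨W, hW, hxW, -⟩ := exists_isAffineOpen_mem_and_subset (x := f x) (U := ⊤) trivial
  obtain ⟨V, hV, hxV, hVW⟩ := exists_isAffineOpen_mem_and_subset (x := x) (U := f ⁻¹ᵁ W) hxW
  let φ := f.appLE W V hVW
  letI := φ.hom.toAlgebra
  haveI : Algebra.FiniteType Γ(S, W) Γ(X, V) := f.finiteType_appLE hW hV hVW
  let q := hV.primeIdealOf ⟨x, hxV⟩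
  have hbij : Function.Surjective (Localization.localRingHom (q.asIdeal.comap (algebraMap Γ(S, W) Γ(X, V)))
      q.asIdeal (algebraMap Γ(S, W) Γ(X, V)) rfl) := by
    haveI := isIso_stalkMap f x
    have hq : hV.fromSpec q = x := hV.fromSpec_primeIdealOf ⟨x, hxV⟩
    haveI : IsOpenImmersion hV.fromSpec := inferInstance
    have hsq : Spec.map φ ≫ hW.fromSpec = hV.fromSpec ≫ f := hW.SpecMap_appLE_fromSpec f hV hVW
    haveI : Mono (Spec.map φ) := by
      haveI : Mono (Spec.map φ ≫ hW.fromSpec) := hsq ▸ inferInstance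
      exact mono_of_mono _ hW.fromSpec
    haveI : Flat (Spec.map φ) := (HasRingHomProperty.Spec_iff (P := @Flat)).mpr (f.flat_appLE hW hV hVW)
    haveI := isIso_stalkMap (Spec.map φ) q
    have := ((MorphismProperty.isomorphisms CommRingCat.{u}).arrow_mk_iso_iff
      (Scheme.arrowStalkMapSpecIso φ q)).mp (inferInstance : IsIso ((Spec.map φ).stalkMap q))
    exact ((ConcreteCategory.isIso_iff_bijective _).mp this).2
  obtain ⟨h, c, hhp, hcq, hhu, hsurj⟩ := exists_surjective q.asIdeal hbij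
  let Ah := Localization.Away h
  let Bc := Localization.Away c
  let ψ : Ah →+* Bc := IsLocalization.Away.lift h (g := (algebraMap Γ(X, V) Bc).comp φ.hom) hhu
  have hψ : ψ.comp (algebraMap Γ(S, W) Ah) = (algebraMap Γ(X, V) Bc).comp φ.hom := IsLocalization.Away.lift_comp h hhu
  have hψs : Function.Surjective ψ := by
    intro y
    obtain ⟨a, n, ha⟩ := hsurj y
    refine ⟨algebraMap Γ(S, W) Ah a * IsLocalization.Away.invSelf h ^ n, ?_⟩
    have h1 : ψ (IsLocalization.Away.invSelf h) * algebraMap Γ(S, W) Bc h = 1 := by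
      rw [IsScalarTower.algebraMap_apply Γ(S, W) Γ(X, V) Bc]
      show ψ _ * ((algebraMap Γ(X, V) Bc).comp φ.hom) h = 1
      rw [← hψ, RingHom.comp_apply, ← map_mul, mul_comm, IsLocalization.Away.mul_invSelf, map_one]
    rw [map_mul, map_pow, show ψ (algebraMap Γ(S, W) Ah a) = algebraMap Γ(S, W) Bc a from RingHom.congr_fun hψ a,
      ← ha, mul_assoc, ← mul_pow, mul_comm (algebraMap Γ(S, W) Bc h), h1, one_pow, mul_one]
  let D := Spec (CommRingCat.of Ah)
  let Z := Spec (CommRingCat.of Bc)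
  let i : Z ⟶ D := Spec.map (CommRingCat.ofHom ψ)
  haveI : IsClosedImmersion i := IsClosedImmersion.spec_of_surjective _ hψs
  let jD : D ⟶ S := Spec.map (CommRingCat.ofHom (algebraMap Γ(S, W) Ah)) ≫ hW.fromSpec
  let jZ : Z ⟶ X := Spec.map (CommRingCat.ofHom (algebraMap Γ(X, V) Bc)) ≫ hV.fromSpec
  haveI : IsOpenImmersion (Spec.map (CommRingCat.ofHom (algebraMap Γ(S, W) Ah))) := IsOpenImmersion.of_isLocalization h
  haveI : IsOpenImmersion (Spec.map (CommRingCat.ofHom (algebraMap Γ(X, V) Bc))) := IsOpenImmersion.of_isLocalization c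
  haveI : IsOpenImmersion jD := inferInstance
  haveI : IsOpenImmersion jZ := inferInstance
  have hcomm : i ≫ jD = jZ ≫ f := by
    show _ = (Spec.map _ ≫ hV.fromSpec) ≫ f
    rw [Category.assoc, ← hW.SpecMap_appLE_fromSpec f hV hVW, ← Category.assoc, ← Category.assoc,
      ← Spec.map_comp, ← Spec.map_comp,
      show CommRingCat.ofHom (algebraMap Γ(S, W) Ah) ≫ CommRingCat.ofHom ψ = φ ≫ CommRingCat.ofHom (algebraMap Γ(X, V) Bc) from
        CommRingCat.hom_ext hψ]
  haveI : Flat i := by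
    haveI : Flat (i ≫ jD) := hcomm ▸ inferInstance
    exact MorphismProperty.of_postcomp (W := @Flat) (W' := @IsOpenImmersion) i jD inferInstance inferInstance
  -- a point over `x`
  obtain ⟨z, hz⟩ : x ∈ Set.range jZ := by
    have h1 : q ∈ (PrimeSpectrum.basicOpen c : Set (PrimeSpectrum Γ(X, V))) := hcq
    rw [← PrimeSpectrum.localization_away_comap_range Bc c] at h1
    obtain ⟨w, hw⟩ := h1
    exact ⟨w, by
      show hV.fromSpec (PrimeSpectrum.comap _ w) = x
      erw [hw]
      exact hV.fromSpec_primeIdealOf ⟨x, hxV⟩⟩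
  let UD := jD ⁻¹ᵁ U
  haveI : QuasiCompact UD.ι := MorphismProperty.of_isPullback (isPullback_morphismRestrict jD U) inferInstance
  have hUDc : IsCompact (UD : Set D) := by
    rw [← Scheme.Opens.range_ι]
    haveI : CompactSpace UD := QuasiCompact.compactSpace_of_compactSpace UD.ι
    exact isCompact_range UD.ι.continuous
  haveI hres : IsHomeomorph (f ∣_ U) := (asIso (f ∣_ U)).hom.homeomorph.isHomeomorph
  -- the part of `U` covered by `i` is open
  have hopen : IsOpen (Set.range i ∩ (UD : Set D)) := by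
    have h1 : Set.range i ∩ (UD : Set D) =
        jD ⁻¹' (Subtype.val '' ((f ∣_ U) '' ((f ⁻¹ᵁ U).ι ⁻¹' Set.range jZ))) := by
      ext d
      constructor
      · rintro ⟨⟨w, rfl⟩, hd⟩
        have hw : f (jZ w) ∈ U := by
          rw [← Scheme.Hom.comp_apply, ← hcomm, Scheme.Hom.comp_apply]; exact hd
        refine ⟨(f ∣_ U) ⟨jZ w, hw⟩, ⟨⟨jZ w, hw⟩, ⟨w, rfl⟩, rfl⟩, ?_⟩
        rw [morphismRestrict_base_coe, ← Scheme.Hom.comp_apply i, hcomm]; rfl
      · rintro ⟨_, ⟨v, ⟨w, hw⟩, rfl⟩, hd⟩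
        rw [morphismRestrict_base_coe] at hd
        refine ⟨⟨w, jD.isOpenEmbedding.injective ?_⟩, show jD d ∈ U from hd ▸ v.2⟩
        rw [← hd, ← Scheme.Hom.comp_apply, hcomm, Scheme.Hom.comp_apply, hw]; rfl
    rw [h1]
    exact ((U.isOpen.isOpenEmbedding_subtypeVal.isOpenMap _
      (hres.isOpenMap _ (jZ.isOpenEmbedding.isOpen_range.preimage (f ⁻¹ᵁ U).ι.continuous)))).preimage jD.continuous
  let T : Set D := (UD : Set D) \ Set.range i
  have hTo : IsOpen T := UD.isOpen.sdiff i.isClosedEmbedding.isClosed_range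
  have hTc : IsCompact T := by
    have h1 : T = (UD : Set D) ∩ (Set.range i ∩ (UD : Set D))ᶜ := by ext d; simp [T]; tauto
    rw [h1]
    exact hUDc.inter_right hopen.isClosed_compl
  have hzT : i z ∉ closure T := by
    intro hmem
    have hpro : ProCons.IsProConstructible T :=
      (EGA41Lib.lc_iff.mp (hTc.isConstructible hTo).isLocallyConstructible).2
    obtain ⟨t, ht, htz⟩ := ProConsLib.exists_specializes_of_mem_closure hpro hmem
    obtain ⟨w, -, hw⟩ := Flat.generalizingMap i htz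
    exact ht.2 ⟨w, hw⟩
  let D' : D.Opens := ⟨(closure T)ᶜ, isClosed_closure.isOpen_compl⟩
  -- `i` is an isomorphism over `D'`
  haveI : IsClosedImmersion (i ∣_ D') := inferInstance
  let P := pullback U.ι (D'.ι ≫ jD)
  haveI : IsSchemeTheoreticallyDominant (pullback.snd U.ι (D'.ι ≫ jD)) := inferInstance
  let σ : P ⟶ X := pullback.fst U.ι (D'.ι ≫ jD) ≫ inv (f ∣_ U) ≫ (f ⁻¹ᵁ U).ι
  have hσ : σ ≫ f = pullback.snd U.ι (D'.ι ≫ jD) ≫ D'.ι ≫ jD := by
    simp only [σ, Category.assoc]
    rw [← morphismRestrict_ι, IsIso.inv_hom_id_assoc, pullback.condition]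
  have hσZ : Set.range σ ⊆ Set.range jZ := by
    rintro _ ⟨w, rfl⟩
    let d := (pullback.snd U.ι (D'.ι ≫ jD) ≫ D'.ι) w
    have hd : jD d = f (σ w) := by
      rw [← Scheme.Hom.comp_apply σ, hσ]; rfl
    have hdU : d ∈ UD := by
      show jD d ∈ U
      have h1 := congrArg (fun m : P ⟶ S => m w) (pullback.condition (f := U.ι) (g := D'.ι ≫ jD))
      have h2 : jD d = U.ι (pullback.fst U.ι (D'.ι ≫ jD) w) := h1.symm
      rw [h2]
      exact (pullback.fst U.ι (D'.ι ≫ jD) w).2
    have hdD : d ∈ D' := ((pullback.snd U.ι (D'.ι ≫ jD)) w).2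
    obtain ⟨e, he⟩ : d ∈ Set.range i := by
      by_contra hn
      exact hdD (subset_closure ⟨hdU, hn⟩)
    refine ⟨e, f.injective ?_⟩
    rw [← hd, ← he, ← Scheme.Hom.comp_apply, ← hcomm]; rfl
  let σ' := IsOpenImmersion.lift jZ σ hσZ
  have hσ' : σ' ≫ i = pullback.snd U.ι (D'.ι ≫ jD) ≫ D'.ι := by
    rw [← cancel_mono jD, Category.assoc, hcomm, IsOpenImmersion.lift_fac_assoc, hσ, Category.assoc]
  let σ'' := (isPullback_morphismRestrict i D').lift (pullback.snd U.ι (D'.ι ≫ jD)) σ' hσ'.symm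
  have hker : (i ∣_ D').ker = ⊥ := le_bot_iff.mp <| by
    calc (i ∣_ D').ker ≤ (σ'' ≫ i ∣_ D').ker := Scheme.Hom.le_ker_comp _ _
      _ = ⊥ := by rw [IsPullback.lift_fst]; exact Scheme.Hom.ker_eq_bot _
  haveI : IsIso (i ∣_ D') := IsClosedImmersion.isIso_of_ker_eq (i ∣_ D') (𝟙 _) (i ∣_ D') (Category.comp_id _)
    (hker.trans (Scheme.Hom.ker_eq_bot _).symm)
  refine ⟨jZ ''ᵁ (i ⁻¹ᵁ D'), ⟨z, hzT, hz⟩, ?_⟩
  have e : (jZ.isoImage (i ⁻¹ᵁ D')).hom ≫ (jZ ''ᵁ (i ⁻¹ᵁ D')).ι = (i ⁻¹ᵁ D').ι ≫ jZ := Scheme.Hom.isoImage_hom_ι _ _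
  have e2 : (jZ ''ᵁ (i ⁻¹ᵁ D')).ι ≫ f = (jZ.isoImage (i ⁻¹ᵁ D')).inv ≫ (i ∣_ D') ≫ D'.ι ≫ jD := by
    rw [Iso.eq_inv_comp, ← Category.assoc, e, Category.assoc, ← hcomm, morphismRestrict_ι_assoc]
  rw [e2]
  infer_instance

/-- The statement. -/
theorem isOpenImmersion [IsSeparated f] [LocallyOfFiniteType f] [Flat f] [QuasiCompact U.ι]
    [IsSchemeTheoreticallyDominant U.ι] [IsIso (f ∣_ U)] : IsOpenImmersion f := by
  haveI := mono f U
  choose V hxV hV using exists_nbhd f U
  haveI : LocallyOfFinitePresentation f :=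
    IsZariskiLocalAtSource.of_iSup_eq_top (P := @LocallyOfFinitePresentation) V
      (eq_top_iff.mpr fun x _ => Opens.mem_iSup.mpr ⟨x, hxV x⟩) (fun x => haveI := hV x; inferInstance)
  exact IsOpenImmersion.of_flat_of_mono f

end Groth.Agent.FlatMisc.FlatIsoDense
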