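import Mathlib

/-!
The generic fibre of a flat scheme over an integral scheme is schematically dense.
-/

set_option autoImplicit false

universe u

open CategoryTheory CategoryTheory.Limits AlgebraicGeometry TensorProduct

namespace Groth.Agent.GenFibreDense

/-- A flat ring map admits a cocone over an injective one with injective leg. -/
lemma exists_injective_pushout {A B K : CommRingCat.{u}} (φ : A ⟶ B) (ψ : A ⟶ K)
    (hφ : φ.hom.Flat) (hψ : Function.Injective ψ.hom) :
    ∃ (P : CommRingCat.{u}) (iL : B ⟶ P) (iR : K ⟶ P),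
      φ ≫ iL = ψ ≫ iR ∧ Function.Injective iL.hom := by
  algebraize [φ.hom, ψ.hom]
  exact ⟨CommRingCat.of (B ⊗[A] K), CommRingCat.ofHom Algebra.TensorProduct.includeLeftRingHom,
    CommRingCat.ofHom Algebra.TensorProduct.includeRight.toRingHom,
    by ext a; exact Algebra.TensorProduct.tmul_one_eq_one_tmul a,
    Algebra.TensorProduct.includeLeft_injective (S := A) hψ⟩

variable {T Y : Scheme.{u}} [IsIntegral T] (pY : Y ⟶ T) [Flat pY]

/-- On an affine open of `Y` over an affine open of `T`, functions vanishing on the generic fibre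
vanish. -/
theorem app_injective {V : T.Opens} (hV : IsAffineOpen V) {U : Y.Opens} (hU : IsAffineOpen U)
    (hUV : U ≤ pY ⁻¹ᵁ V) :
    Function.Injective
      ((pullback.fst pY (T.fromSpecStalk (genericPoint T))).app U).hom := by
  intro b₁ b₂ hb
  by_cases hne : Nonempty V
  swap
  · have hU0 : U = ⊥ := by
      ext y
      simp only [TopologicalSpace.Opens.coe_bot, Set.mem_empty_iff_false, iff_false]
      exact fun hy ↦ hne ⟨⟨pY y, hUV hy⟩⟩
    subst hU0
    exact Subsingleton.elim _ _
  have hη : genericPoint T ∈ V :=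
    ((genericPoint_spec T).mem_open_set_iff V.2).mpr
      (by obtain ⟨⟨v, hv⟩⟩ := hne; exact ⟨v, trivial, hv⟩)
  set η := genericPoint T
  set φ := pY.appLE V U hUV
  set ψ := T.presheaf.germ V η hη
  have hflat : φ.hom.Flat := Flat.flat_appLE pY hV hU hUV
  obtain ⟨P, iL, iR, hsq, hinj⟩ := exists_injective_pushout φ ψ hflat
    (germ_injective_of_isIntegral (X := T) η hη)
  let h := pullback.lift (f := pY) (g := T.fromSpecStalk η)
    (Spec.map iL ≫ hU.fromSpec) (Spec.map iR)
    (by
      rw [Category.assoc, ← IsAffineOpen.SpecMap_appLE_fromSpec pY hV hU hUV,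
        ← hV.fromSpecStalk_eq_fromSpecStalk hη, IsAffineOpen.fromSpecStalk, ← Spec.map_comp_assoc,
        hsq, Spec.map_comp_assoc])
  have key : ∀ b, (pullback.fst pY (T.fromSpecStalk η)).app U b = 0 → iL b = 0 := by
    intro b hb0
    have h1 : (h ≫ pullback.fst pY (T.fromSpecStalk η)).appLE U ⊤
        (by rw [pullback.lift_fst, Scheme.Hom.comp_preimage, hU.fromSpec_preimage_self]; rfl) b = 0 := by
      rw [Scheme.Hom.comp_appLE]
      simp [hb0]
    have h2 : ∀ (f : Spec _ ⟶ Y) (e) (e'), f = Spec.map iL ≫ hU.fromSpec →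
        f.appLE U ⊤ e b = (Spec.map iL ≫ hU.fromSpec).appLE U ⊤ e' b := by
      rintro f e e' rfl; rfl
    rw [h2 _ _ (by rw [Scheme.Hom.comp_preimage, hU.fromSpec_preimage_self]; rfl)
      (pullback.lift_fst _ _ _)] at h1
    have h3 : (Spec.map iL ≫ hU.fromSpec).appLE U ⊤
        (by rw [Scheme.Hom.comp_preimage, hU.fromSpec_preimage_self]; rfl) =
        iL ≫ (Scheme.ΓSpecIso _).inv := by
      rw [Scheme.Hom.comp_appLE, hU.fromSpec_app_self, Category.assoc,
        Scheme.Hom.map_appLE, Scheme.ΓSpecIso_inv_naturality]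
      simp [Scheme.Hom.appLE]
    rw [h3] at h1
    exact (ConcreteCategory.bijective_of_isIso (Scheme.ΓSpecIso _).inv).1 (h1.trans (map_zero _).symm)
  have := key (b₁ - b₂) (by rw [map_sub]; exact sub_eq_zero.mpr hb)
  rw [map_sub, sub_eq_zero] at this
  exact hinj this

theorem ker_fst_eq_bot : (pullback.fst pY (T.fromSpecStalk (genericPoint T))).ker = ⊥ := by
  let ι := { U : Y.affineOpens // ∃ V : T.affineOpens, U.1 ≤ pY ⁻¹ᵁ V.1 }
  refine Scheme.IdealSheafData.ext_of_iSup_eq_top (fun i : ι ↦ i.1) (top_le_iff.mp fun y _ ↦ ?_) ?_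
  · obtain ⟨_, ⟨V, hV, rfl⟩, hyV, -⟩ := T.isBasis_affineOpens.exists_subset_of_mem_open
      (Set.mem_univ (pY y)) isOpen_univ
    obtain ⟨_, ⟨U, hU, rfl⟩, hyU, hUV⟩ := Y.isBasis_affineOpens.exists_subset_of_mem_open
      (show y ∈ (pY ⁻¹ᵁ V : Y.Opens) from hyV) (pY ⁻¹ᵁ V).2
    exact TopologicalSpace.Opens.mem_iSup.mpr ⟨⟨⟨U, hU⟩, ⟨V, hV⟩, hUV⟩, hyU⟩
  · rintro ⟨U, V, hUV⟩
    rw [Scheme.IdealSheafData.ideal_bot, Pi.bot_apply, eq_bot_iff]
    refine (Scheme.Hom.ideal_ker_le _ U).trans ?_
    rw [(RingHom.injective_iff_ker_eq_bot _).mp (app_injective pY V.2 U.2 hUV)]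

/-- Two `T`-morphisms to a separated `T`-scheme which agree on the generic fibre of a flat `Y`
agree. -/
theorem hom_ext {Z : Scheme.{u}} (pZ : Z ⟶ T) [IsSeparated pZ] (a b : Y ⟶ Z)
    (ha : a ≫ pZ = pY) (hb : b ≫ pZ = pY)
    (h : pullback.fst pY (T.fromSpecStalk (genericPoint T)) ≫ a =
      pullback.fst pY (T.fromSpecStalk (genericPoint T)) ≫ b) : a = b := by
  let l := pullback.lift (f := pZ) (g := pZ) a b (ha.trans hb.symm)
  let i := pullback.fst l (pullback.diagonal pZ)
  let j := pullback.fst pY (T.fromSpecStalk (genericPoint T))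
  let u := pullback.lift (f := l) (g := pullback.diagonal pZ) j (j ≫ a) (by
    apply pullback.hom_ext
    · simp only [l, j, Category.assoc, pullback.lift_fst, pullback.diagonal_fst, Category.comp_id]
    · simp only [l, j, Category.assoc, pullback.lift_snd, pullback.diagonal_snd, Category.comp_id]
      exact h.symm)
  have hu : u ≫ i = j := pullback.lift_fst _ _ _
  have : IsClosedImmersion i := inferInstance
  have hk : i.ker = ⊥ := by
    refine le_bot_iff.mp ?_
    rw [← ker_fst_eq_bot pY]
    show i.ker ≤ j.ker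
    rw [← hu]
    exact Scheme.Hom.le_ker_comp u i
  have := IsClosedImmersion.isIso_iff_ker_eq_bot.mpr hk
  have hc := pullback.condition (f := l) (g := pullback.diagonal pZ)
  have h1 : i ≫ a = pullback.snd l (pullback.diagonal pZ) := by
    have := congr($hc ≫ pullback.fst pZ pZ)
    simp only [l, Category.assoc, pullback.lift_fst, pullback.diagonal_fst, Category.comp_id] at this
    exact this
  have h2 : i ≫ b = pullback.snd l (pullback.diagonal pZ) := by
    have := congr($hc ≫ pullback.snd pZ pZ)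
    simp only [l, Category.assoc, pullback.lift_snd, pullback.diagonal_snd, Category.comp_id] at this
    exact this
  exact (cancel_epi i).mp (h1.trans h2.symm)

end Groth.Agent.GenFibreDense
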