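import Mathlib
import Groth.Agent.GenFree.Basic
import Groth.Agent.FlatLoc6.GenFlat

/-!
# Generic freeness of quotients of modules by finite submodules over a smaller algebra
-/

universe u
set_option autoImplicit false

namespace Groth.Agent.FlatMisc.GenFlatCoker

open Groth.Agent.GenFree

variable {R A : Type u} [CommRing R] [IsDomain R] [IsNoetherianRing R] [CommRing A] [Algebra R A]
  [Algebra.FiniteType R A]

theorem exists_gfree_poly_quotient (n : ℕ) :
    ∀ (N : Type u) [AddCommGroup N] [Module (MvPolynomial (Fin n) A) N] [Module A N] [Module R N]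
      [IsScalarTower A (MvPolynomial (Fin n) A) N] [IsScalarTower R A N]
      [Module.Finite (MvPolynomial (Fin n) A) N] (N₀ : Submodule A N), N₀.FG →
      ∃ f : R, f ≠ 0 ∧ GFree R f (N ⧸ N₀) := by
  classical
  induction n with
  | zero =>
    intro N _ _ _ _ _ _ _ N₀ _
    have : Module.Finite A (MvPolynomial (Fin 0) A) :=
      Module.Finite.equiv (MvPolynomial.isEmptyAlgEquiv A (Fin 0)).toLinearEquiv.symm
    have : Module.Finite A N := Module.Finite.trans (MvPolynomial (Fin 0) A) N
    exact exists_gfree (R := R) (M := N ⧸ N₀) A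
  | succ n ih =>
    intro N _ _ _ _ _ _ _ N₀ hN₀
    let ρ : MvPolynomial (Fin n) A →ₐ[A] MvPolynomial (Fin (n + 1)) A := MvPolynomial.rename Fin.succ
    let := Module.compHom N ρ.toRingHom
    have : IsScalarTower A (MvPolynomial (Fin n) A) N := ⟨fun r p m => by
      show ρ (r • p) • m = r • ρ p • m
      rw [map_smul, smul_assoc]⟩
    have : IsScalarTower R (MvPolynomial (Fin n) A) N := ⟨fun r p m => by
      rw [← algebraMap_smul A r p, smul_assoc, algebraMap_smul]⟩
    let x : N →ₗ[MvPolynomial (Fin n) A] N :=
      { toFun := fun m => (MvPolynomial.X 0 : MvPolynomial (Fin (n + 1)) A) • m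
        map_add' := smul_add _
        map_smul' := fun p m => smul_comm _ (ρ p) m }
    obtain ⟨s, hs⟩ := Module.Finite.fg_top (R := MvPolynomial (Fin (n + 1)) A) (M := N)
    obtain ⟨s₀, hs₀⟩ := hN₀
    let M0 : Submodule (MvPolynomial (Fin n) A) N := Submodule.span _ ((s : Set N) ∪ (s₀ : Set N))
    have hN₀M : N₀ ≤ M0.restrictScalars A := by
      rw [← hs₀, Submodule.span_le]
      exact fun y hy => Submodule.subset_span (Or.inr hy)
    have hM0fg : M0.FG := ⟨s ∪ s₀, by rw [Finset.coe_union]⟩
    have : Module.Finite (MvPolynomial (Fin n) A) M0 := Module.Finite.iff_fg.2 hM0fg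
    have : Algebra.FiniteType A (MvPolynomial (Fin n) A) := inferInstance
    have : Algebra.FiniteType R (MvPolynomial (Fin n) A) := Algebra.FiniteType.trans (S := A) inferInstance inferInstance
    have : IsNoetherianRing (MvPolynomial (Fin n) A) := Algebra.FiniteType.isNoetherianRing R _
    let F' : ℕ → Submodule (MvPolynomial (Fin n) A) N := fun d => ⨆ i ∈ Finset.range d, M0.map (x ^ i)
    let e' : ℕ → M0 →ₗ[MvPolynomial (Fin n) A] N := fun d => (x ^ d) ∘ₗ M0.subtype
    let K' : ℕ → Submodule (MvPolynomial (Fin n) A) M0 := fun d => (F' (d + 1)).comap (e' (d + 1))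
    have hxF : ∀ d, (F' d).map x ≤ F' (d + 1) := by
      intro d
      simp only [F', Submodule.map_iSup]
      refine iSup₂_le fun i hi => ?_
      rw [← Submodule.map_comp]
      exact le_iSup₂_of_le (i + 1) (by simpa using hi) (le_of_eq (by rw [pow_succ']; rfl))
    have hKmono : Monotone K' := monotone_nat_of_le_succ fun d y hy => by
      have := hxF (d + 1) (Submodule.mem_map_of_mem hy)
      simpa [K', e', pow_succ'] using this
    obtain ⟨D, hD⟩ := monotone_stabilizes_iff_noetherian.2
      (inferInstance : IsNoetherian (MvPolynomial (Fin n) A) M0) ⟨K', hKmono⟩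
    choose g hg0 hg using fun d => exists_gfree (R := R) (M := M0 ⧸ K' d) (MvPolynomial (Fin n) A)
    have hfg₀ : (N₀.comap (M0.subtype.restrictScalars A)).FG := by
      refine Submodule.fg_of_fg_map_injective (M0.subtype.restrictScalars A) Subtype.val_injective ?_
      rw [Submodule.map_comap_eq, inf_eq_right.2]
      · exact ⟨s₀, hs₀⟩
      · exact fun y hy => ⟨⟨y, hN₀M hy⟩, rfl⟩
    obtain ⟨g₀, hg₀, hgf₀⟩ := ih M0 (N₀.comap (M0.subtype.restrictScalars A)) hfg₀
    let f : R := g₀ * ∏ d ∈ Finset.range (D + 1), g d
    refine ⟨f, mul_ne_zero hg₀ (Finset.prod_ne_zero_iff.2 fun d _ => hg0 d), ?_⟩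
    let q : N →ₗ[R] N ⧸ N₀ := N₀.mkQ.restrictScalars R
    let F : ℕ → Submodule R (N ⧸ N₀) := fun d => ((F' d).restrictScalars R).map q
    let K : ℕ → Submodule R M0 := fun d => match d with
      | 0 => (N₀.comap (M0.subtype.restrictScalars A)).restrictScalars R
      | d + 1 => (K' d).restrictScalars R
    have hN₀F : ∀ d, ∀ y ∈ N₀, y ∈ F' (d + 1) := fun d y hy =>
      (le_iSup₂_of_le 0 (Finset.mem_range.2 d.succ_pos) (le_refl _) : M0.map (x ^ 0) ≤ F' (d + 1))
        ⟨y, hN₀M hy, rfl⟩
    refine gfree_of_filtration F ?_ ?_ ?_ (fun d => q.comp ((e' d).restrictScalars R)) ?_ K ?_ ?_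
    · simp [F, F']
    · intro d
      exact Submodule.map_mono (show F' d ≤ F' (d + 1) from
        biSup_mono fun i hi => Finset.mem_range.2 (Nat.lt_succ_of_lt (Finset.mem_range.1 hi)))
    · intro m
      obtain ⟨m, rfl⟩ := Submodule.Quotient.mk_surjective _ m
      have htop : m ∈ ⨆ i, M0.map (x ^ i) := by
        set T := ⨆ i, M0.map (x ^ i)
        have hx : ∀ m ∈ T, x m ∈ T := by
          intro m hm
          refine (show T.map x ≤ T from ?_) (Submodule.mem_map_of_mem hm)
          rw [Submodule.map_iSup]
          refine iSup_le fun i => ?_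
          rw [← Submodule.map_comp]
          exact le_iSup_of_le (i + 1) (le_of_eq (by rw [pow_succ']; rfl))
        have hmul : ∀ (p : MvPolynomial (Fin (n + 1)) A), ∀ m ∈ T, p • m ∈ T := by
          intro p
          induction p using MvPolynomial.induction_on with
          | C r =>
            intro m hm
            have : (MvPolynomial.C r : MvPolynomial (Fin (n + 1)) A) • m =
                (MvPolynomial.C r : MvPolynomial (Fin n) A) • m :=
              congrArg (· • m) (MvPolynomial.rename_C _ r).symm
            exact this ▸ Submodule.smul_mem _ _ hm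
          | add p q hp hq => intro m hm; rw [add_smul]; exact add_mem (hp m hm) (hq m hm)
          | mul_X p i hp =>
            intro m hm
            rw [mul_smul]
            refine hp _ ?_
            induction i using Fin.cases with
            | zero => exact hx m hm
            | succ i =>
              have : (MvPolynomial.X i.succ : MvPolynomial (Fin (n + 1)) A) • m =
                  (MvPolynomial.X i : MvPolynomial (Fin n) A) • m :=
                congrArg (· • m) (MvPolynomial.rename_X _ i).symm
              exact this ▸ Submodule.smul_mem _ _ hm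
        let T' : Submodule (MvPolynomial (Fin (n + 1)) A) N :=
          { T.toAddSubmonoid with smul_mem' := hmul }
        exact (show (⊤ : Submodule (MvPolynomial (Fin (n + 1)) A) N) ≤ T' from hs ▸ Submodule.span_le.2
          fun y hy => le_iSup (fun i => M0.map (x ^ i)) 0 ⟨y, Submodule.subset_span (Or.inl hy), rfl⟩)
          (Submodule.mem_top (x := m))
      obtain ⟨t, ht⟩ := Submodule.mem_iSup_iff_exists_finset.1 htop
      refine ⟨t.sup id + 1, m, ?_, rfl⟩
      exact (show (⨆ i ∈ t, M0.map (x ^ i)) ≤ F' (t.sup id + 1) from biSup_mono fun i hi => by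
        simp only [Finset.mem_range]; exact Nat.lt_succ_of_le (Finset.le_sup (f := id) hi)) ht
    · intro d
      have : F' (d + 1) = F' d ⊔ LinearMap.range (e' d) := by
        simp only [F', e', LinearMap.range_comp, Submodule.range_subtype]
        rw [Finset.range_add_one, Finset.iSup_insert, sup_comm]
      show ((F' (d + 1)).restrictScalars R).map q = _
      rw [this, Submodule.restrictScalars_sup, Submodule.map_sup, LinearMap.range_comp ((e' d).restrictScalars R) q, LinearMap.range_restrictScalars]
    · intro d y
      cases d with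
      | zero => simp [K, F, F', q, e', Submodule.Quotient.mk_eq_zero]
      | succ d =>
        constructor
        · exact fun hy => Submodule.mem_map_of_mem (f := q) hy
        · rintro ⟨z, hz, hzy⟩
          show e' (d + 1) y ∈ F' (d + 1)
          have h1 : e' (d + 1) y - z ∈ N₀ := (Submodule.Quotient.eq _).1 hzy.symm
          rw [← sub_add_cancel (e' (d + 1) y) z]
          exact add_mem (hN₀F d _ h1) hz
    · intro d
      cases d with
      | zero => exact hgf₀.of_dvd (dvd_mul_right _ _)
      | succ d =>
        have hd : ∀ d ≤ D, GFree R f (M0 ⧸ K' d) := fun d hd =>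
          (hg d).of_dvd (dvd_mul_of_dvd_right (Finset.dvd_prod_of_mem g (by simpa using Nat.lt_succ_of_le hd)) _)
        show GFree R f (M0 ⧸ (K' d).restrictScalars R)
        rcases le_or_gt d D with h | h
        · exact hd d h
        · have hK : K' D = K' d := hD d h.le
          exact hK ▸ hd D le_rfl

/-- Generic flatness of cokernels. -/
theorem exists_flat_coker {B M N : Type u} [CommRing B] [Algebra A B] [Algebra.FiniteType A B]
    [AddCommGroup M] [Module A M] [Module.Finite A M]
    [AddCommGroup N] [Module B N] [Module A N] [Module R N] [IsScalarTower A B N] [IsScalarTower R A N]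
    [Module.Finite B N] (u : M →ₗ[A] N) :
    ∃ f : R, f ≠ 0 ∧ Module.Flat R (LocalizedModule (Submonoid.powers f) (N ⧸ (LinearMap.range u).restrictScalars R)) := by
  obtain ⟨n, φ, hφ⟩ := Algebra.FiniteType.iff_quotient_mvPolynomial''.1 (‹Algebra.FiniteType A B›)
  let := φ.toRingHom.toAlgebra
  let := Module.compHom N φ.toRingHom
  have : IsScalarTower A (MvPolynomial (Fin n) A) N := ⟨fun r p m => by
    show φ (r • p) • m = r • φ p • m
    rw [map_smul, smul_assoc]⟩
  have : IsScalarTower (MvPolynomial (Fin n) A) B N := ⟨fun p s m => mul_smul (φ p) s m⟩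
  have : Module.Finite (MvPolynomial (Fin n) A) B :=
    Module.Finite.of_surjective (Algebra.linearMap (MvPolynomial (Fin n) A) B) hφ
  have : Module.Finite (MvPolynomial (Fin n) A) N := Module.Finite.trans B N
  obtain ⟨f, hf, hgf⟩ := exists_gfree_poly_quotient (R := R) n N (LinearMap.range u)
    (Module.Finite.iff_fg.1 inferInstance)
  refine ⟨f, hf, ?_⟩
  have hgf' : GFree R f (N ⧸ (LinearMap.range u).restrictScalars R) := by
    obtain ⟨ι, φ', hφ', hr⟩ := hgf
    let e := (Submodule.Quotient.restrictScalarsEquiv R (LinearMap.range u)).symm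
    refine ⟨ι, e.toLinearMap.comp φ', e.injective.comp hφ', fun m => ?_⟩
    obtain ⟨k, c, hc⟩ := hr (e.symm m)
    exact ⟨k, c, by rw [LinearMap.comp_apply, hc, map_smul]; simp⟩
  exact FlatLoc6.flat_of_gfree (S := R) (Submonoid.powers f) (LocalizedModule.mkLinearMap _ _)
    (Submonoid.mem_powers f) hgf'

end Groth.Agent.FlatMisc.GenFlatCoker
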