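import Mathlib

universe u
set_option autoImplicit false
open AlgebraicGeometry CategoryTheory CategoryTheory.Limits
open scoped TensorProduct

namespace FlatMisc

theorem isReduced_residueField_tensor {R A : Type u} [CommRing R] [CommRing A] [Algebra R A] [_root_.IsReduced A]
    (p : Ideal R) [p.IsPrime] (hp : p ∈ minimalPrimes R) : _root_.IsReduced (p.Fiber A) := by
  let W := Algebra.algebraMapSubmonoid A p.primeCompl
  haveI : _root_.IsReduced (Localization W) :=
    isReduced_localizationPreserves W (Localization W) inferInstance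
  let T := p.Fiber A
  let ι : A →+* T := (Algebra.TensorProduct.includeRight : A →ₐ[R] p.ResidueField ⊗[R] A).toRingHom
  have hW : ∀ w : W, IsUnit (ι w) := by
    rintro ⟨_, s, hs, rfl⟩
    have h1 : ι (algebraMap R A s) =
        algebraMap p.ResidueField T (algebraMap R p.ResidueField s) := by
      change (Algebra.TensorProduct.includeRight : A →ₐ[R] p.ResidueField ⊗[R] A) (algebraMap R A s) = _
      rw [AlgHom.commutes]
      exact IsScalarTower.algebraMap_apply R p.ResidueField (p.ResidueField ⊗[R] A) s
    change IsUnit (ι (algebraMap R A s))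
    rw [h1]
    refine IsUnit.map _ (isUnit_iff_ne_zero.mpr ?_)
    exact fun h => hs (Ideal.algebraMap_residueField_eq_zero.mp h)
  let φ : Localization W →+* T := IsLocalization.lift hW
  have hp0 : ∀ x ∈ p, algebraMap R (Localization W) x = 0 := by
    intro x hx
    obtain ⟨y, hy, n, hxy⟩ : ∃ y ∉ p, ∃ n : ℕ, y * x ^ n = 0 := by
      by_contra hcon
      push_neg at hcon
      obtain ⟨P, hP, -, hd⟩ := Ideal.exists_le_prime_disjoint (⊥ : Ideal R) (p.primeCompl ⊔ Submonoid.powers x)
        (Set.disjoint_left.mpr (fun a ha hm => by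
          simp only [SetLike.mem_coe, Ideal.mem_bot] at ha; subst ha
          obtain ⟨y, hy, z, ⟨n, rfl⟩, h0⟩ := Submonoid.mem_sup.mp hm
          exact hcon y hy n h0))
      have hPp : P ≤ p := fun a ha => by
        by_contra h
        exact Set.disjoint_left.mp hd ha ((le_sup_left : p.primeCompl ≤ p.primeCompl ⊔ Submonoid.powers x) h)
      exact Set.disjoint_left.mp hd (hp.2 ⟨hP, bot_le⟩ hPp hx)
        ((le_sup_right : Submonoid.powers x ≤ p.primeCompl ⊔ Submonoid.powers x) (Submonoid.mem_powers _))
    have hu : IsUnit (algebraMap R (Localization W) y) := by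
      rw [IsScalarTower.algebraMap_apply R A (Localization W)]
      exact IsLocalization.map_units (Localization W) (⟨algebraMap R A y, y, hy, rfl⟩ : W)
    have h0 := congrArg (algebraMap R (Localization W)) hxy
    rw [map_mul, map_pow, map_zero, hu.mul_right_eq_zero] at h0
    exact IsNilpotent.eq_zero ⟨n, h0⟩
  let θ : p.ResidueField →ₐ[R] Localization W :=
    Ideal.ResidueField.liftₐ p (Algebra.ofId R (Localization W)) (fun x hx => RingHom.mem_ker.mpr (hp0 x hx))
      (fun x hx => by
        change IsUnit (algebraMap R (Localization W) x)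
        rw [IsScalarTower.algebraMap_apply R A (Localization W)]
        exact IsLocalization.map_units (Localization W) (⟨algebraMap R A x, x, hx, rfl⟩ : W))
  let ψ : p.ResidueField ⊗[R] A →ₐ[R] Localization W :=
    Algebra.TensorProduct.lift θ (IsScalarTower.toAlgHom R A (Localization W)) (fun _ _ => Commute.all _ _)
  have hθ : (φ.comp θ.toRingHom) =
      (Algebra.TensorProduct.includeLeftRingHom : p.ResidueField →+* p.ResidueField ⊗[R] A) := by
    apply Ideal.ResidueField.ringHom_ext
    ext x
    simp only [RingHom.comp_apply]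
    rw [show θ.toRingHom (algebraMap R p.ResidueField x) = algebraMap R (Localization W) x from θ.commutes x,
      IsScalarTower.algebraMap_apply R A (Localization W)]
    change IsLocalization.lift hW _ = _
    rw [IsLocalization.lift_eq]
    change (Algebra.TensorProduct.includeRight : A →ₐ[R] p.ResidueField ⊗[R] A) (algebraMap R A x) = _
    rw [AlgHom.commutes]
    exact IsScalarTower.algebraMap_apply R p.ResidueField (p.ResidueField ⊗[R] A) x
  have hψ : ∀ z, φ (ψ z) = z := by
    intro z
    induction z using TensorProduct.induction_on with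
    | zero => simp
    | add a b ha hb => rw [map_add, map_add, ha, hb]
    | tmul c a =>
      simp only [ψ, Algebra.TensorProduct.lift_tmul, map_mul]
      have h1 : φ (θ c) = c ⊗ₜ[R] (1 : A) := RingHom.congr_fun hθ c
      have h2 : φ (IsScalarTower.toAlgHom R A (Localization W) a) = (1 : p.ResidueField) ⊗ₜ[R] a :=
        IsLocalization.lift_eq hW a
      rw [h1, h2, Algebra.TensorProduct.tmul_mul_tmul, mul_one, one_mul]
  exact isReduced_of_injective ψ.toRingHom (Function.LeftInverse.injective hψ)

theorem isReduced_fiber_of_generic {X Y : Scheme.{u}} (f : X ⟶ Y) [AlgebraicGeometry.IsReduced X] (η : Y)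
    (hη : ∀ w : Y, w ⤳ η → w = η) : AlgebraicGeometry.IsReduced (f.fiber η) := by
  haveI : ∀ z : ↥(f.fiber η), _root_.IsReduced ((f.fiber η).presheaf.stalk z) := by
    intro z
    obtain ⟨_, ⟨U, hU, rfl⟩, hηU, -⟩ :=
      Y.isBasis_affineOpens.exists_subset_of_mem_open (Set.mem_univ η) isOpen_univ
    replace hU : IsAffineOpen U := hU
    have hzU : f.fiberι η z ∈ f ⁻¹ᵁ U := by
      have h := Set.mem_range_self (f := (f.fiberι η).base) z
      rw [Scheme.Hom.range_fiberι] at h
      change f.base (f.fiberι η z) ∈ U
      rw [show f.base (f.fiberι η z) = η from h]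
      exact hηU
    obtain ⟨_, ⟨V, hV, rfl⟩, hzV, hVU⟩ :=
      X.isBasis_affineOpens.exists_subset_of_mem_open hzU (f ⁻¹ᵁ U).isOpen
    replace hV : IsAffineOpen V := hV
    have hVU' : V ≤ f ⁻¹ᵁ U := hVU
    letI := (f.appLE U V hVU').hom.toAlgebra
    haveI : _root_.IsReduced Γ(X, V) := inferInstance
    obtain ⟨p, rfl⟩ : η ∈ Set.range hU.fromSpec.base := by rw [hU.range_fromSpec]; exact hηU
    have hpmin : p.asIdeal ∈ minimalPrimes Γ(Y, U) := by
      refine ⟨⟨p.2, bot_le⟩, fun q hq hqp => ?_⟩
      have hs : hU.fromSpec ⟨q, hq.1⟩ ⤳ hU.fromSpec p :=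
        (((PrimeSpectrum.le_iff_specializes _ p).mp hqp).map hU.fromSpec.continuous)
      have := hU.fromSpec.isOpenEmbedding.injective (hη _ hs)
      exact le_of_eq (congrArg PrimeSpectrum.asIdeal this).symm
    haveI := isReduced_residueField_tensor (A := Γ(X, V)) p.asIdeal hpmin
    let g := Spec.map (CommRingCat.ofHom (algebraMap Γ(Y, U) Γ(X, V)))
    haveI : AlgebraicGeometry.IsReduced (g.fiber p) := by
      haveI : IsOpenImmersion (Spec.fiberToSpecResidueFieldIso Γ(Y, U) Γ(X, V) p).hom.left := inferInstance
      exact @isReduced_of_isOpenImmersion _ _ (Spec.fiberToSpecResidueFieldIso Γ(Y, U) Γ(X, V) p).hom.left _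
        (show AlgebraicGeometry.IsReduced (Spec (CommRingCat.of (p.asIdeal.Fiber Γ(X, V)))) from inferInstance)
    let Φ : g.fiber p ⟶ f.fiber (hU.fromSpec p) :=
      pullback.map g ((Spec Γ(Y, U)).fromSpecResidueField p) f (Y.fromSpecResidueField (hU.fromSpec p))
        hV.fromSpec (Spec.map (hU.fromSpec.residueFieldMap p)) hU.fromSpec
        (hU.SpecMap_appLE_fromSpec f hV hVU')
        (Scheme.Hom.SpecMap_residueFieldMap_fromSpecResidueField _ _).symm
    haveI : IsOpenImmersion Φ := Scheme.pullback_map_isOpenImmersion _ _ _ _ _ _ _ _ _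
    obtain ⟨w, rfl⟩ : z ∈ Set.range Φ.base := by
      refine ((Scheme.Pullback.range_map g ((Spec Γ(Y, U)).fromSpecResidueField p) f (Y.fromSpecResidueField (hU.fromSpec p))
        hV.fromSpec (Spec.map (hU.fromSpec.residueFieldMap p)) hU.fromSpec
        (hU.SpecMap_appLE_fromSpec f hV hVU')
        (Scheme.Hom.SpecMap_residueFieldMap_fromSpecResidueField _ _).symm).ge ?_)
      refine ⟨?_, ?_⟩
      · change f.fiberι (hU.fromSpec p) z ∈ Set.range hV.fromSpec.base
        rw [hV.range_fromSpec]; exact hzV
      · exact (Spec.map (hU.fromSpec.residueFieldMap p)).surjective _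
    exact isReduced_of_injective (Φ.stalkMap w).hom (ConcreteCategory.bijective_of_isIso (Φ.stalkMap w)).1
  exact isReduced_of_isReduced_stalk _

theorem eq_of_specializes_of_generic_component {Y : Scheme.{u}} (η : Y) (W : Set Y)
    (hW : W ∈ irreducibleComponents Y) (hη : IsGenericPoint η W) (w : Y) (hw : w ⤳ η) : w = η := by
  have h1 : W ⊆ closure {w} := by
    rw [← hη.def]
    exact closure_minimal (Set.singleton_subset_iff.mpr hw.mem_closure) isClosed_closure
  have h2 : closure {w} ⊆ W := hW.2 (isIrreducible_singleton.closure) h1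
  have h3 : IsGenericPoint w W := Set.Subset.antisymm h2 h1
  exact h3.eq hη

end FlatMisc
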