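import Groth.Agent.H23.RedSub
import Mathlib.AlgebraicGeometry.Geometrically.Reduced
import Mathlib.AlgebraicGeometry.Pullbacks
import Mathlib.RingTheory.LocalProperties.Reduced
import Mathlib.RingTheory.Localization.BaseChange

/-!
# Reduced base changes along localizations
-/

set_option autoImplicit false
set_option linter.style.haveILetI false
set_option backward.isDefEq.respectTransparency false
set_option backward.isDefEq.respectTransparency.types false

universe u

open AlgebraicGeometry CategoryTheory CategoryTheory.Limits TensorProduct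

namespace Groth.Agent.FlatMisc

/-- Base change of a reduced scheme along a localization is reduced. -/
theorem isReduced_pullback_localization {N : Scheme.{u}} [IsReduced N] {A L : Type u} [CommRing A] [CommRing L]
    [Algebra A L] (M : Submonoid A) [IsLocalization M L] (h : N ⟶ Spec (CommRingCat.of A)) :
    IsReduced (pullback h (Spec.map (CommRingCat.ofHom (algebraMap A L)))) := by
  let 𝒰 := Scheme.Pullback.openCoverOfLeft N.affineCover h (Spec.map (CommRingCat.ofHom (algebraMap A L)))
  haveI : ∀ i, IsReduced (𝒰.X i) := fun i => by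
    show IsReduced (pullback (N.affineCover.f i ≫ h) _)
    haveI hN : IsReduced (N.affineCover.X i) := isReduced_of_isOpenImmersion (N.affineCover.f i)
    let B := N.affineCover.X i
    let φ : A →+* Γ(B, ⊤) := ((Scheme.ΓSpecIso (CommRingCat.of A)).inv ≫ (N.affineCover.f i ≫ h).appTop).hom
    letI : Algebra A Γ(B, ⊤) := φ.toAlgebra
    haveI : _root_.IsReduced (Γ(B, ⊤) ⊗[A] L) :=
      isReduced_localizationPreserves.{u} (Algebra.algebraMapSubmonoid Γ(B, ⊤) M) (Γ(B, ⊤) ⊗[A] L) inferInstance
    have hb : N.affineCover.f i ≫ h = B.isoSpec.hom ≫ Spec.map (CommRingCat.ofHom (algebraMap A Γ(B, ⊤))) := by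
      have := Scheme.isoSpec_hom_naturality (N.affineCover.f i ≫ h)
      rw [show CommRingCat.ofHom (algebraMap A Γ(B, ⊤)) =
        (Scheme.ΓSpecIso (CommRingCat.of A)).inv ≫ (N.affineCover.f i ≫ h).appTop from rfl, Spec.map_comp,
        reassoc_of% this, Scheme.isoSpec_Spec_hom, ← Spec.map_comp, Iso.inv_hom_id, Spec.map_id,
        Category.comp_id]
    let e : pullback (N.affineCover.f i ≫ h) (Spec.map (CommRingCat.ofHom (algebraMap A L))) ≅
        Spec (CommRingCat.of (Γ(B, ⊤) ⊗[A] L)) :=
      asIso (pullback.map _ _ (Spec.map (CommRingCat.ofHom (algebraMap A Γ(B, ⊤)))) _ B.isoSpec.hom (𝟙 _) (𝟙 _)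
        (by rw [Category.comp_id]; exact hb) (by simp)) ≪≫ pullbackSpecIso A Γ(B, ⊤) L
    exact isReduced_of_isOpenImmersion e.hom
  exact AlgebraicGeometry.IsReduced.of_openCover _ 𝒰

/-- A reduced closed subscheme with full support is the reduction. -/
theorem geometricallyReduced_of_surjective_closedImmersion {B P S : Scheme.{u}} (i : P ⟶ B) [IsClosedImmersion i]
    [Surjective i] [IsReduced P] (s : B ⟶ S) [GeometricallyReduced (B.nilradical.subschemeι ≫ s)] :
    GeometricallyReduced (i ≫ s) := by
  let ι := B.nilradical.subschemeι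
  haveI : IsReduced B.nilradical.subscheme := H23.RedSub.isReduced_nilradical B
  haveI : Surjective ι := ⟨by
    rw [← Set.range_eq_univ, Scheme.IdealSheafData.range_subschemeι]
    rfl⟩
  haveI : Surjective (pullback.snd ι i) := MorphismProperty.pullback_snd _ _ inferInstance
  haveI : IsIso (pullback.snd ι i) := isIso_of_isClosedImmersion_of_surjective _
  let p : P ⟶ B.nilradical.subscheme := inv (pullback.snd ι i) ≫ pullback.fst ι i
  have hp : p ≫ ι = i := by rw [Category.assoc, pullback.condition, IsIso.inv_hom_id_assoc]
  haveI : IsClosedImmersion p := inferInstance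
  haveI : Surjective p := inferInstance
  haveI : IsIso p := isIso_of_isClosedImmersion_of_surjective p
  rw [← hp, Category.assoc]
  exact (MorphismProperty.cancel_left_of_respectsIso @GeometricallyReduced p (ι ≫ s)).2 ‹_›

end Groth.Agent.FlatMisc
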