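import Mathlib
import Groth.Agent.FlatMisc.ValuationFP
import Groth.Agent.FlatMisc.GenericFibreRed
import Groth.Agent.VarGeom.Normal

/-!
# Proper flat schemes over valuation rings with reduced special fibre
-/

universe u
set_option autoImplicit false
open AlgebraicGeometry CategoryTheory CategoryTheory.Limits TopologicalSpace
open scoped TensorProduct

namespace Groth.Agent.FlatMisc.ValuationRed

/-- The nilradical of a flat finite type algebra over a valuation ring is killed near the special fibre,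
if the latter is reduced. -/
theorem exists_mul_nilradical_eq_zero {R A : Type u} [CommRing R] [IsDomain R] [ValuationRing R] [CommRing A]
    [Algebra R A] [Algebra.FiniteType R A] [Module.Flat R A]
    (h : ∀ a : A, IsNilpotent a → a ∈ (IsLocalRing.maximalIdeal R).map (algebraMap R A)) :
    ∃ t : A, t - 1 ∈ (IsLocalRing.maximalIdeal R).map (algebraMap R A) ∧ ∀ a, IsNilpotent a → t * a = 0 := by
  have htf : ∀ (c : R) (a : A), c ≠ 0 → c • a = 0 → a = 0 := fun c a hc ha => by
    by_contra ha0
    have h3 : a ∈ Submodule.torsion R A := ⟨⟨c, mem_nonZeroDivisors_of_ne_zero hc⟩, ha⟩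
    rw [Module.Flat.torsion_eq_bot, Submodule.mem_bot] at h3
    exact ha0 h3
  have hnil : ∀ (c : R) (a : A), c ≠ 0 → IsNilpotent (c • a) → IsNilpotent a := by
    rintro c a hc ⟨k, hk⟩
    exact ⟨k, htf (c ^ k) _ (pow_ne_zero _ hc) (by rw [← smul_pow]; exact hk)⟩
  haveI : Algebra.FiniteType R (A ⧸ nilradical A) :=
    Algebra.FiniteType.of_surjective (Ideal.Quotient.mkₐ R (nilradical A)) Ideal.Quotient.mk_surjective
  haveI : Module.Flat R (A ⧸ nilradical A) := by
    rw [Module.Flat.flat_iff_torsion_eq_bot_of_isBezout, eq_bot_iff]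
    rintro x ⟨⟨c, hc⟩, hcx⟩
    obtain ⟨a, rfl⟩ := Ideal.Quotient.mk_surjective x
    exact Ideal.Quotient.eq_zero_iff_mem.mpr (hnil c a (nonZeroDivisors.ne_zero hc) (Ideal.Quotient.eq_zero_iff_mem.mp hcx))
  haveI := ValuationFP.algebra_finitePresentation (R := R) (A := A)
  haveI := ValuationFP.algebra_finitePresentation (R := R) (A := A ⧸ nilradical A)
  have hfg : (nilradical A).FG := by
    have h1 := Algebra.FinitePresentation.ker_fG_of_surjective (Ideal.Quotient.mkₐ R (nilradical A)) Ideal.Quotient.mk_surjective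
    rwa [show RingHom.ker (Ideal.Quotient.mkₐ R (nilradical A)).toRingHom = nilradical A from Ideal.mk_ker] at h1
  have hle : nilradical A ≤ (IsLocalRing.maximalIdeal R).map (algebraMap R A) • nilradical A := by
    intro a ha
    have ham := h a ha
    obtain ⟨c, hcm, b, hca⟩ : ∃ c ∈ IsLocalRing.maximalIdeal R, ∃ b, a = c • b := by
      rw [Ideal.map] at ham
      clear ha
      induction ham using Submodule.span_induction with
      | mem x hx =>
        obtain ⟨c, hc, rfl⟩ := hx
        exact ⟨c, hc, 1, by rw [Algebra.smul_def, mul_one]⟩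
      | zero => exact ⟨0, Submodule.zero_mem _, 0, (smul_zero _).symm⟩
      | add x y _ _ hx hy =>
        obtain ⟨c, hc, b, rfl⟩ := hx
        obtain ⟨c', hc', b', rfl⟩ := hy
        rcases ValuationRing.dvd_total c c' with ⟨e, rfl⟩ | ⟨e, rfl⟩
        · exact ⟨c, hc, b + e • b', by rw [smul_add, smul_smul]⟩
        · exact ⟨c', hc', e • b + b', by rw [smul_add, smul_smul]⟩
      | smul z x _ hx =>
        obtain ⟨c, hc, b, rfl⟩ := hx
        exact ⟨c, hc, z * b, by rw [smul_eq_mul, mul_smul_comm]⟩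
    rw [hca]
    by_cases hc0 : c = 0
    · rw [hc0, zero_smul]; exact Submodule.zero_mem _
    · rw [Algebra.smul_def c b]
      exact Submodule.smul_mem_smul (Ideal.mem_map_of_mem _ hcm)
        (mem_nilradical.mpr (hnil c b hc0 (hca ▸ mem_nilradical.mp ha)))
  obtain ⟨t, ht, hta⟩ := Submodule.exists_sub_one_mem_and_smul_eq_zero_of_fg_of_le_smul _ _ hfg hle
  exact ⟨t, ht, fun a ha => hta a ha⟩

theorem isReduced_stalk_of_closed {R : Type u} [CommRing R] [IsDomain R] [ValuationRing R] {X : Scheme.{u}}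
    (f : X ⟶ Spec (CommRingCat.of R)) [LocallyOfFiniteType f] [Flat f]
    (hred : AlgebraicGeometry.IsReduced (f.fiber (IsLocalRing.closedPoint R))) {x : X}
    (hx : f x = IsLocalRing.closedPoint R) : _root_.IsReduced (X.presheaf.stalk x) := by
  obtain ⟨V, hV, hxV, -⟩ := exists_isAffineOpen_mem_and_subset (x := x) (U := ⊤) trivial
  let φ : CommRingCat.of R ⟶ Γ(X, V) := (Scheme.ΓSpecIso (CommRingCat.of R)).inv ≫ f.appLE ⊤ V le_top
  letI := φ.hom.toAlgebra
  have hφ : hV.fromSpec ≫ f = Spec.map φ := by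
    rw [Spec.map_comp, ← (isAffineOpen_top _).SpecMap_appLE_fromSpec f hV le_top, IsAffineOpen.fromSpec_top,
      Scheme.isoSpec_Spec_inv]
  haveI : Flat (Spec.map φ) := hφ ▸ inferInstance
  haveI : LocallyOfFiniteType (Spec.map φ) := hφ ▸ inferInstance
  haveI : Algebra.FiniteType R Γ(X, V) := HasRingHomProperty.Spec_iff.mp ‹LocallyOfFiniteType (Spec.map φ)›
  haveI : Module.Flat R Γ(X, V) := (HasRingHomProperty.Spec_iff (P := @Flat)).mp ‹Flat (Spec.map φ)›
  let P : PrimeSpectrum R := IsLocalRing.closedPoint R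
  let g := Spec.map (CommRingCat.ofHom (algebraMap R Γ(X, V)))
  let Φ : g.fiber P ⟶ f.fiber P :=
    pullback.map g ((Spec (CommRingCat.of R)).fromSpecResidueField P) f ((Spec (CommRingCat.of R)).fromSpecResidueField P)
      hV.fromSpec (𝟙 _) (𝟙 _) (by rw [Category.comp_id]; exact hφ.symm) (by simp)
  haveI : IsOpenImmersion Φ := Scheme.pullback_map_isOpenImmersion _ _ _ _ _ _ _ _ _
  haveI : AlgebraicGeometry.IsReduced (g.fiber P) := @isReduced_of_isOpenImmersion _ _ Φ _ hred
  haveI : AlgebraicGeometry.IsReduced (Spec (CommRingCat.of (P.asIdeal.Fiber Γ(X, V)))) := by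
    haveI : IsOpenImmersion (Spec.fiberToSpecResidueFieldIso R Γ(X, V) P).inv.left := inferInstance
    exact @isReduced_of_isOpenImmersion _ _ (Spec.fiberToSpecResidueFieldIso R Γ(X, V) P).inv.left _
      (show AlgebraicGeometry.IsReduced (g.fiber P) from inferInstance)
  have hF : _root_.IsReduced (P.asIdeal.Fiber Γ(X, V)) :=
    (affine_isReduced_iff (CommRingCat.of (P.asIdeal.Fiber Γ(X, V)))).mp inferInstance
  obtain ⟨t, ht, hta⟩ := exists_mul_nilradical_eq_zero (R := R) (A := Γ(X, V)) fun a ha => by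
    let m := IsLocalRing.maximalIdeal R
    let e := RingEquiv.ofBijective (algebraMap (R ⧸ m) m.ResidueField) m.bijective_algebraMap_quotient_residueField
    let ψ : m.ResidueField →+* Γ(X, V) ⧸ m.map (algebraMap R Γ(X, V)) :=
      (Ideal.quotientMap _ (algebraMap R Γ(X, V)) Ideal.le_comap_map).comp e.symm.toRingHom
    let ψ' : m.ResidueField →ₐ[R] Γ(X, V) ⧸ m.map (algebraMap R Γ(X, V)) :=
      { toRingHom := ψ, commutes' := fun r => by
          show ψ (algebraMap R m.ResidueField r) = _
          have : e.symm (algebraMap R m.ResidueField r) = Ideal.Quotient.mk m r := by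
            rw [RingEquiv.symm_apply_eq]; rfl
          show Ideal.quotientMap (m.map (algebraMap R Γ(X, V))) (algebraMap R Γ(X, V)) Ideal.le_comap_map (e.symm (algebraMap R m.ResidueField r)) = _
          rw [this]; rfl }
    let Ψ : m.ResidueField ⊗[R] Γ(X, V) →ₐ[R] Γ(X, V) ⧸ m.map (algebraMap R Γ(X, V)) :=
      Algebra.TensorProduct.lift ψ' (Ideal.Quotient.mkₐ R _) (fun _ _ => mul_comm _ _)
    have h0 : (1 : m.ResidueField) ⊗ₜ[R] a = 0 :=
      @IsNilpotent.eq_zero _ _ _ _ hF (ha.map (Algebra.TensorProduct.includeRight : Γ(X, V) →ₐ[R] m.ResidueField ⊗[R] Γ(X, V)))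
    have h1 := congrArg Ψ h0
    simp only [Ψ, Algebra.TensorProduct.lift_tmul, map_one, one_mul, map_zero] at h1
    exact Ideal.Quotient.eq_zero_iff_mem.mp h1
  letI := X.presheaf.algebra_section_stalk ⟨x, hxV⟩
  haveI := hV.isLocalization_stalk ⟨x, hxV⟩
  let q := (hV.primeIdealOf ⟨x, hxV⟩)
  have hq : (IsLocalRing.maximalIdeal R).map (algebraMap R Γ(X, V)) ≤ q.asIdeal := by
    rw [Ideal.map_le_iff_le_comap]
    have : PrimeSpectrum.comap (algebraMap R Γ(X, V)) q = P := by
      show Spec.map φ q = P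
      rw [← hφ, Scheme.Hom.comp_apply, hV.fromSpec_primeIdealOf]
      exact hx
    exact (congrArg PrimeSpectrum.asIdeal this).ge
  refine ⟨fun y hy => ?_⟩
  obtain ⟨⟨a, s⟩, rfl⟩ := IsLocalization.mk'_surjective q.asIdeal.primeCompl y
  simp only at hy ⊢
  obtain ⟨k, hk⟩ := hy
  rw [← IsLocalization.mk'_pow, IsLocalization.mk'_eq_zero_iff] at hk
  obtain ⟨u, hu⟩ := hk
  have hua : IsNilpotent ((u : Γ(X, V)) * a) := ⟨k + 1, by
    rw [mul_pow, pow_succ (u : Γ(X, V)), pow_succ a]; linear_combination ((u : Γ(X, V)) ^ k * a) * hu⟩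
  rw [IsLocalization.mk'_eq_zero_iff]
  refine ⟨⟨t * u, q.asIdeal.primeCompl.mul_mem (fun htq => q.2.ne_top ((Ideal.eq_top_iff_one _).mpr ?_)) u.2⟩, ?_⟩
  · simpa using q.asIdeal.sub_mem htq (hq ht)
  · show t * u * a = 0
    rw [mul_assoc]
    exact hta _ hua

theorem isReduced {R : Type u} [CommRing R] [IsDomain R] [ValuationRing R] {X : Scheme.{u}}
    (f : X ⟶ Spec (CommRingCat.of R)) [IsProper f] [Flat f]
    (hred : AlgebraicGeometry.IsReduced (f.fiber (IsLocalRing.closedPoint R))) : AlgebraicGeometry.IsReduced X := by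
  haveI : ∀ x : X, _root_.IsReduced (X.presheaf.stalk x) := fun x => by
    have hcl : IsClosed (f '' closure {x}) := f.isClosedMap _ isClosed_closure
    have hmem : IsLocalRing.closedPoint R ∈ f '' closure {x} :=
      (IsLocalRing.specializes_closedPoint (f x)).mem_closed hcl ⟨x, subset_closure rfl, rfl⟩
    obtain ⟨z, hz, hfz⟩ := hmem
    have hsp : x ⤳ z := specializes_iff_mem_closure.mpr hz
    haveI := isReduced_stalk_of_closed f hred hfz
    obtain ⟨S, hS⟩ := VarGeom.exists_isLocalization_stalkSpecializes hsp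
    letI := (X.presheaf.stalkSpecializes hsp).hom.toAlgebra
    exact isReduced_localizationPreserves S (X.presheaf.stalk x) inferInstance
  exact isReduced_of_isReduced_stalk X

theorem isReduced_fiber {R : Type u} [CommRing R] [IsDomain R] [ValuationRing R] {X : Scheme.{u}}
    (f : X ⟶ Spec (CommRingCat.of R)) [IsProper f] [Flat f]
    (hred : AlgebraicGeometry.IsReduced (f.fiber (IsLocalRing.closedPoint R)))
    (s : Spec (CommRingCat.of R)) : AlgebraicGeometry.IsReduced (f.fiber s) := by
  let p : PrimeSpectrum R := s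
  haveI : Nontrivial (R ⧸ p.asIdeal) := Ideal.Quotient.nontrivial_iff.mpr p.2.ne_top
  haveI : IsLocalRing (R ⧸ p.asIdeal) := IsLocalRing.of_surjective' (Ideal.Quotient.mk p.asIdeal) Ideal.Quotient.mk_surjective
  haveI : ValuationRing (R ⧸ p.asIdeal) := ValuationRing.iff_dvd_total.mpr ⟨fun a b => by
    obtain ⟨a, rfl⟩ := Ideal.Quotient.mk_surjective a
    obtain ⟨b, rfl⟩ := Ideal.Quotient.mk_surjective b
    exact (ValuationRing.dvd_total a b).imp (map_dvd _) (map_dvd _)⟩
  let j : Spec (CommRingCat.of (R ⧸ p.asIdeal)) ⟶ Spec (CommRingCat.of R) :=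
    Spec.map (CommRingCat.ofHom (Ideal.Quotient.mk p.asIdeal))
  haveI : IsClosedImmersion j := IsClosedImmersion.spec_of_surjective _ Ideal.Quotient.mk_surjective
  have key : ∀ y : Spec (CommRingCat.of (R ⧸ p.asIdeal)), AlgebraicGeometry.IsReduced ((pullback.snd f j).fiber y) ↔
      AlgebraicGeometry.IsReduced (f.fiber (j y)) := fun y => by
    haveI : IsIso (j.residueFieldMap y) := (ConcreteCategory.isIso_iff_bijective _).mpr ⟨RingHom.injective _, fun z => by
      obtain ⟨a, rfl⟩ := IsLocalRing.residue_surjective z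
      obtain ⟨b, rfl⟩ := j.stalkMap_surjective y a
      exact ⟨IsLocalRing.residue _ b, rfl⟩⟩
    haveI : IsIso (Spec.map (j.residueFieldMap y)) := inferInstance
    have sq := isPullback_fiberToSpecResidueField_of_isPullback (IsPullback.of_hasPullback f j) y
    haveI := sq.isIso_fst_of_isIso
    exact ⟨fun _ => @isReduced_of_isOpenImmersion _ _ _ (IsOpenImmersion.of_isIso (inv (pullback.map (pullback.snd f j) ((Spec (CommRingCat.of (R ⧸ p.asIdeal))).fromSpecResidueField y) f
      ((Spec (CommRingCat.of R)).fromSpecResidueField (j y)) (pullback.fst f j) (Spec.map (j.residueFieldMap y)) j pullback.condition.symm _))) ‹_›,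
      fun _ => @isReduced_of_isOpenImmersion _ _ _ (IsOpenImmersion.of_isIso (pullback.map (pullback.snd f j) ((Spec (CommRingCat.of (R ⧸ p.asIdeal))).fromSpecResidueField y) f
      ((Spec (CommRingCat.of R)).fromSpecResidueField (j y)) (pullback.fst f j) (Spec.map (j.residueFieldMap y)) j pullback.condition.symm _)) ‹_›⟩
  have hc : j (IsLocalRing.closedPoint (R ⧸ p.asIdeal)) = IsLocalRing.closedPoint R :=
    haveI : IsLocalHom (Ideal.Quotient.mk p.asIdeal) := IsLocalHom.of_surjective _ Ideal.Quotient.mk_surjective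
    IsLocalRing.comap_closedPoint (Ideal.Quotient.mk p.asIdeal)
  have h1 : AlgebraicGeometry.IsReduced ((pullback.snd f j).fiber (IsLocalRing.closedPoint (R ⧸ p.asIdeal))) :=
    (key _).mpr (hc.symm ▸ hred)
  haveI := isReduced (pullback.snd f j) h1
  let η : PrimeSpectrum (R ⧸ p.asIdeal) := ⟨⊥, Ideal.isPrime_bot⟩
  have hη : j η = s := by
    refine PrimeSpectrum.ext ?_
    show Ideal.comap (Ideal.Quotient.mk p.asIdeal) ⊥ = p.asIdeal
    exact Ideal.mk_ker
  rw [← hη]
  exact (key η).mp (_root_.FlatMisc.isReduced_fiber_of_generic (pullback.snd f j) η fun w hw =>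
    PrimeSpectrum.ext (le_bot_iff.mp ((PrimeSpectrum.le_iff_specializes (w : PrimeSpectrum (R ⧸ p.asIdeal)) η).mpr hw)))

end Groth.Agent.FlatMisc.ValuationRed
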