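import Mathlib
import Groth.Agent.FlatMisc.ValuationRed
import Groth.Agent.FlatMisc.GeomRedConstr

/-!
# Openness of the geometrically reduced fibre locus of a flat proper morphism
-/

universe u
set_option autoImplicit false
open AlgebraicGeometry CategoryTheory CategoryTheory.Limits TopologicalSpace Topology

namespace Groth.Agent.FlatMisc.GeomRedOpen

variable {X Y : Scheme.{u}} (f : X ⟶ Y)

theorem isReduced_pullback_generic [IsProper f] [Flat f] {K : Type u} [Field K] (A : ValuationSubring K)
    (h : Spec (CommRingCat.of A) ⟶ Y)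
    (hred : GeometricallyReduced (f.fiberToSpecResidueField (h (IsLocalRing.closedPoint A)))) :
    AlgebraicGeometry.IsReduced (pullback f (Spec.map (CommRingCat.ofHom A.subtype) ≫ h)) := by
  let fA := pullback.snd f h
  have h1 : GeometricallyReduced (fA.fiberToSpecResidueField (IsLocalRing.closedPoint A)) := by
    have := GeomRedConstr.locus_preimage (IsPullback.of_hasPullback f h)
    exact this.ge hred
  have h2 : AlgebraicGeometry.IsReduced (fA.fiber (IsLocalRing.closedPoint A)) :=
    h1.geometrically_isReduced (𝟙 _) (𝟙 _) (fA.fiberToSpecResidueField _) (IsPullback.of_id_fst) |> fun h => h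
  let q : Spec (CommRingCat.of K) ⟶ Spec (CommRingCat.of A) := Spec.map (CommRingCat.ofHom A.subtype)
  obtain ⟨⟨η, φ⟩, hq⟩ := (Scheme.SpecToEquivOfField K (Spec (CommRingCat.of A))).symm.surjective q
  change Spec.map φ ≫ (Spec (CommRingCat.of A)).fromSpecResidueField η = q at hq
  have hfac : ∀ a : A, ∃ r, φ.hom r = (a : K) := by
    obtain ⟨t, ht⟩ := Spec.map_surjective ((Spec (CommRingCat.of A)).fromSpecResidueField η)
    rw [← ht, ← Spec.map_comp] at hq
    have h3 := Spec.map_injective hq
    exact fun a => ⟨t.hom a, congrArg (fun k => k.hom a) h3⟩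
  haveI : IsIso φ := (ConcreteCategory.isIso_iff_bijective _).mpr ⟨RingHom.injective _, fun z => by
    rcases A.mem_or_inv_mem z with hz | hz
    · exact hfac ⟨z, hz⟩
    · obtain ⟨r, hr⟩ := hfac ⟨z⁻¹, hz⟩
      exact ⟨r⁻¹, by show φ.hom r⁻¹ = z; rw [map_inv₀, hr, inv_inv]⟩⟩
  have h4 : AlgebraicGeometry.IsReduced (fA.fiber η) := ValuationRed.isReduced_fiber fA h2 η
  haveI : IsIso (pullback.fst (fA.fiberToSpecResidueField η) (Spec.map φ)) := inferInstance
  haveI : AlgebraicGeometry.IsReduced (pullback (fA.fiberToSpecResidueField η) (Spec.map φ)) :=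
    @isReduced_of_isOpenImmersion _ _ (pullback.fst (fA.fiberToSpecResidueField η) (Spec.map φ))
      (IsOpenImmersion.of_isIso _) h4
  let e : pullback (fA.fiberToSpecResidueField η) (Spec.map φ) ≅
      pullback f ((Spec.map φ ≫ (Spec (CommRingCat.of A)).fromSpecResidueField η) ≫ h) :=
    pullbackLeftPullbackSndIso fA ((Spec (CommRingCat.of A)).fromSpecResidueField η) (Spec.map φ) ≪≫
      pullbackLeftPullbackSndIso f h (Spec.map φ ≫ (Spec (CommRingCat.of A)).fromSpecResidueField η)
  show AlgebraicGeometry.IsReduced (pullback f (q ≫ h))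
  rw [← hq]
  exact @isReduced_of_isOpenImmersion _ _ e.inv (IsOpenImmersion.of_isIso _) inferInstance

theorem stable_generalization [IsProper f] [Flat f] {y y' : Y} (hsp : y' ⤳ y)
    (hy : y ∈ GeomRedConstr.locus f) : y' ∈ GeomRedConstr.locus f := by
  refine (GeomRedConstr.geometricallyReduced_fiber_iff f y').mpr fun K _ φ => ?_
  obtain ⟨φ', rfl⟩ := Spec.map_surjective φ
  let g : Y.presheaf.stalk y ⟶ CommRingCat.of K := Y.presheaf.stalkSpecializes hsp ≫ Y.residue y' ≫ φ'
  obtain ⟨A, hA, hloc⟩ := IsLocalRing.exists_factor_valuationRing g.hom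
  let g' : Y.presheaf.stalk y ⟶ CommRingCat.of A := CommRingCat.ofHom (g.hom.codRestrict A.toSubring hA)
  haveI : IsLocalHom g'.hom := hloc
  let h := Spec.map g' ≫ Y.fromSpecStalk y
  have hcl : h (IsLocalRing.closedPoint A) = y := by
    show Y.fromSpecStalk y (Spec.map g' (IsLocalRing.closedPoint A)) = y
    rw [show Spec.map g' (IsLocalRing.closedPoint A) = IsLocalRing.closedPoint (Y.presheaf.stalk y) from
      IsLocalRing.comap_closedPoint g'.hom, Scheme.fromSpecStalk_closedPoint]
  have hcomp : Spec.map (CommRingCat.ofHom A.subtype) ≫ h = Spec.map φ' ≫ Y.fromSpecResidueField y' := by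
    rw [← Spec.map_comp_assoc, Scheme.fromSpecResidueField, ← Scheme.SpecMap_stalkSpecializes_fromSpecStalk hsp,
      ← Spec.map_comp_assoc, ← Spec.map_comp_assoc]
    rfl
  rw [← hcomp]
  exact isReduced_pullback_generic f A h (hcl.symm ▸ hy)

theorem isOpen_locus [IsProper f] [Flat f] [LocallyOfFinitePresentation f] : IsOpen (GeomRedConstr.locus f) := by
  rw [isOpen_iff_forall_mem_open]
  intro y hy
  obtain ⟨V, hV, hyV, -⟩ := exists_isAffineOpen_mem_and_subset (x := y) (U := ⊤) trivial
  refine ⟨hV.fromSpec '' (hV.fromSpec ⁻¹' GeomRedConstr.locus f), Set.image_preimage_subset _ _,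
    hV.fromSpec.isOpenEmbedding.isOpenMap _ ?_, ?_⟩
  · refine PrimeSpectrum.isOpen_of_stableUnderGeneralization_of_isConstructible (R := Γ(Y, V))
      (fun a b hba ha => stable_generalization f (hba.map hV.fromSpec.continuous) ha) ?_
    haveI : CompactSpace (PrimeSpectrum Γ(Y, V)) := inferInstance
    exact ((GeomRedConstr.isLocallyConstructible_locus f).preimage_of_isOpenEmbedding
      hV.fromSpec.isOpenEmbedding : IsLocallyConstructible (X := PrimeSpectrum Γ(Y, V)) _).isConstructible
  · obtain ⟨a, ha⟩ : y ∈ Set.range hV.fromSpec := by rw [hV.range_fromSpec]; exact hyV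
    exact ⟨a, by rw [Set.mem_preimage, ha]; exact hy, ha⟩

end Groth.Agent.FlatMisc.GeomRedOpen
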