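import Mathlib

universe u
set_option autoImplicit false
open AlgebraicGeometry CategoryTheory TopologicalSpace

namespace FlatMisc

variable {R : Type u} [CommRing R] {Y : Scheme.{u}} (q : Y ⟶ Spec (CommRingCat.of R))

/-- image of `r` in the sections over `U` -/
noncomputable def secOf (U : Y.Opens) : R →+* Γ(Y, U) :=
  ((Scheme.ΓSpecIso (CommRingCat.of R)).inv ≫ q.appLE ⊤ U (fun _ _ => trivial)).hom

theorem map_secOf {U V : Y.Opens} (h : V ≤ U) (r : R) :
    (Y.presheaf.map (homOfLE h).op).hom (secOf q U r) = secOf q V r := by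
  rw [secOf, secOf, ← CommRingCat.comp_apply, Category.assoc, Scheme.Hom.appLE_map]

/-- colon of an ideal sheaf by a base element -/
noncomputable def colonData (I : Y.IdealSheafData) (r : R) : Y.IdealSheafData where
  ideal U := (I.ideal U).colon {secOf q U.1 r}
  map_ideal_basicOpen U g := by
    letI := (Y.presheaf.map (homOfLE (Y.basicOpen_le g)).op).hom.toAlgebra
    haveI : IsLocalization.Away g Γ(Y, Y.basicOpen g) := U.2.isLocalization_basicOpen g
    have hr : algebraMap Γ(Y, U.1) Γ(Y, Y.basicOpen g) (secOf q U.1 r) = secOf q (Y.basicOpen g) r :=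
      map_secOf q (Y.basicOpen_le g) r
    let J : Ideal Γ(Y, Y.basicOpen g) := I.ideal (Y.affineBasicOpen g)
    have hI : (I.ideal U).map (algebraMap Γ(Y, U.1) Γ(Y, Y.basicOpen g)) = J :=
      I.map_ideal_basicOpen U g
    change ((I.ideal U).colon {secOf q U.1 r}).map (algebraMap Γ(Y, U.1) Γ(Y, Y.basicOpen g)) =
      Submodule.colon J {secOf q (Y.basicOpen g) r}
    apply le_antisymm
    · rw [Ideal.map_le_iff_le_comap]
      intro a ha
      have h1 : a * secOf q U.1 r ∈ I.ideal U := Submodule.mem_colon_singleton.mp ha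
      have h2 := Ideal.mem_map_of_mem (algebraMap Γ(Y, U.1) Γ(Y, Y.basicOpen g)) h1
      rw [hI, map_mul, hr] at h2
      exact Submodule.mem_colon_singleton.mpr h2
    · intro y hy
      obtain ⟨a, ⟨_, n, rfl⟩, rfl⟩ := IsLocalization.exists_mk'_eq (Submonoid.powers g) y
      have h1 := Submodule.mem_colon_singleton.mp hy
      rw [← hI] at h1
      simp only [smul_eq_mul] at h1
      have h2 : algebraMap Γ(Y, U.1) Γ(Y, Y.basicOpen g) (a * secOf q U.1 r) ∈
          (I.ideal U).map (algebraMap Γ(Y, U.1) Γ(Y, Y.basicOpen g)) := by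
        have : algebraMap Γ(Y, U.1) Γ(Y, Y.basicOpen g) (a * secOf q U.1 r) =
            algebraMap Γ(Y, U.1) Γ(Y, Y.basicOpen g) (g ^ n) *
              (IsLocalization.mk' Γ(Y, Y.basicOpen g) a (⟨g ^ n, n, rfl⟩ : Submonoid.powers g) *
                secOf q (Y.basicOpen g) r) := by
          rw [← mul_assoc, IsLocalization.mk'_spec'_mk, map_mul, hr]
        rw [this]
        exact Ideal.mul_mem_left _ _ h1
      obtain ⟨_, ⟨m, rfl⟩, hm⟩ := (IsLocalization.algebraMap_mem_map_algebraMap_iff (Submonoid.powers g) _ _ _).mp h2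
      refine (IsLocalization.mk'_mem_map_algebraMap_iff (Submonoid.powers g) _ _ _ _).mpr ⟨g ^ m, ⟨m, rfl⟩, ?_⟩
      refine Submodule.mem_colon_singleton.mpr ?_
      rw [smul_eq_mul, mul_assoc]
      exact hm

variable {X : Scheme.{u}} (f : X ⟶ Y)

theorem eq_zero_of_secOf_mul [IsDomain R] [Flat (f ≫ q)] (U : Y.Opens) (r : R) (hr : r ≠ 0)
    (s : Γ(Y, U)) (h : (f.app U).hom (secOf q U r * s) = 0) : (f.app U).hom s = 0 := by
  have hcov : ∀ x : ↥(f ⁻¹ᵁ U), ∃ W : X.Opens, IsAffineOpen W ∧ (x : X) ∈ W ∧ W ≤ f ⁻¹ᵁ U := fun x => by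
    obtain ⟨_, ⟨W, hW, rfl⟩, hxW, hWle⟩ := X.isBasis_affineOpens.exists_subset_of_mem_open x.2 (f ⁻¹ᵁ U).isOpen
    exact ⟨W, hW, hxW, hWle⟩
  choose W hWaff hxW hWle using hcov
  apply X.sheaf.eq_of_locally_eq' W (f ⁻¹ᵁ U) (fun x => homOfLE (hWle x))
    (fun x hx => Opens.mem_iSup.mpr ⟨⟨x, hx⟩, hxW ⟨x, hx⟩⟩)
  intro x
  have hle := hWle x
  change (X.presheaf.map (homOfLE hle).op).hom ((f.app U).hom s) = (X.presheaf.map (homOfLE hle).op).hom 0
  have h' := congrArg (X.presheaf.map (homOfLE hle).op).hom h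
  rw [map_mul, map_mul, map_zero] at h'
  rw [map_zero]
  have hsec : (X.presheaf.map (homOfLE hle).op).hom ((f.app U).hom (secOf q U r)) = secOf (f ≫ q) (W x) r := by
    rw [secOf, secOf, ← Scheme.Hom.appLE_comp_appLE f q ⊤ U (W x) (fun _ _ => trivial) hle]
    rfl
  rw [hsec] at h'
  have hflat : RingHom.Flat (secOf (f ≫ q) (W x)) := by
    have h1 := (f ≫ q).flat_appLE (isAffineOpen_top _) (hWaff x) (fun _ _ => trivial)
    exact RingHom.Flat.comp (RingHom.Flat.of_bijective (ConcreteCategory.bijective_of_isIso (Scheme.ΓSpecIso (CommRingCat.of R)).inv)) h1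
  letI := (secOf (f ≫ q) (W x)).toAlgebra
  haveI : Module.Flat R Γ(X, W x) := hflat
  have hreg := Module.IsTorsionFree.isSMulRegular (M := Γ(X, W x)) (isRegular_of_ne_zero hr)
  exact hreg (show r • _ = r • (0 : Γ(X, W x)) by rw [Algebra.smul_def, smul_zero]; exact h')

/-- torsion-freeness of the kernel ideal sheaf -/
theorem mem_ker_ideal_of_secOf_mul_mem [IsDomain R] [Flat (f ≫ q)] (U : Y.affineOpens) (r : R) (hr : r ≠ 0)
    (s : Γ(Y, U.1)) (h : secOf q U.1 r * s ∈ f.ker.ideal U) : s ∈ f.ker.ideal U := by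
  have hle : colonData q f.ker r ≤ f.ker := by
    refine Scheme.IdealSheafData.le_ofIdeals_iff.mpr (fun V a ha => ?_)
    have h1 : a * secOf q V.1 r ∈ f.ker.ideal V := Submodule.mem_colon_singleton.mp ha
    have h2 := f.ideal_ker_le V h1
    rw [RingHom.mem_ker, mul_comm] at h2
    exact eq_zero_of_secOf_mul q f V.1 r hr a h2
  refine hle U (Submodule.mem_colon_singleton.mpr ?_)
  rw [smul_eq_mul, mul_comm]
  exact h

theorem flat_imageι [IsDedekindDomain R] [Flat (f ≫ q)] : Flat (f.imageι ≫ q) := by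
  rw [HasRingHomProperty.iff_exists_appLE (P := @Flat) (RingHom.Flat.stableUnderComposition.stableUnderCompositionWithLocalizationAway RingHom.Flat.holdsForLocalizationAway |>.1)]
  intro x
  obtain ⟨_, ⟨U, hU, rfl⟩, hxU, -⟩ :=
    Y.isBasis_affineOpens.exists_subset_of_mem_open (Set.mem_univ (f.imageι x)) isOpen_univ
  refine ⟨⟨⊤, isAffineOpen_top _⟩, ⟨f.imageι ⁻¹ᵁ U, hU.preimage _⟩, hxU, fun _ _ => trivial, ?_⟩
  let h : R →+* Γ(f.image, f.imageι ⁻¹ᵁ U) := (f.imageι.app U).hom.comp (secOf q U)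
  have hflat : h.Flat := by
    letI := h.toAlgebra
    haveI : Module.IsTorsionFree R Γ(f.image, f.imageι ⁻¹ᵁ U) := by
      refine ⟨fun r hr => ?_⟩
      have hr0 : r ≠ 0 := hr.ne_zero
      intro a b hab
      obtain ⟨a, rfl⟩ := f.ker.subschemeι_app_surjective ⟨U, hU⟩ a
      obtain ⟨b, rfl⟩ := f.ker.subschemeι_app_surjective ⟨U, hU⟩ b
      simp only [Algebra.smul_def] at hab
      rw [← sub_eq_zero, ← map_sub, ← RingHom.mem_ker, f.ker.ker_subschemeι_app ⟨U, hU⟩]
      refine mem_ker_ideal_of_secOf_mul_mem q f ⟨U, hU⟩ r hr0 _ ?_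
      rw [← f.ker.ker_subschemeι_app ⟨U, hU⟩, RingHom.mem_ker, map_mul, map_sub, mul_sub]
      exact sub_eq_zero.mpr hab
    exact (inferInstance : Module.Flat R Γ(f.image, f.imageι ⁻¹ᵁ U))
  have : ((f.imageι ≫ q).appLE ⊤ (f.imageι ⁻¹ᵁ U) (fun _ _ => trivial)).hom =
      h.comp (Scheme.ΓSpecIso (CommRingCat.of R)).hom.hom := by
    rw [← Scheme.Hom.appLE_comp_appLE f.imageι q ⊤ U (f.imageι ⁻¹ᵁ U) (fun _ _ => trivial) le_rfl, Scheme.Hom.appLE_eq_app]
    simp only [h, secOf, CommRingCat.hom_comp, RingHom.comp_assoc]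
    ext a
    simp only [RingHom.comp_apply]
    congr 2
    exact (ConcreteCategory.congr_hom (Scheme.ΓSpecIso (CommRingCat.of R)).hom_inv_id a).symm
  rw [this]
  exact RingHom.Flat.comp (RingHom.Flat.of_bijective (ConcreteCategory.bijective_of_isIso (Scheme.ΓSpecIso (CommRingCat.of R)).hom)) hflat

end FlatMisc
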