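import Mathlib

universe u
set_option autoImplicit false
open AlgebraicGeometry CategoryTheory Limits

namespace FlatMisc

/-- The lifting property against injective ring maps. -/
def InjLift {X Y : Scheme.{u}} (f : X ⟶ Y) : Prop :=
  ∀ (A B : Type u) [CommRing A] [CommRing B] (φ : A →+* B), Function.Injective φ →
      ∀ (a : Spec (CommRingCat.of B) ⟶ X) (b : Spec (CommRingCat.of A) ⟶ Y), Spec.map (CommRingCat.ofHom φ) ≫ b = a ≫ f →
        ∃ l : Spec (CommRingCat.of A) ⟶ X, Spec.map (CommRingCat.ofHom φ) ≫ l = a ∧ l ≫ f = b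

theorem injLift_of_isClosedImmersion {X Y : Scheme.{u}} (f : X ⟶ Y) [IsClosedImmersion f] : InjLift f := by
  intro A B _ _ φ hφ a b hab
  let s : Spec (CommRingCat.of B) ⟶ pullback f b := pullback.lift a (Spec.map (CommRingCat.ofHom φ)) hab.symm
  haveI : IsClosedImmersion (pullback.snd f b) := inferInstance
  have hker : (Spec.map (CommRingCat.ofHom φ)).ker = ⊥ := by
    refine Scheme.IdealSheafData.ext_of_isAffine ?_
    rw [(Spec.map (CommRingCat.ofHom φ)).ker_apply ⟨⊤, isAffineOpen_top _⟩, Scheme.IdealSheafData.ideal_bot,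
      Pi.bot_apply, ← RingHom.injective_iff_ker_eq_bot]
    have key : Function.Injective ((CommRingCat.ofHom φ) : CommRingCat.of A ⟶ CommRingCat.of B).hom := hφ
    intro x y hxy
    apply (ConcreteCategory.bijective_of_isIso (Scheme.ΓSpecIso (CommRingCat.of A)).hom).1
    apply key
    have h1 := Scheme.ΓSpecIso_naturality (CommRingCat.ofHom φ)
    rw [← CommRingCat.comp_apply, ← CommRingCat.comp_apply, ← h1, CommRingCat.comp_apply, CommRingCat.comp_apply]
    exact congrArg _ hxy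
  haveI : IsIso (pullback.snd f b) := by
    rw [IsClosedImmersion.isIso_iff_ker_eq_bot, eq_bot_iff, ← hker,
      show Spec.map (CommRingCat.ofHom φ) = s ≫ pullback.snd f b from (pullback.lift_snd _ _ _).symm]
    exact Scheme.Hom.le_ker_comp _ _
  refine ⟨inv (pullback.snd f b) ≫ pullback.fst f b, ?_, ?_⟩
  · rw [show Spec.map (CommRingCat.ofHom φ) = s ≫ pullback.snd f b from (pullback.lift_snd _ _ _).symm,
      Category.assoc, IsIso.hom_inv_id_assoc, pullback.lift_fst]
  · rw [Category.assoc, pullback.condition, IsIso.inv_hom_id_assoc]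

theorem injLift_baseChange {X Y X' Y' : Scheme.{u}} {f : X ⟶ Y} {f' : X' ⟶ Y'} {gx : X' ⟶ X} {gy : Y' ⟶ Y}
    (h : IsPullback gx f' f gy) [Mono gy] (hf : InjLift f) : InjLift f' := by
  intro A B _ _ φ hφ a b hab
  obtain ⟨l, hl1, hl2⟩ := hf A B φ hφ (a ≫ gx) (b ≫ gy) (by rw [Category.assoc, h.w, reassoc_of% hab])
  refine ⟨h.lift l b hl2, ?_, h.lift_snd _ _ _⟩
  apply h.hom_ext
  · rw [Category.assoc, h.lift_fst, hl1]
  · rw [Category.assoc, h.lift_snd, hab]

theorem isClosedImmersion_of_injLift_affine {X Y : Scheme.{u}} [IsAffine Y] [CompactSpace X] (f : X ⟶ Y)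
    (hf : InjLift f) : IsClosedImmersion f := by
  let 𝒰 := X.affineCover.finiteSubcover
  haveI : ∀ i, IsAffine (𝒰.X i) := fun i => by dsimp [𝒰]; infer_instance
  haveI : Finite 𝒰.I₀ := inferInstanceAs (Finite X.affineCover.finiteSubcover.I₀)
  let Z : Scheme.{u} := ∐ 𝒰.X
  let p : Z ⟶ X := Sigma.desc 𝒰.f
  haveI : IsAffine Z := inferInstanceAs (IsAffine (∐ 𝒰.X))
  have hp : Function.Injective p.appTop.hom := by
    rw [injective_iff_map_eq_zero]
    intro s hs
    refine Scheme.zero_of_zero_cover s 𝒰 (fun i => ?_)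
    have hi : Sigma.ι 𝒰.X i ≫ p = 𝒰.f i := Sigma.ι_desc _ _
    have h := ConcreteCategory.congr_hom (congrArg Scheme.Hom.appTop hi) s
    rw [Scheme.Hom.comp_appTop] at h
    refine h.symm.trans ?_
    change (Sigma.ι 𝒰.X i).appTop.hom (p.appTop.hom s) = 0
    rw [hs, map_zero]
  let K : Ideal Γ(Y, ⊤) := RingHom.ker f.appTop.hom
  let q : Γ(Y, ⊤) →+* Γ(Y, ⊤) ⧸ K := Ideal.Quotient.mk K
  let ψ : Γ(Y, ⊤) ⧸ K →+* Γ(X, ⊤) := Ideal.Quotient.lift K f.appTop.hom (fun x hx => hx)
  have hψ : Function.Injective ψ := RingHom.lift_injective_of_ker_le_ideal K _ le_rfl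
  let φ : Γ(Y, ⊤) ⧸ K →+* Γ(Z, ⊤) := p.appTop.hom.comp ψ
  let b : Spec (CommRingCat.of (Γ(Y, ⊤) ⧸ K)) ⟶ Y := Spec.map (CommRingCat.ofHom q) ≫ Y.isoSpec.inv
  haveI : IsClosedImmersion b := by
    have : IsClosedImmersion (Spec.map (CommRingCat.ofHom q)) := IsClosedImmersion.spec_of_surjective _ Ideal.Quotient.mk_surjective
    infer_instance
  let h : X ⟶ Spec (CommRingCat.of (Γ(Y, ⊤) ⧸ K)) := X.toSpecΓ ≫ Spec.map (CommRingCat.ofHom ψ)
  have hb : h ≫ b = f := by
    simp only [h, b, Category.assoc]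
    rw [← Spec.map_comp_assoc]
    have : CommRingCat.ofHom q ≫ CommRingCat.ofHom ψ = f.appTop := rfl
    rw [this, ← Category.assoc, ← Scheme.toSpecΓ_naturality, Category.assoc, ← Scheme.isoSpec_hom,
      Iso.hom_inv_id, Category.comp_id]
  have hφeq : Z.isoSpec.inv ≫ p ≫ h = Spec.map (CommRingCat.ofHom φ) := by
    rw [Iso.inv_comp_eq, Scheme.isoSpec_hom]
    simp only [h]
    rw [← Category.assoc, Scheme.toSpecΓ_naturality, Category.assoc, ← Spec.map_comp]
    rfl
  obtain ⟨l, hl1, hl2⟩ := hf _ _ φ (hp.comp hψ) (Z.isoSpec.inv ≫ p) b (by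
    rw [← hφeq]; simp only [Category.assoc, hb])
  have hlh : l ≫ h = 𝟙 _ := by
    rw [← cancel_mono b, Category.assoc, hb, hl2, Category.id_comp]
  have hhl : h ≫ l = 𝟙 X := by
    refine Scheme.Cover.hom_ext 𝒰 _ _ (fun i => ?_)
    have h1 : p ≫ h ≫ l = p := by
      rw [← hφeq] at hl1
      simpa [Iso.inv_comp_eq] using hl1
    have hi : Sigma.ι 𝒰.X i ≫ p = 𝒰.f i := Sigma.ι_desc _ _
    rw [← hi, Category.assoc, h1, Category.assoc, Category.comp_id]
  haveI : IsIso h := ⟨l, hhl, hlh⟩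
  rw [← hb]; infer_instance

theorem isClosedImmersion_iff_injLift {X Y : Scheme.{u}} (f : X ⟶ Y) [QuasiCompact f] :
    IsClosedImmersion f ↔ InjLift f := by
  refine ⟨fun _ => injLift_of_isClosedImmersion f, fun hf => ?_⟩
  rw [IsZariskiLocalAtTarget.iff_of_openCover (P := @IsClosedImmersion) Y.affineCover]
  intro i
  haveI : CompactSpace ↥(pullback f (Y.affineCover.f i)) :=
    QuasiCompact.compactSpace_of_compactSpace (pullback.snd f (Y.affineCover.f i))
  exact @isClosedImmersion_of_injLift_affine _ _ inferInstance (by assumption) (pullback.snd f (Y.affineCover.f i))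
    (injLift_baseChange (IsPullback.of_hasPullback f (Y.affineCover.f i)) hf)

end FlatMisc
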