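import Groth.Agent.AlgSpLib.Descent2
import Groth.Prelude.Def_MoreMor
import Mathlib

/-!
# Local Noetherianity of fibres and fppf descent
-/

set_option autoImplicit false
set_option linter.style.haveILetI false

open AlgebraicGeometry CategoryTheory Limits

namespace Groth.Agent.NoethFibres

universe u

theorem descend_affineHom {X' X : Scheme.{u}} (p : X' ⟶ X) [Flat p] [Surjective p] [IsAffineHom p]
    [IsLocallyNoetherian X'] : IsLocallyNoetherian X := by
  refine ⟨fun V => ?_⟩
  haveI : IsAffine (V.1 : Scheme.{u}) := V.2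
  haveI : IsAffine (p ⁻¹ᵁ V.1 : Scheme.{u}) := V.2.preimage p
  haveI : Surjective (p ∣_ V.1) := IsZariskiLocalAtTarget.restrict (P := @Surjective) ‹_› _
  haveI : Flat (p ∣_ V.1) := MorphismProperty.of_isPullback (isPullback_morphismRestrict p V.1).flip ‹_›
  have hff := (Flat.flat_and_surjective_iff_faithfullyFlat_of_isAffine (f := p ∣_ V.1)).1 ⟨inferInstance, inferInstance⟩
  algebraize [(p ∣_ V.1).appTop.hom]
  haveI : IsNoetherianRing Γ((p ⁻¹ᵁ V.1).toScheme, ⊤) := IsLocallyNoetherian.component_noetherian ⟨⊤, isAffineOpen_top _⟩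
  haveI : IsNoetherianRing Γ(V.1, ⊤) := AlgSpLib.isNoetherianRing_of_faithfullyFlat _ Γ((p ⁻¹ᵁ V.1).toScheme, ⊤)
  exact isNoetherianRing_of_ringEquiv Γ(V.1, ⊤) V.1.topIso.commRingCatIsoToRingEquiv

theorem baseField_noetherian {k K : CommRingCat.{u}} [IsNoetherianRing k] (φ : k ⟶ K) (hφ : φ.hom.EssFiniteType)
    {X : Scheme.{u}} (p : X ⟶ Spec k) [IsLocallyNoetherian X] : IsLocallyNoetherian (pullback p (Spec.map φ)) := by
  rw [isLocallyNoetherian_iff_openCover (Scheme.Pullback.openCoverOfLeft X.affineCover p (Spec.map φ))]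
  intro i
  obtain ⟨B, hB⟩ : ∃ B : CommRingCat.{u}, X.affineCover.X i = Spec B := ⟨_, rfl⟩
  show IsLocallyNoetherian (pullback (X.affineCover.f i ≫ p) (Spec.map φ))
  generalize X.affineCover.f i ≫ p = q
  haveI : IsLocallyNoetherian (X.affineCover.X i) := @isLocallyNoetherian_of_isOpenImmersion _ _ (X.affineCover.f i) (X.affineCover.map_prop i) _
  revert q
  generalize X.affineCover.X i = U at hB ‹IsLocallyNoetherian (X.affineCover.X i)›
  subst hB
  intro q
  haveI : IsNoetherianRing B := isLocallyNoetherian_Spec.1 ‹_›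
  obtain ⟨ψ, rfl⟩ := Spec.map_surjective q
  letI := ψ.hom.toAlgebra
  letI := φ.hom.toAlgebra
  haveI : Algebra.EssFiniteType k K := hφ
  haveI : IsNoetherianRing (TensorProduct k B K) := Algebra.EssFiniteType.isNoetherianRing B _
  exact isLocallyNoetherian_of_isOpenImmersion (pullbackSpecIso k B K).hom

theorem essFiniteType_residueFieldMap {X Y : Scheme.{u}} (f : X ⟶ Y) [LocallyOfFiniteType f] (x : X) :
    (f.residueFieldMap x).hom.EssFiniteType := by
  letI : Algebra (Y.presheaf.stalk (f x)) (X.presheaf.stalk x) := (f.stalkMap x).hom.toAlgebra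
  letI : Algebra (Y.residueField (f x)) (X.residueField x) := (f.residueFieldMap x).hom.toAlgebra
  letI : Algebra (Y.presheaf.stalk (f x)) (Y.residueField (f x)) := (Y.residue (f x)).hom.toAlgebra
  letI : Algebra (X.presheaf.stalk x) (X.residueField x) := (X.residue x).hom.toAlgebra
  letI : Algebra (Y.presheaf.stalk (f x)) (X.residueField x) := ((f.stalkMap x) ≫ X.residue x).hom.toAlgebra
  haveI : IsScalarTower (Y.presheaf.stalk (f x)) (X.presheaf.stalk x) (X.residueField x) :=
    IsScalarTower.of_algebraMap_eq fun _ => rfl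
  haveI : IsScalarTower (Y.presheaf.stalk (f x)) (Y.residueField (f x)) (X.residueField x) :=
    IsScalarTower.of_algebraMap_eq' (congrArg CommRingCat.Hom.hom (Scheme.residue_residueFieldMap f x)).symm
  haveI : Algebra.EssFiniteType (Y.presheaf.stalk (f x)) (X.presheaf.stalk x) := LocallyOfFiniteType.stalkMap f x
  haveI : Algebra.EssFiniteType (Y.presheaf.stalk (f x)) (X.residueField x) :=
    Algebra.EssFiniteType.of_surjective (IsScalarTower.toAlgHom _ (X.presheaf.stalk x) (X.residueField x))
      (X.residue_surjective x)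
  exact Algebra.EssFiniteType.of_comp (Y.presheaf.stalk (f x)) (Y.residueField (f x)) (X.residueField x)

theorem iff_of_baseChange {X Y X' Y' : Scheme.{u}} (f : X ⟶ Y) (f' : X' ⟶ Y') (g' : X' ⟶ X) (g : Y' ⟶ Y)
    [Flat g] [LocallyOfFiniteType g] [Surjective g] (hc : IsPullback g' f' f g) :
    (∀ y : Y, IsLocallyNoetherian (f.fiber y)) ↔ ∀ y' : Y', IsLocallyNoetherian (f'.fiber y') := by
  have key : ∀ y' : Y', IsLocallyNoetherian (f.fiber (g y')) ↔ IsLocallyNoetherian (f'.fiber y') := by
    intro y'
    have h := isPullback_fiberToSpecResidueField_of_isPullback hc y'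
    constructor
    · intro hN
      exact @isLocallyNoetherian_of_isOpenImmersion _ _ h.isoPullback.hom
        (@IsOpenImmersion.of_isIso _ _ _ (Iso.isIso_hom h.isoPullback))
        (baseField_noetherian (g.residueFieldMap y') (essFiniteType_residueFieldMap g y') (f.fiberToSpecResidueField (g y')))
    · intro hN
      letI := (g.residueFieldMap y').hom.toAlgebra
      haveI : Flat (Spec.map (g.residueFieldMap y')) := by
        rw [HasRingHomProperty.Spec_iff (P := @Flat)]
        exact RingHom.flat_algebraMap_iff.2 (inferInstance : Module.Flat (Y.residueField (g y')) (Y'.residueField y'))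
      haveI : Surjective (Spec.map (g.residueFieldMap y')) := ⟨fun a => ⟨(IsLocalRing.closedPoint (Y'.residueField y')), Subsingleton.elim (α := PrimeSpectrum _) _ _⟩⟩
      exact @descend_affineHom _ _ _ (MorphismProperty.of_isPullback (P := @Flat) h.flip ‹_›)
        (MorphismProperty.of_isPullback (P := @Surjective) h.flip ‹_›)
        (MorphismProperty.of_isPullback (P := @IsAffineHom) h.flip inferInstance) hN
  exact ⟨fun h y' => (key y').1 (h _), fun h y => by obtain ⟨y', rfl⟩ := g.surjective y; exact (key y').2 (h y')⟩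

theorem iff_of_cover {X X' Y : Scheme.{u}} (f : X ⟶ Y) (a : X' ⟶ X) [Flat a] [LocallyOfFinitePresentation a] [Surjective a] :
    (∀ y : Y, IsLocallyNoetherian (f.fiber y)) ↔ ∀ y : Y, IsLocallyNoetherian ((a ≫ f).fiber y) := by
  refine forall_congr' fun y => ?_
  have h : IsPullback ((a ≫ f).fiberι y) (MoreMor.fiberMap a f y) a (f.fiberι y) := by
    have e : MoreMor.fiberMap a f y ≫ pullback.snd f (Y.fromSpecResidueField y) =
        pullback.snd (a ≫ f) (Y.fromSpecResidueField y) := pullback.lift_snd _ _ _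
    refine IsPullback.of_bot ?_ (pullback.lift_fst _ _ _).symm (IsPullback.of_hasPullback f (Y.fromSpecResidueField y))
    rw [e]
    exact IsPullback.of_hasPullback (a ≫ f) (Y.fromSpecResidueField y)
  haveI := MorphismProperty.of_isPullback (P := @Flat) h ‹_›
  haveI := MorphismProperty.of_isPullback (P := @Surjective) h ‹_›
  haveI := MorphismProperty.of_isPullback (P := @LocallyOfFinitePresentation) h ‹_›
  exact ⟨fun _ => LocallyOfFiniteType.isLocallyNoetherian (MoreMor.fiberMap a f y),
    fun _ => AlgSpLib.isLocallyNoetherian_of_flat (MoreMor.fiberMap a f y)⟩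

end Groth.Agent.NoethFibres
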