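import Groth.Agent.Approx.FiniteFP
import Groth.Agent.MorLib.DescendOpen
import Groth.Agent.MorLib.IdealFG2
import Groth.Agent.S12442
import Mathlib

/-! Quasi-finite separated finitely presented morphisms are open in finite finitely presented ones. -/

set_option autoImplicit false
set_option backward.isDefEq.respectTransparency.types false

universe u

open AlgebraicGeometry CategoryTheory Limits TopologicalSpace
open Scheme (IdealSheafData)

namespace Groth.Agent.FlatMisc.OpenFiniteFP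

open Groth.Agent.MorLib.IdealFG

/-- A finitely generated ideal sheaf below `I`, equal to it on finitely many affines. -/
theorem exists_fg_ext {X : Scheme.{u}} [CompactSpace X] [QuasiSeparatedSpace X] (I : X.IdealSheafData)
    (s : Finset X.affineOpens) (h : ∀ V ∈ s, (I.ideal V).FG) :
    ∃ K : X.IdealSheafData, K ≤ I ∧ IsFG K ∧ ∀ V ∈ s, I.ideal V ≤ K.ideal V := by
  classical
  induction s using Finset.induction_on with
  | empty => exact ⟨⊥, bot_le, isFG_bot, by simp⟩
  | insert V t _ ih =>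
    obtain ⟨K, hK, hfg, hKt⟩ := ih fun W hW => h W (Finset.mem_insert_of_mem hW)
    obtain ⟨K', hK', hfg', hKV⟩ := exists_fg_le I V (I.ideal V) (h V (Finset.mem_insert_self _ _)) le_rfl
    refine ⟨K ⊔ K', sup_le hK hK', isFG_sup hfg hfg', fun W hW => ?_⟩
    rcases Finset.mem_insert.mp hW with rfl | hW
    · exact hKV.trans ((le_sup_right : K' ≤ K ⊔ K') W)
    · exact (hKt W hW).trans ((le_sup_left : K ≤ K ⊔ K') W)

/-- An open of a closed subscheme, finitely presented over the base, is open in a finitely presented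
closed subscheme of the ambient scheme. -/
theorem exists_open_of_closed {X T T' S : Scheme.{u}} (j : X ⟶ T) [IsOpenImmersion j] (k : T ⟶ T')
    [IsClosedImmersion k] (p : T' ⟶ S) [CompactSpace T'] [QuasiSeparatedSpace T'] [CompactSpace X]
    [LocallyOfFiniteType p] [LocallyOfFinitePresentation (j ≫ k ≫ p)] :
    ∃ K : T'.IdealSheafData, IsFG K ∧ ∃ j' : X ⟶ K.subscheme, IsOpenImmersion j' ∧
      j' ≫ K.subschemeι = j ≫ k := by
  classical
  obtain ⟨W0, hW0, hW0'⟩ := (k.isClosedEmbedding.isInducing.isOpen_iff).mp j.isOpenEmbedding.isOpen_range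
  choose V hVa hxV hVW using fun x : X => exists_isAffineOpen_mem_and_subset (x := k (j x)) (U := ⟨W0, hW0⟩)
    (show j x ∈ k ⁻¹' W0 by rw [hW0']; exact ⟨x, rfl⟩)
  obtain ⟨t, ht⟩ := (isCompact_range (j ≫ k).continuous).elim_finite_subcover (fun x : X => (V x : Set T'))
    (fun x => (V x).isOpen) (by
      rintro _ ⟨x, rfl⟩
      exact Set.mem_iUnion.mpr ⟨x, hxV x⟩)
  let s : Finset T'.affineOpens := t.image fun x => ⟨V x, hVa x⟩
  let I := k.ker
  have hIfg : ∀ U ∈ s, (I.ideal U).FG := by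
    intro U hU
    obtain ⟨x, -, rfl⟩ := Finset.mem_image.mp hU
    haveI : IsAffine (V x : Scheme.{u}) := hVa x
    haveI : IsAffine (k ⁻¹ᵁ V x : Scheme.{u}) := (hVa x).preimage k
    have hsub : Set.range (k ⁻¹ᵁ V x).ι ⊆ Set.range j := by
      rw [Scheme.Opens.range_ι]
      intro y hy
      rw [← hW0']
      exact hVW x hy
    have hlfp : LocallyOfFinitePresentation ((k ∣_ V x) ≫ (V x).ι ≫ p) := by
      rw [morphismRestrict_ι_assoc, ← IsOpenImmersion.lift_fac j (k ⁻¹ᵁ V x).ι hsub, Category.assoc]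
      infer_instance
    haveI : LocallyOfFiniteType ((V x).ι ≫ p) := inferInstance
    haveI : LocallyOfFinitePresentation (k ∣_ V x) :=
      @S12442.locallyOfFinitePresentation_of_comp _ _ _ (k ∣_ V x) ((V x).ι ≫ p) hlfp ‹_›
    have h1 := MorLib.Desc.ker_appTop_fg (k ∣_ V x)
    have h2 : (k ∣_ V x).appTop = k.app ((V x).ι ''ᵁ ⊤) ≫ T.presheaf.map
        (eqToHom (image_morphismRestrict_preimage k (V x) ⊤)).op := morphismRestrict_app k (V x) ⊤
    have hinj := ((ConcreteCategory.isIso_iff_bijective (T.presheaf.map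
      (eqToHom (image_morphismRestrict_preimage k (V x) ⊤)).op)).mp inferInstance).1
    have h3 : RingHom.ker (k ∣_ V x).appTop.hom = RingHom.ker (k.app ((V x).ι ''ᵁ ⊤)).hom := by
      rw [h2]
      exact RingHom.ker_comp_of_injective _ hinj
    rw [h3] at h1
    refine fg_congr (U := ⟨(V x).ι ''ᵁ ⊤, (isAffineOpen_top _).image_of_isOpenImmersion _⟩) ?_ ?_
    · show (V x).ι ''ᵁ ⊤ = V x
      rw [Scheme.Hom.image_top_eq_opensRange, Scheme.Opens.opensRange_ι]
    · rw [Scheme.Hom.ker_apply]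
      exact h1
  obtain ⟨K, hKI, hKfg, hKs⟩ := exists_fg_ext I s hIfg
  refine ⟨K, hKfg, ?_⟩
  let W : T'.Opens := ⨆ U ∈ s, (U : T'.Opens)
  have hcomm : K.comap W.ι = I.comap W.ι := by
    refine le_antisymm (IdealSheafData.comap_mono W.ι hKI) ?_
    let E : s → (W : Scheme.{u}).affineOpens := fun U => ⟨W.ι ⁻¹ᵁ U.1.1, by
      show IsAffineOpen _
      rw [← Scheme.Hom.isAffineOpen_iff_of_isOpenImmersion W.ι,
        Scheme.Hom.image_preimage_eq_opensRange_inf, Scheme.Opens.opensRange_ι,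
        inf_eq_right.mpr (le_iSup₂ (f := fun U (_ : U ∈ s) => (U : T'.affineOpens).1) U.1 U.2)]
      exact U.1.2⟩
    refine IdealSheafData.le_of_iSup_eq_top E ?_ fun U => ?_
    · refine top_le_iff.mp fun x _ => ?_
      obtain ⟨U, hU⟩ := Opens.mem_iSup.mp x.2
      obtain ⟨hUs, hxU⟩ := Opens.mem_iSup.mp hU
      exact Opens.mem_iSup.mpr ⟨⟨U, hUs⟩, hxU⟩
    · refine comap_le_at (hKs U.1 U.2) _ ?_
      show W.ι ''ᵁ W.ι ⁻¹ᵁ U.1.1 = U.1.1
      rw [Scheme.Hom.image_preimage_eq_opensRange_inf, Scheme.Opens.opensRange_ι,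
        inf_eq_right.mpr (le_iSup₂ (f := fun U (_ : U ∈ s) => (U : T'.affineOpens).1) U.1 U.2)]
  have hrange : Set.range (j ≫ k) ⊆ Set.range W.ι := by
    rw [Scheme.Opens.range_ι]
    intro y hy
    obtain ⟨x, hx, hxy⟩ := Set.mem_iUnion₂.mp (ht hy)
    exact Opens.mem_iSup.mpr ⟨⟨V x, hVa x⟩, Opens.mem_iSup.mpr ⟨Finset.mem_image.mpr ⟨x, hx, rfl⟩, hxy⟩⟩
  let l : X ⟶ pullback W.ι k := pullback.lift (IsOpenImmersion.lift W.ι (j ≫ k) hrange) j
    (IsOpenImmersion.lift_fac _ _ _)
  haveI : IsOpenImmersion (l ≫ pullback.snd W.ι k) := by rw [pullback.lift_snd]; infer_instance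
  haveI : IsOpenImmersion l := IsOpenImmersion.of_comp l (pullback.snd W.ι k)
  let a : pullback W.ι k ⟶ pullback W.ι I.subschemeι :=
    pullback.map W.ι k W.ι I.subschemeι (𝟙 _) k.toImage (𝟙 _) (by simp) (by rw [Category.comp_id]; exact k.toImage_imageι.symm)
  haveI : IsIso k.toImage := inferInstance
  haveI : IsIso a := inferInstance
  obtain ⟨ε, hεi, hε⟩ : ∃ ε : (I.comap W.ι).subscheme ⟶ (K.comap W.ι).subscheme,
      IsIso ε ∧ ε ≫ (K.comap W.ι).subschemeι = (I.comap W.ι).subschemeι := by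
    rw [hcomm]; exact ⟨𝟙 _, inferInstance, Category.id_comp _⟩
  let e : pullback W.ι k ⟶ pullback W.ι K.subschemeι :=
    a ≫ (I.comapIso W.ι).inv ≫ ε ≫ (K.comapIso W.ι).hom
  haveI : IsIso e := inferInstance
  have he : e ≫ pullback.fst W.ι K.subschemeι = pullback.fst W.ι k := by
    simp only [e, Category.assoc, IdealSheafData.comapIso_hom_fst, hε, IdealSheafData.comapIso_inv_subschemeι]
    exact (pullback.lift_fst _ _ _).trans (Category.comp_id _)
  refine ⟨l ≫ e ≫ pullback.snd W.ι K.subschemeι, inferInstance, ?_⟩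
  rw [Category.assoc, Category.assoc, ← pullback.condition, reassoc_of% he, pullback.condition, pullback.lift_snd_assoc]

/-- The global statement. -/
theorem main {X S : Scheme.{u}} (f : X ⟶ S) [CompactSpace S] [QuasiSeparatedSpace S] [LocallyOfFinitePresentation f]
    {T : Scheme.{u}} (j : X ⟶ T) (π : T ⟶ S) [IsOpenImmersion j] [QuasiCompact j] [IsFinite π] (h : j ≫ π = f) :
    ∃ (T'' : Scheme.{u}) (j'' : X ⟶ T'') (π'' : T'' ⟶ S), IsOpenImmersion j'' ∧ QuasiCompact j'' ∧ IsFinite π'' ∧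
      LocallyOfFinitePresentation π'' ∧ j'' ≫ π'' = f := by
  obtain ⟨T', p, k, hp, hpfp, hk, hkp⟩ := Approx.exists_finite_fp π
  haveI : CompactSpace T' := QuasiCompact.compactSpace_of_compactSpace p
  haveI : QuasiSeparatedSpace T' := quasiSeparatedSpace_of_quasiSeparated p
  haveI : CompactSpace T := QuasiCompact.compactSpace_of_compactSpace π
  haveI : CompactSpace X := QuasiCompact.compactSpace_of_compactSpace j
  haveI : LocallyOfFinitePresentation (j ≫ k ≫ p) := by rw [hkp, h]; infer_instance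
  obtain ⟨K, hK, j', hj', hj'k⟩ := exists_open_of_closed j k p
  haveI := lfp_subschemeι hK
  haveI : QuasiCompact j' := by
    haveI : QuasiSeparatedSpace K.subscheme := quasiSeparatedSpace_of_quasiSeparated K.subschemeι
    infer_instance
  exact ⟨K.subscheme, j', K.subschemeι ≫ p, hj', inferInstance, inferInstance, inferInstance,
    by rw [reassoc_of% hj'k, hkp, h]⟩

end Groth.Agent.FlatMisc.OpenFiniteFP
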