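import Mathlib
import Groth.Agent.LocalCrit.Flatness

universe u
set_option autoImplicit false
open TensorProduct
open Groth.Agent.LocalCrit

namespace FlatMisc

theorem keepsInjective_localizedModule {R S M : Type u} [CommRing R] [CommRing S] [Algebra R S]
    [AddCommGroup M] [Module R M] [Module S M] [IsScalarTower R S M] (J : Ideal R) (W : Submonoid S)
    (hK : KeepsInjective J M) : KeepsInjective J (LocalizedModule W M) := by
  intro N N' _ _ _ _ g hN hN' hg
  have h0 : Function.Injective (g.rTensor M) := hK g hN hN' hg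
  have h1 : Function.Injective (TensorProduct.AlgebraTensorModule.map (LinearMap.id : M →ₗ[S] M) g) := by
    intro x y hxy
    apply (TensorProduct.comm R M N).injective
    apply h0
    have hc : ∀ z, g.rTensor M (TensorProduct.comm R M N z) =
        TensorProduct.comm R M N' (TensorProduct.AlgebraTensorModule.map (LinearMap.id : M →ₗ[S] M) g z) := by
      intro z
      induction z using TensorProduct.induction_on with
      | zero => simp
      | tmul a b => simp
      | add a b ha hb => simp only [map_add, ha, hb]
    rw [hc, hc, hxy]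
  let L := Localization W
  haveI : Module.Flat S L := IsLocalization.flat L W
  have h2 : Function.Injective ((TensorProduct.AlgebraTensorModule.map (LinearMap.id : M →ₗ[S] M) g).lTensor L) :=
    Module.Flat.lTensor_preserves_injective_linearMap _ h1
  let e : LocalizedModule W M ≃ₗ[S] L ⊗[S] M :=
    ((IsLocalizedModule.isBaseChange W L (LocalizedModule.mkLinearMap W M)).equiv.restrictScalars S).symm
  let eN : ∀ (P : Type u) [AddCommGroup P] [Module R P], P ⊗[R] LocalizedModule W M ≃ₗ[R] L ⊗[S] (M ⊗[R] P) :=
    fun P _ _ => TensorProduct.comm R _ _ ≪≫ₗ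
      TensorProduct.congr (e.restrictScalars R) (LinearEquiv.refl R P) ≪≫ₗ
      ((TensorProduct.AlgebraTensorModule.assoc R S S L M P).restrictScalars R)
  have hnat : ∀ z, eN N' (g.rTensor (LocalizedModule W M) z) =
      (TensorProduct.AlgebraTensorModule.map (LinearMap.id : M →ₗ[S] M) g).lTensor L (eN N z) := by
    intro z
    induction z using TensorProduct.induction_on with
    | zero => simp
    | tmul a b =>
      simp only [eN, LinearEquiv.trans_apply, LinearMap.rTensor_tmul, TensorProduct.comm_tmul, TensorProduct.congr_tmul,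
        LinearEquiv.refl_apply, LinearEquiv.restrictScalars_apply]
      generalize e b = w
      induction w using TensorProduct.induction_on with
      | zero => simp
      | tmul l m => simp
      | add u v hu hv => simp only [TensorProduct.add_tmul, map_add, hu, hv]
    | add a b ha hb => simp only [map_add, ha, hb]
  intro x y hxy
  apply (eN N).injective
  apply h2
  rw [← hnat, ← hnat, hxy]

theorem keepsInjective_top {R M : Type u} [CommRing R] [AddCommGroup M] [Module R M] :
    KeepsInjective (⊤ : Ideal R) M := by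
  intro N N' _ _ _ _ g hN hN' hg
  have : Subsingleton N := ⟨fun a b => by
    have ha := @hN a ⟨1, trivial⟩
    have hb := @hN b ⟨1, trivial⟩
    simp only [one_smul] at ha hb
    rw [ha, hb]⟩
  exact Function.injective_of_subsingleton _

theorem flat_localizedModule_of_flat_pow {R S M : Type u} [CommRing R] [CommRing S] [IsNoetherianRing R]
    [IsNoetherianRing S] [Algebra R S] [AddCommGroup M] [Module R M] [Module S M] [IsScalarTower R S M]
    [Module.Finite S M] (I : Ideal R)
    (h : ∀ n : ℕ, 0 < n → Module.Flat (R ⧸ I ^ n) ((R ⧸ I ^ n) ⊗[R] M))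
    (q : Ideal S) [q.IsPrime] (hq : I.map (algebraMap R S) ≤ q) :
    Module.Flat R (LocalizedModule q.primeCompl M) := by
  refine flat_of_forall_quotient_pow (B := Localization q.primeCompl) I ?_ (fun n => ?_)
  · change _ ≤ Ideal.jacobson (⊥ : Ideal (Localization.AtPrime q))
    rw [IsLocalRing.jacobson_eq_maximalIdeal _ bot_ne_top, IsScalarTower.algebraMap_eq R S (Localization.AtPrime q),
      ← Ideal.map_map, ← Localization.AtPrime.map_eq_maximalIdeal]
    exact Ideal.map_mono hq
  · rcases Nat.eq_zero_or_pos n with rfl | hn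
    · rw [pow_zero, Ideal.one_eq_top]; exact keepsInjective_top
    · haveI := h n hn
      exact keepsInjective_localizedModule _ _ (keepsInjective_of_flat _ _)

/-- A flat map of rings has all `KeepsInjective` for base changes. -/
theorem keepsInjective_of_quotientMap {A B : Type u} [CommRing A] [CommRing B] [Algebra A B] (J : Ideal A)
    (h : (Ideal.quotientMap (J.map (algebraMap A B)) (algebraMap A B) Ideal.le_comap_map).Flat) :
    KeepsInjective J B := by
  letI := (Ideal.quotientMap (J.map (algebraMap A B)) (algebraMap A B) (Ideal.le_comap_map (I := J))).toAlgebra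
  haveI : Module.Flat (A ⧸ J) (B ⧸ J.map (algebraMap A B)) := h
  haveI : Module.Flat (A ⧸ J) ((A ⧸ J) ⊗[A] B) := by
    let e₀ := (Algebra.TensorProduct.quotIdealMapEquivTensorQuot B J).toLinearEquiv.restrictScalars A ≪≫ₗ
      TensorProduct.comm A B (A ⧸ J)
    refine Module.Flat.of_linearEquiv (M := B ⧸ J.map (algebraMap A B)) ?_
    exact
      { e₀.symm with
        map_smul' := by
          intro a x
          obtain ⟨a, rfl⟩ := Ideal.Quotient.mk_surjective a
          have : (Ideal.Quotient.mk J a) • x = a • x := by
            rw [← Ideal.Quotient.algebraMap_eq, IsScalarTower.algebraMap_smul]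
          change e₀.symm ((Ideal.Quotient.mk J a) • x) = _
          rw [this, map_smul, RingHom.id_apply, ← Ideal.Quotient.algebraMap_eq, Algebra.smul_def, Algebra.smul_def]
          rfl }
  exact keepsInjective_of_flat J B

/-- Free fibre lifts: a finite module flat over the base with free fibre is free. -/
theorem free_of_free_fibre {R S M : Type u} [CommRing R] [CommRing S] [IsLocalRing R] [IsLocalRing S]
    [IsNoetherianRing S] [Algebra R S] [IsLocalHom (algebraMap R S)]
    [AddCommGroup M] [Module R M] [Module S M] [IsScalarTower R S M] [Module.Finite S M] [Nontrivial M]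
    [Module.Flat R M]
    (h : Module.Free (S ⧸ ((IsLocalRing.maximalIdeal R).map (algebraMap R S)))
      ((S ⧸ ((IsLocalRing.maximalIdeal R).map (algebraMap R S))) ⊗[S] M)) :
    Module.Free S M ∧ Module.Flat R S := by
  classical
  set K := (IsLocalRing.maximalIdeal R).map (algebraMap R S) with hKdef
  have hKm : K ≤ IsLocalRing.maximalIdeal S :=
    Ideal.map_le_iff_le_comap.mpr (fun r hr => map_nonunit (algebraMap R S) r hr)
  haveI : Nontrivial (S ⧸ K) := Ideal.Quotient.nontrivial_iff.mpr
    (fun hK => (IsLocalRing.maximalIdeal.isMaximal S).ne_top (top_unique (hK ▸ hKm)))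
  haveI : Module.Finite (S ⧸ K) ((S ⧸ K) ⊗[S] M) := inferInstance
  let b := Module.Free.chooseBasis (S ⧸ K) ((S ⧸ K) ⊗[S] M)
  let ι := Module.Free.ChooseBasisIndex (S ⧸ K) ((S ⧸ K) ⊗[S] M)
  have hsurj : Function.Surjective (TensorProduct.mk S (S ⧸ K) M 1) := by
    intro z
    induction z using TensorProduct.induction_on with
    | zero => exact ⟨0, TensorProduct.tmul_zero _ _⟩
    | tmul c m =>
      obtain ⟨c, rfl⟩ := Ideal.Quotient.mk_surjective c
      refine ⟨c • m, ?_⟩
      rw [TensorProduct.mk_apply, ← TensorProduct.smul_tmul, ← Ideal.Quotient.algebraMap_eq, Algebra.algebraMap_eq_smul_one]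
    | add x y hx hy =>
      obtain ⟨a, ha⟩ := hx; obtain ⟨c, hc⟩ := hy
      exact ⟨a + c, by rw [map_add, ha, hc]⟩
  choose v hv using fun i => hsurj (b i)
  let φ : (ι → S) →ₗ[S] M := Fintype.linearCombination S v
  have hbar : ∀ c : ι → S, (1 : S ⧸ K) ⊗ₜ[S] φ c = ∑ i, Ideal.Quotient.mk K (c i) • b i := by
    intro c
    simp only [φ, Fintype.linearCombination_apply, TensorProduct.tmul_sum, ← hv, TensorProduct.mk_apply]
    refine Finset.sum_congr rfl (fun i _ => ?_)
    rw [TensorProduct.tmul_smul, ← Ideal.Quotient.algebraMap_eq, algebraMap_smul]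
  have hφ : Function.Surjective φ := by
    rw [← LinearMap.range_eq_top]
    refine IsLocalRing.map_mkQ_eq_top.mp ?_
    rw [eq_top_iff]
    rintro z -
    obtain ⟨m, rfl⟩ := Submodule.mkQ_surjective _ z
    obtain ⟨c, hc⟩ : ∃ c : ι → S, (1 : S ⧸ K) ⊗ₜ[S] φ c = (1 : S ⧸ K) ⊗ₜ[S] m := by
      choose c hc using fun i => Ideal.Quotient.mk_surjective (b.repr ((1 : S ⧸ K) ⊗ₜ[S] m) i)
      refine ⟨c, ?_⟩
      rw [hbar]
      simp only [hc]
      exact b.sum_repr _
    refine ⟨φ c, LinearMap.mem_range_self _ _, ?_⟩
    rw [← sub_eq_zero, ← map_sub, Submodule.mkQ_apply, Submodule.Quotient.mk_eq_zero]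
    refine Submodule.smul_mono_left hKm ?_
    have h0 : (1 : S ⧸ K) ⊗ₜ[S] (φ c - m) = 0 := by rw [TensorProduct.tmul_sub, hc, sub_self]
    have h1 := congrArg (TensorProduct.quotTensorEquivQuotSMul M K) h0
    rw [map_zero, ← map_one (Ideal.Quotient.mk K), TensorProduct.quotTensorEquivQuotSMul_mk_tmul, one_smul,
      Submodule.Quotient.mk_eq_zero] at h1
    exact h1
  have hker : LinearMap.ker φ = ⊥ := by
    set P := LinearMap.ker φ
    have hcoord : ∀ c ∈ P, ∀ i, c i ∈ K := by
      intro c hc i
      have h1 := hbar c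
      rw [LinearMap.mem_ker.mp hc, TensorProduct.tmul_zero] at h1
      have h2 := Fintype.linearIndependent_iff.mp b.linearIndependent _ h1.symm i
      exact Ideal.Quotient.eq_zero_iff_mem.mp h2
    have hinj := LinearMap.lTensor_injective_of_exact_of_flat (φ.restrictScalars R) hφ
      (P.subtype.restrictScalars R) P.injective_subtype (LinearMap.exact_subtype_ker_map φ)
      (R ⧸ IsLocalRing.maximalIdeal R)
    have hle : P ≤ K • P := by
      intro c hc
      have h0 : (1 : R ⧸ IsLocalRing.maximalIdeal R) ⊗ₜ[R] (⟨c, hc⟩ : P) = 0 := by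
        apply hinj
        rw [LinearMap.lTensor_tmul, map_zero]
        change (1 : R ⧸ IsLocalRing.maximalIdeal R) ⊗ₜ[R] c = 0
        apply (TensorProduct.quotTensorEquivQuotSMul (ι → S) (IsLocalRing.maximalIdeal R)).injective
        rw [map_zero, ← map_one (Ideal.Quotient.mk (IsLocalRing.maximalIdeal R)),
          TensorProduct.quotTensorEquivQuotSMul_mk_tmul, one_smul, Submodule.Quotient.mk_eq_zero]

        rw [pi_eq_sum_univ' c]
        refine Submodule.sum_mem _ (fun i _ => ?_)
        have hi : c i ∈ (IsLocalRing.maximalIdeal R • ⊤ : Submodule R S) := by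
          rw [Ideal.smul_top_eq_map]; exact hcoord c hc i
        refine (Submodule.smul_le.mpr ?_ : IsLocalRing.maximalIdeal R • ⊤ ≤
          (IsLocalRing.maximalIdeal R • ⊤ : Submodule R (ι → S)).comap
            ((LinearMap.toSpanSingleton S (ι → S) (Pi.single i 1)).restrictScalars R)) hi
        intro r hr s _
        rw [Submodule.mem_comap, map_smul]
        exact Submodule.smul_mem_smul hr trivial
      have h1 := congrArg (TensorProduct.quotTensorEquivQuotSMul P (IsLocalRing.maximalIdeal R)) h0
      rw [map_zero, ← map_one (Ideal.Quotient.mk (IsLocalRing.maximalIdeal R)),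
        TensorProduct.quotTensorEquivQuotSMul_mk_tmul, one_smul, Submodule.Quotient.mk_eq_zero] at h1
      refine (Submodule.smul_le.mpr ?_ : IsLocalRing.maximalIdeal R • ⊤ ≤
        ((K • P).restrictScalars R).comap (P.subtype.restrictScalars R)) h1
      intro r hr s _
      rw [Submodule.mem_comap, map_smul, Submodule.restrictScalars_mem, ← IsScalarTower.algebraMap_smul S r]
      exact Submodule.smul_mem_smul (Ideal.mem_map_of_mem _ hr) s.2
    exact Submodule.eq_bot_of_le_smul_of_le_jacobson_bot K P (IsNoetherian.noetherian P) hle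
      (hKm.trans (IsLocalRing.maximalIdeal_le_jacobson ⊥))
  let e : (ι → S) ≃ₗ[S] M := LinearEquiv.ofBijective φ ⟨LinearMap.ker_eq_bot.mp hker, hφ⟩
  refine ⟨Module.Free.of_equiv e, ?_⟩
  have hne : Nonempty ι := by
    by_contra hcon
    rw [not_nonempty_iff] at hcon
    exact not_subsingleton M e.symm.toEquiv.subsingleton
  obtain ⟨i⟩ := hne
  refine Module.Flat.of_retract (M := M) ((e.toLinearMap ∘ₗ LinearMap.single S (fun _ : ι => S) i).restrictScalars R)
    ((LinearMap.proj i ∘ₗ e.symm.toLinearMap).restrictScalars R) ?_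
  ext s
  simp

end FlatMisc
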