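import Mathlib
import Groth.Agent.FlatMisc.GenericFibreRed

universe u
set_option autoImplicit false
open AlgebraicGeometry CategoryTheory CategoryTheory.Limits
open scoped TensorProduct

namespace FlatMisc

theorem exists_notMem_mul_eq_zero_of_nilpotent {R A : Type u} [CommRing R] [IsDomain R] [IsDiscreteValuationRing R]
    [CommRing A] [Algebra R A] [Module.Flat R A] [IsNoetherianRing A]
    (hred : _root_.IsReduced ((IsLocalRing.maximalIdeal R).Fiber A)) (q : Ideal A) [q.IsPrime]
    (hq : (IsLocalRing.maximalIdeal R).map (algebraMap R A) ≤ q) (a : A) (ha : IsNilpotent a) :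
    ∃ t ∉ q, t * a = 0 := by
  obtain ⟨π, hπ⟩ := IsDiscreteValuationRing.exists_irreducible R
  have hm : IsLocalRing.maximalIdeal R = Ideal.span {π} := hπ.maximalIdeal_eq
  have hπA : IsSMulRegular A π := Module.IsTorsionFree.isSMulRegular (isRegular_of_ne_zero hπ.ne_zero)
  have hker : ∀ b : A, IsNilpotent b → ∃ c : A, b = algebraMap R A π * c := by
    intro b hb
    have h0 : (1 : (IsLocalRing.maximalIdeal R).ResidueField) ⊗ₜ[R] b = 0 := by
      haveI := hred
      exact IsNilpotent.eq_zero (x := (Algebra.TensorProduct.includeRight :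
        A →ₐ[R] (IsLocalRing.maximalIdeal R).Fiber A) b) (hb.map _)
    let e : (R ⧸ IsLocalRing.maximalIdeal R) ≃ₐ[R] (IsLocalRing.maximalIdeal R).ResidueField :=
      AlgEquiv.ofBijective (IsScalarTower.toAlgHom R (R ⧸ IsLocalRing.maximalIdeal R) _)
        (IsLocalRing.maximalIdeal R).bijective_algebraMap_quotient_residueField
    have h1 : (1 : R ⧸ IsLocalRing.maximalIdeal R) ⊗ₜ[R] b = 0 := by
      apply (TensorProduct.congr e.toLinearEquiv (LinearEquiv.refl R A)).injective
      rw [TensorProduct.congr_tmul, map_zero]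
      simpa using h0
    have h2 := congrArg (TensorProduct.quotTensorEquivQuotSMul A (IsLocalRing.maximalIdeal R)) h1
    rw [map_zero, ← map_one (Ideal.Quotient.mk _), TensorProduct.quotTensorEquivQuotSMul_mk_tmul, one_smul,
      Submodule.Quotient.mk_eq_zero, hm, Submodule.ideal_span_singleton_smul] at h2
    obtain ⟨c, -, hc⟩ := h2
    exact ⟨c, by rw [← hc]; exact Algebra.smul_def π c⟩
  have hpow : ∀ n : ℕ, ∀ b : A, IsNilpotent b → b ∈ Ideal.span {algebraMap R A π} ^ n := by
    intro n
    induction n with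
    | zero => intro b _; rw [pow_zero, Ideal.one_eq_top]; trivial
    | succ n ih =>
      intro b hb
      obtain ⟨c, rfl⟩ := hker b hb
      have hc : IsNilpotent c := by
        obtain ⟨k, hk⟩ := hb
        refine ⟨k, ?_⟩
        rw [mul_pow, ← map_pow, ← Algebra.smul_def] at hk
        exact (hπA.pow k) (hk.trans (smul_zero _).symm)
      rw [pow_succ']
      exact Ideal.mul_mem_mul (Ideal.mem_span_singleton_self _) (ih c hc)
  have hπq : algebraMap R A π ∈ (IsLocalRing.maximalIdeal R).map (algebraMap R A) :=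
    Ideal.mem_map_of_mem _ (hm ▸ Ideal.mem_span_singleton_self π)
  have h0 : algebraMap A (Localization.AtPrime q) a = 0 := by
    rw [← Ideal.mem_bot, ← Ideal.iInf_pow_eq_bot_of_isLocalRing (IsLocalRing.maximalIdeal (Localization.AtPrime q))
      (IsLocalRing.maximalIdeal.isMaximal _).ne_top, Ideal.mem_iInf]
    intro n
    have h1 := Ideal.mem_map_of_mem (algebraMap A (Localization.AtPrime q)) (hpow n a ha)
    rw [Ideal.map_pow] at h1
    refine Ideal.pow_right_mono ?_ n h1
    rw [← Localization.AtPrime.map_eq_maximalIdeal]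
    exact Ideal.map_mono ((Ideal.span_singleton_le_iff_mem _).mpr (hq hπq))
  obtain ⟨⟨t, ht⟩, ht0⟩ := (IsLocalization.map_eq_zero_iff q.primeCompl (Localization.AtPrime q) a).mp h0
  exact ⟨t, ht, ht0⟩

theorem isReduced_of_proper_flat_dvr {R : Type u} [CommRing R] [IsDomain R] [IsDiscreteValuationRing R]
    {X : Scheme.{u}} (f : X ⟶ Spec (CommRingCat.of R)) [IsProper f] [Flat f]
    (hred : AlgebraicGeometry.IsReduced (f.fiber (IsLocalRing.closedPoint R))) :
    AlgebraicGeometry.IsReduced X := by
  haveI : IsLocallyNoetherian X := LocallyOfFiniteType.isLocallyNoetherian f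
  haveI : ∀ y : X, _root_.IsReduced (X.presheaf.stalk y) := by
    intro y
    have hcl : IsClosed (f.base '' closure {y}) := f.isClosedMap _ isClosed_closure
    obtain ⟨x, hxy, hx⟩ : ∃ x ∈ closure ({y} : Set X), f.base x = IsLocalRing.closedPoint R := by
      have hy : f.base y ∈ f.base '' closure {y} := ⟨y, subset_closure rfl, rfl⟩
      have h1 : IsLocalRing.closedPoint R ∈ closure {(f.base y : PrimeSpectrum R)} :=
        (IsLocalRing.specializes_closedPoint (f.base y : PrimeSpectrum R)).mem_closure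
      obtain ⟨x, hx1, hx2⟩ := (closure_minimal (Set.singleton_subset_iff.mpr hy) hcl) h1
      exact ⟨x, hx1, hx2⟩
    have hspec : y ⤳ x := specializes_iff_mem_closure.mpr hxy
    obtain ⟨_, ⟨V, hV, rfl⟩, hxV, -⟩ :=
      X.isBasis_affineOpens.exists_subset_of_mem_open (Set.mem_univ x) isOpen_univ
    replace hV : IsAffineOpen V := hV
    have hyV : y ∈ V := hspec.mem_open V.isOpen hxV
    let U : (Spec (CommRingCat.of R)).Opens := ⊤
    have hVU : V ≤ f ⁻¹ᵁ U := fun _ _ => trivial
    let φ : R →+* Γ(X, V) := ((Scheme.ΓSpecIso (CommRingCat.of R)).inv ≫ f.appLE U V hVU).hom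
    letI := φ.toAlgebra
    have hflat : φ.Flat := by
      have h1 := f.flat_appLE (isAffineOpen_top _) hV hVU
      exact RingHom.Flat.comp (RingHom.Flat.of_bijective (ConcreteCategory.bijective_of_isIso (Scheme.ΓSpecIso (CommRingCat.of R)).inv)) h1
    haveI : Module.Flat R Γ(X, V) := hflat
    haveI : IsNoetherianRing Γ(X, V) := IsLocallyNoetherian.component_noetherian ⟨V, hV⟩
    let g := Spec.map (CommRingCat.ofHom (algebraMap R Γ(X, V)))
    have hg : g = hV.fromSpec ≫ f := by
      have h1 := (isAffineOpen_top (Spec (CommRingCat.of R))).SpecMap_appLE_fromSpec f hV hVU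
      rw [← h1, IsAffineOpen.fromSpec_top, Scheme.isoSpec_Spec_inv, ← Spec.map_comp]
      rfl
    let P : PrimeSpectrum R := IsLocalRing.closedPoint R
    haveI hr2 : _root_.IsReduced (P.asIdeal.Fiber Γ(X, V)) := by
      let Φ : g.fiber P ⟶ f.fiber P :=
        pullback.map g ((Spec (CommRingCat.of R)).fromSpecResidueField P) f ((Spec (CommRingCat.of R)).fromSpecResidueField P)
          hV.fromSpec (𝟙 _) (𝟙 _) (by rw [Category.comp_id]; exact hg) (by simp)
      haveI : IsOpenImmersion Φ := Scheme.pullback_map_isOpenImmersion _ _ _ _ _ _ _ _ _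
      haveI := hred
      haveI : AlgebraicGeometry.IsReduced (g.fiber P) := isReduced_of_isOpenImmersion Φ
      haveI : AlgebraicGeometry.IsReduced (Spec (CommRingCat.of (P.asIdeal.Fiber Γ(X, V)))) := by
        haveI : IsOpenImmersion (Spec.fiberToSpecResidueFieldIso R Γ(X, V) P).inv.left := inferInstance
        exact @isReduced_of_isOpenImmersion _ _ (Spec.fiberToSpecResidueFieldIso R Γ(X, V) P).inv.left _
          (show AlgebraicGeometry.IsReduced (g.fiber P) from inferInstance)
      exact (affine_isReduced_iff (CommRingCat.of (P.asIdeal.Fiber Γ(X, V)))).mp inferInstance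
    set q := hV.primeIdealOf ⟨x, hxV⟩
    set q' := hV.primeIdealOf ⟨y, hyV⟩
    have hq : (IsLocalRing.maximalIdeal R).map (algebraMap R Γ(X, V)) ≤ q.asIdeal := by
      rw [Ideal.map_le_iff_le_comap]
      have h1 : g.base q = IsLocalRing.closedPoint R := by
        rw [hg, Scheme.Hom.comp_apply, hV.fromSpec_primeIdealOf]
        exact hx
      exact le_of_eq (congrArg PrimeSpectrum.asIdeal h1).symm
    have hqq : q'.asIdeal ≤ q.asIdeal := by
      have h1 : hV.fromSpec q' ⤳ hV.fromSpec q := by
        rw [hV.fromSpec_primeIdealOf, hV.fromSpec_primeIdealOf]; exact hspec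
      exact (PrimeSpectrum.le_iff_specializes q' q).mpr
        (hV.fromSpec.isOpenEmbedding.isInducing.specializes_iff.mp h1)
    letI := X.presheaf.algebra_section_stalk ⟨y, hyV⟩
    haveI := hV.isLocalization_stalk ⟨y, hyV⟩
    refine ⟨fun z hz => ?_⟩
    obtain ⟨a, ⟨s, hs⟩, rfl⟩ := IsLocalization.exists_mk'_eq q'.asIdeal.primeCompl z
    rw [IsLocalization.mk'_eq_zero_iff]
    obtain ⟨n, hn⟩ := hz
    rw [← IsLocalization.mk'_pow, IsLocalization.mk'_eq_zero_iff] at hn
    obtain ⟨⟨t, ht⟩, htn⟩ := hn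
    have hta : IsNilpotent (t * a) := ⟨n + 1, by
      rw [mul_pow, pow_succ' t, pow_succ a, mul_assoc, mul_left_comm (t ^ n), ← mul_assoc t]
      change t * a ^ n = 0 at htn
      rw [show t * (a ^ n) * (t ^ n * a) = 0 by rw [htn, zero_mul]]⟩
    obtain ⟨t', ht', h0⟩ := exists_notMem_mul_eq_zero_of_nilpotent hr2 q.asIdeal hq (t * a) hta
    exact ⟨⟨t' * t, q'.asIdeal.primeCompl.mul_mem (fun h => ht' (hqq h)) ht⟩, by rw [← h0]; ring⟩
  exact isReduced_of_isReduced_stalk X

end FlatMisc
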