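import Groth.Agent.MorLib.RingUnivHomeo
import Mathlib.FieldTheory.PurelyInseparable.Basic
import Mathlib.RingTheory.Localization.FractionRing
import Mathlib.Algebra.CharP.Reduced
import Mathlib.RingTheory.IntegralClosure.IsIntegralClosure.Basic
import Mathlib.RingTheory.Ideal.GoingUp

/-!
# Finite universally homeomorphic models of purely inseparable extensions of the generic point
-/

set_option autoImplicit false
set_option linter.style.haveILetI false

universe u

open AlgebraicGeometry CategoryTheory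

namespace Groth.Agent.FlatMisc

/-- A finite purely inseparable extension of the fraction field of `R/ker φ` is the fraction field of a
finite universally homeomorphic `R`-algebra. -/
theorem exists_purelyInseparable_model {R K : Type u} [CommRing R] [Field K] (φ : R →+* K)
    (hfrac : ∀ z : K, ∃ a s, φ s ≠ 0 ∧ z = φ a / φ s) (hker : ∀ P : Ideal R, P.IsPrime → RingHom.ker φ ≤ P)
    (k' : Type u) [Field k'] [Algebra K k'] [FiniteDimensional K k'] [IsPurelyInseparable K k'] :
    ∃ (A : Type u) (_ : CommRing A) (_ : IsDomain A) (_ : Algebra A k') (θ : R →+* A),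
      IsFractionRing A k' ∧ θ.Finite ∧ FlatMor.IsUnivHomeo (Spec.map (CommRingCat.ofHom θ)) ∧
        (algebraMap A k').comp θ = (algebraMap K k').comp φ := by
  classical
  obtain ⟨q, hq⟩ : ∃ q, ExpChar K q := ⟨_, ringExpChar.expChar K⟩
  haveI := hq
  let ψ : R →+* k' := (algebraMap K k').comp φ
  letI : Algebra R k' := ψ.toAlgebra
  let b := Module.finBasis K k'
  have hx : ∀ j, ∃ (x : k') (c : K) (n : ℕ) (r : R), c ≠ 0 ∧ x = algebraMap K k' c * b j ∧ x ^ q ^ n = ψ r := by
    intro j
    obtain ⟨n, z, hz⟩ := IsPurelyInseparable.pow_mem K q (b j)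
    obtain ⟨a, s, hs, rfl⟩ := hfrac z
    have hpos : 1 ≤ q ^ n := Nat.one_le_pow _ _ (expChar_pos K q)
    refine ⟨algebraMap K k' (φ s) * b j, φ s, n, s ^ (q ^ n - 1) * a, hs, rfl, ?_⟩
    rw [mul_pow, ← hz, ← map_pow, ← map_mul]
    refine congrArg (algebraMap K k') ?_
    obtain ⟨m, hm⟩ : ∃ m, q ^ n = m + 1 := ⟨q ^ n - 1, by omega⟩
    rw [hm, Nat.add_sub_cancel, map_mul, map_pow, pow_succ]
    field_simp
  choose x c n r hc hxc hxr using hx
  let A := Algebra.adjoin R (Set.range x)
  let θ : R →+* A := algebraMap R A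
  haveI : ExpChar k' q := expChar_of_injective_ringHom (algebraMap K k').injective q
  haveI : ExpChar A q := RingHom.expChar A.val.toRingHom Subtype.val_injective q
  let N := Finset.univ.sup n
  have hpow : ∀ a : A, ∃ r : R, a ^ q ^ N = θ r := by
    rintro ⟨a, ha⟩
    have key : ∃ r : R, a ^ q ^ N = ψ r := by
      induction ha using Algebra.adjoin_induction with
      | mem a ha =>
        obtain ⟨j, rfl⟩ := ha
        refine ⟨r j ^ q ^ (N - n j), ?_⟩
        rw [map_pow, ← hxr, ← pow_mul, ← pow_add, Nat.add_sub_cancel' (Finset.le_sup (Finset.mem_univ j))]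
      | algebraMap a => exact ⟨a ^ q ^ N, (map_pow ψ a _).symm⟩
      | add a b _ _ ha hb =>
        obtain ⟨r₁, h₁⟩ := ha
        obtain ⟨r₂, h₂⟩ := hb
        exact ⟨r₁ + r₂, by rw [add_pow_expChar_pow, h₁, h₂, map_add]⟩
      | mul a b _ _ ha hb =>
        obtain ⟨r₁, h₁⟩ := ha
        obtain ⟨r₂, h₂⟩ := hb
        exact ⟨r₁ * r₂, by rw [mul_pow, h₁, h₂, map_mul]⟩
    obtain ⟨r, hr⟩ := key
    exact ⟨r, Subtype.ext hr⟩
  have hNpos : 0 < q ^ N := Nat.pos_of_ne_zero (pow_ne_zero _ (expChar_pos K q).ne')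
  have hint : ∀ j, IsIntegral R (x j) :=
    fun j => .of_pow (Nat.pos_of_ne_zero (pow_ne_zero _ (expChar_pos K q).ne')) (hxr j ▸ isIntegral_algebraMap)
  haveI : Module.Finite R A :=
    Module.Finite.iff_fg.2 (fg_adjoin_of_finite (Set.finite_range x) (by rintro _ ⟨j, rfl⟩; exact hint j))
  have hθ : θ.Finite := RingHom.finite_algebraMap.2 inferInstance
  haveI : FaithfulSMul A k' := (faithfulSMul_iff_algebraMap_injective A k').2 Subtype.val_injective
  refine ⟨A, inferInstance, inferInstance, inferInstance, θ, ?_, hθ,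
    (MorLib.RUH.isUnivHomeo_SpecMap_iff θ).2 ⟨hθ.to_isIntegral, ?_, ?_⟩, rfl⟩
  · refine IsFractionRing.of_field A k' fun z => ?_
    let F : Subfield k' := Subfield.closure (A : Set k')
    have hKF : ∀ a : K, algebraMap K k' a ∈ F := fun a => by
      obtain ⟨a, s, hs, rfl⟩ := hfrac a
      rw [map_div₀]
      exact div_mem (Subfield.subset_closure (A.algebraMap_mem a)) (Subfield.subset_closure (A.algebraMap_mem s))
    have hb : ∀ j, b j ∈ F := fun j => by
      have h := div_mem (Subfield.subset_closure (Algebra.subset_adjoin ⟨j, rfl⟩ : x j ∈ A)) (hKF (c j))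
      rwa [hxc, mul_div_cancel_left₀ _ ((map_ne_zero _).2 (hc j))] at h
    have hz : z ∈ F := by
      rw [← b.sum_repr z]
      exact sum_mem fun j _ => by rw [Algebra.smul_def]; exact mul_mem (hKF _) (hb j)
    obtain ⟨y, hy, y', hy', e⟩ := Subfield.mem_closure_iff.1 hz
    rw [show (A : Set k') = A.toSubring from rfl, Subring.closure_eq] at hy hy'
    exact ⟨⟨y, hy⟩, ⟨y', hy'⟩, e.symm⟩
  · intro L _ f g hfg
    refine RingHom.ext fun a => ?_
    obtain ⟨r, hr⟩ := hpow a
    have hfg' : (f a) ^ q ^ N = (g a) ^ q ^ N := by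
      rw [← map_pow, ← map_pow, hr]
      exact RingHom.congr_fun hfg r
    cases hq with
    | zero => simpa using hfg'
    | prime hp =>
      haveI : CharP L q := (CharP.charP_iff_prime_eq_zero hp).2 (by
        have h0 : ((q : ℕ) : A) = 0 := Subtype.val_injective (by
          show A.val ((q : ℕ) : A) = A.val 0
          rw [map_natCast, map_zero, ← map_natCast (algebraMap K k') q, CharP.cast_eq_zero, map_zero])
        rw [← map_natCast f q, h0, map_zero])
      haveI : ExpChar L q := ExpChar.prime hp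
      exact iterateFrobenius_inj L q N (by simpa [iterateFrobenius_def] using hfg')
  · intro P
    have hb : (RingHom.ker θ) ≤ P.asIdeal := le_trans (fun a ha => by
      have h : ψ a = 0 := congrArg Subtype.val ha
      exact (map_eq_zero (algebraMap K k')).1 h) (hker _ P.2)
    haveI : Algebra.IsIntegral R A := ⟨hθ.to_isIntegral⟩
    obtain ⟨Q, -, hQ, hQ'⟩ := Ideal.exists_ideal_over_prime_of_isIntegral P.asIdeal (⊥ : Ideal A) hb
    exact ⟨⟨Q, hQ⟩, PrimeSpectrum.ext hQ'⟩

end Groth.Agent.FlatMisc
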