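import Mathlib

/-!
# Sections of flat quasi-finite algebras
-/

universe u

set_option autoImplicit false

open TensorProduct

namespace Groth.Agent.QFSections

variable {A B : Type u} [CommRing A] [CommRing B] [Algebra A B]

theorem exists_mul_pow_mem {I s : Ideal A} (hs : s ∈ I.minimalPrimes) {a : A} (ha : a ∈ s) :
    ∃ w ∉ s, ∃ n : ℕ, w * a ^ n ∈ I := by
  haveI := hs.1.1
  by_contra h
  push Not at h
  let M : Submonoid A := s.primeCompl ⊔ Submonoid.powers a
  have hd : Disjoint (I : Set A) (M : Set A) := by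
    rw [Set.disjoint_left]
    intro x hxI hxM
    obtain ⟨w, hw, _, ⟨n, rfl⟩, rfl⟩ := Submonoid.mem_sup.1 hxM
    exact h w hw n hxI
  obtain ⟨q, hq, hIq, hqM⟩ := Ideal.exists_le_prime_disjoint I M hd
  have hqs : q ≤ s := fun x hx => by_contra fun hxs =>
    Set.disjoint_left.1 hqM hx (show x ∈ M from Submonoid.mem_sup_left (show x ∈ s.primeCompl from hxs))
  exact Set.disjoint_left.1 hqM (hs.2 ⟨hq, hIq⟩ hqs ha)
    (show a ∈ M from Submonoid.mem_sup_right (Submonoid.mem_powers a))

/-- Kernel of the map to the localisation of the reduction modulo `I`. -/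
theorem kernel_at_min {I s : Ideal A} [hsp : s.IsPrime] {x : B}
    (hx : (1 : Localization (Algebra.algebraMapSubmonoid (A ⧸ I) s.primeCompl)) ⊗ₜ[A] x = 0) :
    ∃ v ∉ s, algebraMap A B v * x ∈ I.map (algebraMap A B) := by
  let S := s.primeCompl
  let T := Algebra.algebraMapSubmonoid (A ⧸ I) S
  let L := Localization T
  let j := IsScalarTower.toAlgHom A (A ⧸ I) L
  haveI hj : IsLocalizedModule S j.toLinearMap := isLocalizedModule_iff_isLocalization.2 (inferInstanceAs (IsLocalization T L))
  let g : (A ⧸ I) ⊗[A] B →ₗ[A] L ⊗[A] B := AlgebraTensorModule.rTensor A B j.toLinearMap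
  haveI hg : IsLocalizedModule S g := by infer_instance
  have hg1 : ∀ x : B, g (1 ⊗ₜ x) = (1 : L) ⊗ₜ[A] x := fun x => by
    show j 1 ⊗ₜ[A] x = _
    rw [map_one]
  rw [← hg1] at hx
  obtain ⟨v, hv⟩ := (IsLocalizedModule.eq_zero_iff S g).1 hx
  refine ⟨v, v.2, ?_⟩
  have h1 : (1 : A ⧸ I) ⊗ₜ[A] (algebraMap A B (v : A) * x) = 0 := by
    rw [← Algebra.smul_def, tmul_smul]
    exact hv
  have h2 : (algebraMap A B v * x) ∈ RingHom.ker (Algebra.TensorProduct.includeRight : B →ₐ[A] (A ⧸ I) ⊗[A] B) := h1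
  have h3 : (Algebra.TensorProduct.map (Ideal.Quotient.mkₐ A I) (AlgHom.id A B)) (1 ⊗ₜ (algebraMap A B v * x)) = 0 := by
    rw [Algebra.TensorProduct.map_tmul, map_one]
    exact h1
  have h3' : (1 : A) ⊗ₜ[A] (algebraMap A B v * x) ∈
      RingHom.ker (Algebra.TensorProduct.map (Ideal.Quotient.mkₐ A I) (AlgHom.id A B)) := h3
  rw [Algebra.TensorProduct.rTensor_ker _ Ideal.Quotient.mk_surjective,
    show RingHom.ker (Ideal.Quotient.mkₐ A I) = I from Ideal.mk_ker] at h3'
  have h4 : I.map (Algebra.TensorProduct.includeLeft : A →ₐ[A] A ⊗[A] B) ≤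
      (I.map (algebraMap A B)).comap (Algebra.TensorProduct.lid A B).toAlgHom := by
    rw [Ideal.map_le_iff_le_comap]
    intro a ha
    have := Ideal.mem_map_of_mem (algebraMap A B) ha
    simpa [Algebra.TensorProduct.lid_tmul, Algebra.smul_def] using this
  simpa [Algebra.TensorProduct.lid_tmul] using h4 h3'

/-- An algebra of finite type, finite modulo a nil ideal, is finite. -/
theorem finite_of_finite_baseChange_nil {L M k : Type u} [CommRing L] [CommRing M] [Algebra L M]
    [Algebra.FiniteType L M] [CommRing k] [Algebra L k] (hsurj : Function.Surjective (algebraMap L k))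
    (hnil : ∀ a : L, algebraMap L k a = 0 → IsNilpotent a) [Module.Finite k (k ⊗[L] M)] :
    Module.Finite L M := by
  haveI : Module.Finite L k := Module.Finite.of_surjective (Algebra.linearMap L k) hsurj
  haveI : Module.Finite L (k ⊗[L] M) := Module.Finite.trans k _
  haveI : Algebra.IsIntegral L M := ⟨fun x => by
    obtain ⟨P, hP, hPx⟩ := IsIntegral.of_finite L ((Algebra.TensorProduct.includeRight : M →ₐ[L] k ⊗[L] M) x)
    rw [← Polynomial.aeval_def, Polynomial.aeval_algHom_apply] at hPx
    let θ : L →ₐ[L] k := Algebra.ofId L k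
    have h1 : (Algebra.TensorProduct.map θ (AlgHom.id L M)) (1 ⊗ₜ Polynomial.aeval x P) = 0 := by
      rw [Algebra.TensorProduct.map_tmul, map_one]
      exact hPx
    rw [← RingHom.mem_ker] at h1
    have h1' : (1 : L) ⊗ₜ[L] Polynomial.aeval x P ∈ RingHom.ker (Algebra.TensorProduct.map θ (AlgHom.id L M)) := h1
    rw [Algebra.TensorProduct.rTensor_ker θ hsurj] at h1'
    have h2 : IsNilpotent ((1 : L) ⊗ₜ[L] Polynomial.aeval x P) := by
      have hle : Ideal.map (Algebra.TensorProduct.includeLeft : L →ₐ[L] L ⊗[L] M) (RingHom.ker θ) ≤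
          nilradical (L ⊗[L] M) := by
        rw [Ideal.map_le_iff_le_comap]
        exact fun a ha => mem_nilradical.2 ((hnil a ha).map _)
      exact mem_nilradical.1 (hle h1')
    have h3 := h2.map (Algebra.TensorProduct.lid L M)
    simp only [Algebra.TensorProduct.lid_tmul, one_smul] at h3
    obtain ⟨n, hn⟩ := h3
    exact ⟨P ^ n, hP.pow n, by rw [← Polynomial.aeval_def, map_pow, hn]⟩⟩
  exact Algebra.IsIntegral.finite

/-- Quasi-finite algebras of finite type are finite over a local ring with nil maximal ideal. -/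
theorem finite_tensor_of_nil [Algebra.FiniteType A B] [Algebra.QuasiFinite A B] {L : Type u} [CommRing L]
    [IsLocalRing L] [Algebra A L] (hnil : ∀ a ∈ IsLocalRing.maximalIdeal L, IsNilpotent a) :
    Module.Finite L (L ⊗[A] B) := by
  haveI : Algebra.QuasiFinite (IsLocalRing.ResidueField L) ((IsLocalRing.ResidueField L) ⊗[L] (L ⊗[A] B)) := inferInstance
  haveI : Module.Finite (IsLocalRing.ResidueField L) ((IsLocalRing.ResidueField L) ⊗[L] (L ⊗[A] B)) := Module.Finite.of_quasiFinite
  exact finite_of_finite_baseChange_nil (k := IsLocalRing.ResidueField L) IsLocalRing.residue_surjective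
    fun a ha => hnil a ((IsLocalRing.residue_eq_zero_iff a).1 ha)

/-- Structure of a flat quasi-finite algebra at a minimal prime of an ideal. -/
theorem exists_basis_at_min [Module.Flat A B] [Algebra.FiniteType A B] [Algebra.QuasiFinite A B]
    {I s : Ideal A} (hs : s ∈ I.minimalPrimes) :
    ∃ (r : ℕ) (e : Fin r → B),
      (∀ x : B, ∃ v ∉ s, ∃ c : Fin r → A, algebraMap A B v * x - ∑ i, c i • e i ∈ I.map (algebraMap A B)) ∧
      (∀ c : Fin r → A, ∑ i, c i • e i ∈ I.map (algebraMap A B) → ∀ i, ∃ v ∉ s, v * c i ∈ I) := by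
  classical
  haveI := hs.1.1
  let S := s.primeCompl
  let T := Algebra.algebraMapSubmonoid (A ⧸ I) S
  let L := Localization T
  let j := IsScalarTower.toAlgHom A (A ⧸ I) L
  haveI hj : IsLocalizedModule S j.toLinearMap := isLocalizedModule_iff_isLocalization.2 (inferInstanceAs (IsLocalization T L))
  have hjtop : ∀ v ∈ S, IsUnit (algebraMap A L v) := fun v hv => by
    rw [IsScalarTower.algebraMap_apply A (A ⧸ I) L]
    exact IsLocalization.map_units L (⟨_, Algebra.mem_algebraMapSubmonoid_of_mem ⟨v, hv⟩⟩ : T)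
  haveI : Nontrivial L := by
    refine ⟨1, 0, fun h0 => ?_⟩
    rw [← map_one (algebraMap (A ⧸ I) L)] at h0
    obtain ⟨⟨_, v, hv, rfl⟩, hv0⟩ := (IsLocalization.map_eq_zero_iff T L 1).1 h0
    exact hv (hs.1.2 (Ideal.Quotient.eq_zero_iff_mem.1 (by simpa using hv0)))
  have hdich : ∀ l : L, IsUnit l ∨ IsNilpotent l := by
    intro l
    obtain ⟨a, t, rfl⟩ := IsLocalization.exists_mk'_eq T l
    obtain ⟨a, rfl⟩ := Ideal.Quotient.mk_surjective a
    by_cases ha : a ∈ s
    · refine Or.inr ?_
      obtain ⟨w, hw, n, hn⟩ := exists_mul_pow_mem hs ha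
      have h1 : algebraMap A L a ^ n = 0 := by
        have h2 : algebraMap A L (w * a ^ n) = 0 := by
          rw [IsScalarTower.algebraMap_apply A (A ⧸ I) L, Ideal.Quotient.algebraMap_eq, Ideal.Quotient.eq_zero_iff_mem.2 hn, map_zero]
        rw [map_mul, map_pow] at h2
        exact (hjtop w hw).mul_right_eq_zero.1 h2
      rw [IsLocalization.mk'_eq_mul_mk'_one]
      exact (Commute.all _ _).isNilpotent_mul_right ⟨n, h1⟩
    · refine Or.inl ?_
      rw [IsLocalization.mk'_eq_mul_mk'_one]
      exact (hjtop a ha).mul (IsUnit.of_mul_eq_one (algebraMap (A ⧸ I) L t)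
        (by rw [IsLocalization.mk'_spec, map_one]))
  haveI : IsLocalRing L := IsLocalRing.of_nonunits_add (fun a b ha hb hu => by
    have ha' := (hdich a).resolve_left ha
    have hb' := (hdich b).resolve_left hb
    exact ((Commute.all a b).isNilpotent_add ha' hb').not_isUnit hu)
  let M := L ⊗[A] B
  haveI : Module.Finite L M := finite_tensor_of_nil fun a ha => (hdich a).resolve_left ha
  haveI : Module.Free L M := Module.free_of_flat_of_isLocalRing
  let g : (A ⧸ I) ⊗[A] B →ₗ[A] M := AlgebraTensorModule.rTensor A B j.toLinearMap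
  haveI hg : IsLocalizedModule S g := by infer_instance
  have h1surj : ∀ y : (A ⧸ I) ⊗[A] B, ∃ x : B, y = 1 ⊗ₜ x := by
    intro y
    induction y with
    | zero => exact ⟨0, by rw [tmul_zero]⟩
    | tmul a b =>
      obtain ⟨a, rfl⟩ := Ideal.Quotient.mk_surjective a
      refine ⟨a • b, ?_⟩
      rw [← TensorProduct.smul_tmul, Algebra.smul_def, mul_one]; rfl
    | add y z hy hz =>
      obtain ⟨x, rfl⟩ := hy; obtain ⟨x', rfl⟩ := hz
      exact ⟨x + x', (tmul_add _ _ _).symm⟩
  have hg1 : ∀ x : B, g (1 ⊗ₜ x) = (1 : L) ⊗ₜ[A] x := fun x => by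
    show j 1 ⊗ₜ[A] x = _
    rw [map_one]
  have hsurj : ∀ m : M, ∃ v ∉ s, ∃ x : B, v • m = (1 : L) ⊗ₜ[A] x := by
    intro m
    obtain ⟨⟨y, v⟩, hy⟩ := IsLocalizedModule.surj S g m
    obtain ⟨x, rfl⟩ := h1surj y
    exact ⟨v, v.2, x, by rw [← hg1]; exact hy⟩
  have hker : ∀ x : B, (1 : L) ⊗ₜ[A] x = 0 → ∃ v ∉ s, algebraMap A B v * x ∈ I.map (algebraMap A B) :=
    fun x hx => kernel_at_min hx
  let β := Module.finBasis L M
  choose v hv x hx using fun i => hsurj (β i)
  let β' := β.unitsSMul fun i => (hjtop (v i) (hv i)).unit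
  have hβ' : ∀ i, β' i = (1 : L) ⊗ₜ[A] x i := fun i => by
    rw [Module.Basis.unitsSMul_apply, Units.smul_def, IsUnit.unit_spec, algebraMap_smul, hx i]
  refine ⟨Module.finrank L M, x, fun y => ?_, fun c hc i => ?_⟩
  · have hl : ∀ l : L, ∃ w ∉ s, ∃ a : A, w • l = algebraMap A L a := by
      intro l
      obtain ⟨⟨y, w⟩, hy⟩ := IsLocalizedModule.surj S j.toLinearMap l
      obtain ⟨a, rfl⟩ := Ideal.Quotient.mk_surjective y
      exact ⟨w, w.2, a, hy⟩
    choose w hw a ha using fun i => hl (β'.repr ((1 : L) ⊗ₜ[A] y) i)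
    let W := ∏ i, w i
    let c : Fin _ → A := fun i => (∏ i' ∈ Finset.univ.erase i, w i') * a i
    have hW : W ∉ s := fun h => by
      obtain ⟨i, -, hi⟩ := (Ideal.IsPrime.prod_mem_iff (p := s)).1 h
      exact hw i hi
    have h1 : (1 : L) ⊗ₜ[A] (algebraMap A B W * y - ∑ i, c i • x i) = 0 := by
      rw [tmul_sub, ← Algebra.smul_def, tmul_smul, tmul_sum, sub_eq_zero]
      conv_lhs => rw [← β'.sum_repr ((1 : L) ⊗ₜ[A] y)]
      rw [Finset.smul_sum]
      refine Finset.sum_congr rfl fun i _ => ?_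
      rw [tmul_smul, ← smul_assoc, hβ', show W = (∏ i' ∈ Finset.univ.erase i, w i') * w i from
        (Finset.prod_erase_mul _ _ (Finset.mem_univ i)).symm, mul_smul, ha,
        Algebra.algebraMap_eq_smul_one, smul_smul, smul_assoc, one_smul]
    obtain ⟨v', hv', hv''⟩ := hker _ h1
    refine ⟨v' * W, fun h => (‹s.IsPrime›.mem_or_mem h).elim hv' hW, fun i => v' * c i, ?_⟩
    rw [map_mul, mul_assoc]
    convert hv'' using 1
    simp [mul_sub, Finset.mul_sum, Algebra.smul_def, mul_assoc]
  · have h1 : ∑ i, algebraMap A L (c i) • β' i = 0 := by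
      simp only [hβ', algebraMap_smul]
      have h2 : (Algebra.TensorProduct.includeRight : B →ₐ[A] M).toRingHom.comp (algebraMap A B) = algebraMap A M :=
        (Algebra.TensorProduct.includeRight : B →ₐ[A] M).comp_algebraMap
      have h3 : I.map (algebraMap A B) ≤ RingHom.ker (Algebra.TensorProduct.includeRight : B →ₐ[A] M) := by
        rw [Ideal.map_le_iff_le_comap]
        intro a ha
        rw [Ideal.mem_comap, RingHom.mem_ker, AlgHom.commutes, IsScalarTower.algebraMap_apply A L M,
          IsScalarTower.algebraMap_apply A (A ⧸ I) L, Ideal.Quotient.algebraMap_eq,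
          Ideal.Quotient.eq_zero_iff_mem.2 ha, map_zero, map_zero]
      have h4 := RingHom.mem_ker.1 (h3 hc)
      simpa [tmul_sum, tmul_smul] using h4
    have h2 := (Fintype.linearIndependent_iff.1 β'.linearIndependent) _ h1 i
    have h3 : j.toLinearMap (Ideal.Quotient.mk I (c i)) = 0 := h2
    obtain ⟨v', hv'⟩ := (IsLocalizedModule.eq_zero_iff S j.toLinearMap).1 h3
    exact ⟨v', v'.2, Ideal.Quotient.eq_zero_iff_mem.1 (by rw [map_mul]; simpa [Submonoid.smul_def, Algebra.smul_def] using hv')⟩

/-- The spreading out around a minimal prime of the annihilator. -/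
theorem exists_data [Module.Flat A B] [Algebra.FinitePresentation A B] [Algebra.QuasiFinite A B] {g : B}
    (hg : g ≠ 0) :
    ∃ (u : A) (r : ℕ) (e : Fin r → B) (J : Ideal A), J.FG ∧ (∀ a ∈ J, a • g = 0) ∧ (∀ n : ℕ, u ^ n • g ≠ 0) ∧
      (∀ x : B, ∃ (n : ℕ) (c : Fin r → A), algebraMap A B (u ^ n) * x - ∑ i, c i • e i ∈ J.map (algebraMap A B)) ∧
      (∃ ψ : B →ₗ[A] (Fin r → Localization.Away u ⧸ J.map (algebraMap A (Localization.Away u))),
        ∀ i, ψ (e i) = Pi.single i 1) := by
  classical
  let I : Ideal A := LinearMap.ker (LinearMap.toSpanSingleton A B g)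
  have hI : ∀ a, a ∈ I ↔ a • g = 0 := fun a => Iff.rfl
  have hItop : I ≠ ⊤ := fun h => hg (by simpa using (hI 1).1 (h ▸ Submodule.mem_top))
  obtain ⟨s, hs⟩ := Ideal.nonempty_minimalPrimes hItop
  haveI := hs.1.1
  obtain ⟨r, e, hgen, hind⟩ := exists_basis_at_min (B := B) hs
  obtain ⟨G, hG⟩ := (Algebra.FiniteType.out : (⊤ : Subalgebra A B).FG)
  -- finitely many conditions for generation
  have key : ∀ P : Finset B, ∃ (u : A) (J : Ideal A), u ∉ s ∧ J.FG ∧ J ≤ I ∧
      ∀ y ∈ P, ∃ c : Fin r → A, algebraMap A B u * y - ∑ i, c i • e i ∈ J.map (algebraMap A B) := by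
    intro P
    induction P using Finset.induction_on with
    | empty => exact ⟨1, ⊥, fun h => hs.1.1.ne_top ((Ideal.eq_top_iff_one _).2 h), Submodule.fg_bot, bot_le, by simp⟩
    | insert y P hy ih =>
      obtain ⟨u, J, hu, hJ, hJI, hP⟩ := ih
      obtain ⟨v, hv, c, hc⟩ := hgen y
      obtain ⟨J', hJ', hJ'fg, hc'⟩ : ∃ J' : Ideal A, J' ≤ I ∧ J'.FG ∧
          algebraMap A B v * y - ∑ i, c i • e i ∈ J'.map (algebraMap A B) := by
        obtain ⟨T, hT, hmem⟩ := Submodule.mem_span_finite_of_mem_span hc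
        choose a ha hab using fun t : T => hT t.2
        refine ⟨Ideal.span (Set.range a), Ideal.span_le.2 (by rintro _ ⟨t, rfl⟩; exact ha t),
          ⟨T.attach.image a, by simp [Finset.coe_image, Set.image_univ]⟩, ?_⟩
        refine (Ideal.span_le.2 fun t ht => ?_) hmem
        have h1 : a ⟨t, ht⟩ ∈ Ideal.span (Set.range a) := Ideal.subset_span ⟨_, rfl⟩
        have h2 := Ideal.mem_map_of_mem (algebraMap A B) h1
        rw [hab] at h2
        exact h2
      refine ⟨u * v, J ⊔ J', fun h => (‹s.IsPrime›.mem_or_mem h).elim hu hv, Submodule.FG.sup hJ hJ'fg, sup_le hJI hJ', ?_⟩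
      intro z hz
      rcases Finset.mem_insert.1 hz with rfl | hz
      · refine ⟨fun i => u * c i, ?_⟩
        have := Ideal.mul_mem_left _ (algebraMap A B u) (Ideal.map_mono (f := algebraMap A B) (le_sup_right : J' ≤ J ⊔ J') hc')
        convert this using 1
        simp [mul_sub, Finset.mul_sum, Algebra.smul_def, mul_assoc]
      · obtain ⟨c', hc''⟩ := hP z hz
        refine ⟨fun i => v * c' i, ?_⟩
        have := Ideal.mul_mem_left _ (algebraMap A B v) (Ideal.map_mono (f := algebraMap A B) (le_sup_left : J ≤ J ⊔ J') hc'')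
        convert this using 1
        simp [mul_sub, Finset.mul_sum, Algebra.smul_def, mul_assoc, mul_left_comm]
  obtain ⟨u, J₀, hu, hJ₀, hJ₀I, hP⟩ := key (insert 1 ((G ×ˢ Finset.univ).image fun p : B × Fin r => p.1 * e p.2))
  let N : Submodule A B :=
    { carrier := {x | ∃ (n : ℕ) (c : Fin r → A), algebraMap A B (u ^ n) * x - ∑ i, c i • e i ∈ J₀.map (algebraMap A B)}
      zero_mem' := ⟨0, 0, by simp⟩
      add_mem' := by
        rintro x y ⟨n, c, hx⟩ ⟨n', c', hy⟩
        refine ⟨n + n', fun i => u ^ n' * c i + u ^ n * c' i, ?_⟩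
        have := add_mem (Ideal.mul_mem_left _ (algebraMap A B (u ^ n')) hx) (Ideal.mul_mem_left _ (algebraMap A B (u ^ n)) hy)
        convert this using 1
        simp only [pow_add, map_mul, Algebra.smul_def, map_add, add_mul, Finset.sum_add_distrib, mul_sub, Finset.mul_sum]
        simp only [mul_assoc]
        ring
      smul_mem' := by
        rintro a x ⟨n, c, hx⟩
        refine ⟨n, fun i => a * c i, ?_⟩
        have := Ideal.mul_mem_left _ (algebraMap A B a) hx
        convert this using 1
        simp only [Algebra.smul_def, mul_sub, Finset.mul_sum, map_mul, mul_assoc]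
        ring }
  have hNJ : ∀ x ∈ J₀.map (algebraMap A B), x ∈ N := fun x hx => ⟨0, 0, by simpa using hx⟩
  have hNu : ∀ (n : ℕ) (x : B), algebraMap A B (u ^ n) * x ∈ N → x ∈ N := by
    rintro n x ⟨m, c, hx⟩
    exact ⟨m + n, c, by rwa [pow_add, map_mul, mul_assoc]⟩
  have hNe : ∀ i, e i ∈ N := fun i => ⟨0, Pi.single i 1, by simp [Pi.single_apply, Finset.sum_ite_eq']⟩
  have hbase : ∀ z ∈ insert (1 : B) ((G ×ˢ Finset.univ).image fun p : B × Fin r => p.1 * e p.2), z ∈ N := by
    intro z hz
    obtain ⟨c, hc⟩ := hP z hz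
    exact ⟨1, c, by rwa [pow_one]⟩
  have hmulG : ∀ y ∈ G, ∀ x ∈ N, y * x ∈ N := by
    intro y hy x hxN
    obtain ⟨n, c, hx⟩ := hxN
    refine hNu n _ ?_
    have h1 : y * (algebraMap A B (u ^ n) * x) =
        y * (algebraMap A B (u ^ n) * x - ∑ i, c i • e i) + ∑ i, c i • (y * e i) := by
      rw [mul_sub, Finset.mul_sum]
      simp only [mul_smul_comm, sub_add_cancel]
    rw [mul_left_comm, h1]
    refine add_mem (hNJ _ (Ideal.mul_mem_left _ _ hx)) (sum_mem fun i _ => N.smul_mem _ (hbase _ ?_))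
    exact Finset.mem_insert_of_mem (Finset.mem_image.2 ⟨(y, i), Finset.mem_product.2 ⟨hy, Finset.mem_univ i⟩, rfl⟩)
  have hall : ∀ x : B, x ∈ N := by
    let St : Subalgebra A B :=
      { carrier := {y | ∀ x ∈ N, y * x ∈ N}
        mul_mem' := fun {a b} ha hb x hx => by rw [mul_assoc]; exact ha _ (hb x hx)
        one_mem' := fun x hx => by rwa [one_mul]
        add_mem' := fun {a b} ha hb x hx => by rw [add_mul]; exact add_mem (ha x hx) (hb x hx)
        zero_mem' := fun x hx => by rw [zero_mul]; exact N.zero_mem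
        algebraMap_mem' := fun a x hx => by rw [← Algebra.smul_def]; exact N.smul_mem a hx }
    intro x
    have hx : x ∈ St := (Algebra.adjoin_le (S := St) fun y hy => hmulG y hy) (hG.ge Algebra.mem_top)
    simpa using hx 1 (hbase 1 (Finset.mem_insert_self _ _))
  -- the relations
  let Q := Localization.Away u ⧸ J₀.map (algebraMap A (Localization.Away u))
  let T := Q ⊗[A] B
  have huQ : IsUnit (algebraMap A Q u) := by
    rw [IsScalarTower.algebraMap_apply A (Localization.Away u) Q]
    exact (IsLocalization.Away.algebraMap_isUnit u).map _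
  have hJT : ∀ x ∈ J₀.map (algebraMap A B), (1 : Q) ⊗ₜ[A] x = 0 := by
    intro x hx
    have h3 : J₀.map (algebraMap A B) ≤ RingHom.ker (Algebra.TensorProduct.includeRight : B →ₐ[A] T) := by
      rw [Ideal.map_le_iff_le_comap]
      intro a ha
      rw [Ideal.mem_comap, RingHom.mem_ker, AlgHom.commutes, IsScalarTower.algebraMap_apply A Q T,
        IsScalarTower.algebraMap_apply A (Localization.Away u) Q, Ideal.Quotient.algebraMap_eq,
        Ideal.Quotient.eq_zero_iff_mem.2 (Ideal.mem_map_of_mem _ ha), map_zero]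
    exact h3 hx
  let l : (Fin r → Q) →ₗ[Q] T := Fintype.linearCombination Q fun i => (1 : Q) ⊗ₜ[A] e i
  have hl : Function.Surjective l := by
    intro t
    induction t using TensorProduct.induction_on with
    | zero => exact ⟨0, map_zero l⟩
    | add y z hy hz =>
      obtain ⟨a, rfl⟩ := hy; obtain ⟨b, rfl⟩ := hz
      exact ⟨a + b, map_add l a b⟩
    | tmul q x =>
      obtain ⟨n, c, hc⟩ := hall x
      have h1 := hJT _ hc
      rw [tmul_sub, sub_eq_zero, ← Algebra.smul_def, tmul_smul, tmul_sum] at h1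
      obtain ⟨U, hU⟩ := huQ.pow n
      refine ⟨(q * ↑U⁻¹) • fun i => algebraMap A Q (c i), ?_⟩
      rw [map_smul, Fintype.linearCombination_apply]
      simp only [algebraMap_smul]
      simp only [tmul_smul] at h1
      rw [← h1, ← algebraMap_smul Q (u ^ n) ((1 : Q) ⊗ₜ[A] x), map_pow, smul_smul, ← hU,
        Units.inv_mul_cancel_right, TensorProduct.smul_tmul', smul_eq_mul, mul_one]
  haveI : Module.Finite Q T := Module.Finite.of_surjective l hl
  haveI : Module.FinitePresentation Q T := Module.FinitePresentation.of_finite_of_finitePresentation Q T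
  obtain ⟨K, hK⟩ := Module.FinitePresentation.fg_ker l hl
  have hcoef : ∀ z ∈ K, ∀ i, ∃ v ∉ s, ∃ a : A, v * a ∈ I ∧ ∃ n : ℕ, algebraMap A Q (u ^ n) * z i = algebraMap A Q a := by
    intro z hz i
    have hzl : l z = 0 := by
      have : z ∈ LinearMap.ker l := hK ▸ Submodule.subset_span hz
      exact this
    have hnum : ∀ q : Q, ∃ (a : A) (n : ℕ), algebraMap A Q (u ^ n) * q = algebraMap A Q a := by
      intro q
      obtain ⟨q, rfl⟩ := Ideal.Quotient.mk_surjective q
      obtain ⟨⟨a, ⟨_, n, rfl⟩⟩, ha⟩ := IsLocalization.surj (Submonoid.powers u) q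
      refine ⟨a, n, ?_⟩
      rw [IsScalarTower.algebraMap_apply A (Localization.Away u) Q, IsScalarTower.algebraMap_apply A (Localization.Away u) Q,
        Ideal.Quotient.algebraMap_eq, ← map_mul, ← ha, mul_comm]
    choose a n ha using fun i => hnum (z i)
    let N' := ∑ i, n i
    let c : Fin r → A := fun i => u ^ (N' - n i) * a i
    have hc : ∀ i, algebraMap A Q (u ^ N') * z i = algebraMap A Q (c i) := fun i => by
      rw [map_mul, ← ha, ← mul_assoc, ← map_mul, ← pow_add,
        Nat.sub_add_cancel (Finset.single_le_sum (fun j _ => Nat.zero_le (n j)) (Finset.mem_univ i))]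
    let L := Localization (Algebra.algebraMapSubmonoid (A ⧸ I) s.primeCompl)
    have huL : IsUnit (algebraMap A L u) := by
      rw [IsScalarTower.algebraMap_apply A (A ⧸ I) L]
      exact IsLocalization.map_units L (⟨_, Algebra.mem_algebraMapSubmonoid_of_mem (⟨u, hu⟩ : s.primeCompl)⟩ : Algebra.algebraMapSubmonoid (A ⧸ I) s.primeCompl)
    -- specialise to the minimal prime
    have h0 : (1 : Q) ⊗ₜ[A] (∑ i, c i • e i) = 0 := by
      have h1 : algebraMap A Q (u ^ N') • l z = 0 := by rw [hzl, smul_zero]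
      rw [← map_smul, Fintype.linearCombination_apply] at h1
      simp only [Pi.smul_apply, smul_eq_mul, hc, algebraMap_smul] at h1
      rw [tmul_sum]
      simp only [tmul_smul]
      exact h1
    let θ₀ : Localization.Away u →ₐ[A] L := IsLocalization.liftAlgHom (M := Submonoid.powers u) (f := Algebra.ofId A L)
      (by rintro ⟨_, m, rfl⟩; simpa using huL.pow m)
    let θ : Q →ₐ[A] L := Ideal.Quotient.liftₐ _ θ₀ fun x hx => by
      have : J₀.map (algebraMap A (Localization.Away u)) ≤ RingHom.ker θ₀ := by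
        rw [Ideal.map_le_iff_le_comap]
        intro y hy
        rw [Ideal.mem_comap, RingHom.mem_ker, AlgHom.commutes, IsScalarTower.algebraMap_apply A (A ⧸ I) L,
          Ideal.Quotient.algebraMap_eq, Ideal.Quotient.eq_zero_iff_mem.2 (hJ₀I hy), map_zero]
      exact this hx
    have h2 : (1 : L) ⊗ₜ[A] (∑ i, c i • e i) = 0 := by
      have := congrArg (Algebra.TensorProduct.map θ (AlgHom.id A B)) h0
      rwa [Algebra.TensorProduct.map_tmul, map_one, map_zero] at this
    obtain ⟨v, hv, hvc⟩ := kernel_at_min h2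
    obtain ⟨v', hv', hv''⟩ := hind (fun i => v * c i) (by
      convert hvc using 1
      simp [Finset.mul_sum, Algebra.smul_def, mul_assoc]) i
    exact ⟨v' * v, fun h => (‹s.IsPrime›.mem_or_mem h).elim hv' hv, c i, by rwa [mul_assoc], N', hc i⟩
  choose v hv a ha n hn using hcoef
  let P := K.attach ×ˢ (Finset.univ : Finset (Fin r))
  let u' := u * ∏ p ∈ P, v p.1.1 p.1.2 p.2
  let J := J₀ ⊔ Ideal.span ↑(P.image fun p => v p.1.1 p.1.2 p.2 * a p.1.1 p.1.2 p.2)
  have hJI : J ≤ I := sup_le hJ₀I (Ideal.span_le.2 (by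
    intro x hx
    obtain ⟨p, -, rfl⟩ := Finset.mem_image.1 hx
    exact ha p.1.1 p.1.2 p.2))
  have hu's : u' ∉ s := fun h => (‹s.IsPrime›.mem_or_mem h).elim hu fun h' => by
    obtain ⟨p, -, hp⟩ := (Ideal.IsPrime.prod_mem_iff (p := s)).1 h'
    exact hv p.1.1 p.1.2 p.2 hp
  refine ⟨u', r, e, J, Submodule.FG.sup hJ₀ ⟨_, rfl⟩, fun x hx => (hI x).1 (hJI hx), fun n hn' => hu's (‹s.IsPrime›.mem_of_pow_mem n
    (hs.1.2 ((hI _).2 hn'))), fun x => ?_, ?_⟩
  · obtain ⟨n, c, hc⟩ := hall x
    refine ⟨n, fun i => (∏ p ∈ P, v p.1.1 p.1.2 p.2) ^ n * c i, ?_⟩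
    have := Ideal.mul_mem_left _ (algebraMap A B ((∏ p ∈ P, v p.1.1 p.1.2 p.2) ^ n))
      (Ideal.map_mono (f := algebraMap A B) (le_sup_left : J₀ ≤ J) hc)
    convert this using 1
    simp [u', mul_pow, mul_sub, Finset.mul_sum, Algebra.smul_def, mul_assoc, mul_left_comm]
  · let R' := Localization.Away u' ⧸ J.map (algebraMap A (Localization.Away u'))
    have hu'R : IsUnit (algebraMap A R' u') := by
      rw [IsScalarTower.algebraMap_apply A (Localization.Away u') R']
      exact (IsLocalization.Away.algebraMap_isUnit u').map _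
    have hJR : ∀ x ∈ J, algebraMap A R' x = 0 := fun x hx => by
      rw [IsScalarTower.algebraMap_apply A (Localization.Away u') R', Ideal.Quotient.algebraMap_eq,
        Ideal.Quotient.eq_zero_iff_mem]
      exact Ideal.mem_map_of_mem _ hx
    have huR : IsUnit (algebraMap A R' u) := by
      rw [map_mul] at hu'R
      exact (IsUnit.mul_iff.1 hu'R).1
    let π₀ : Localization.Away u →ₐ[A] R' := IsLocalization.liftAlgHom (M := Submonoid.powers u) (f := Algebra.ofId A R')
      (by rintro ⟨_, m, rfl⟩; simpa using huR.pow m)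
    let π : Q →ₐ[A] R' := Ideal.Quotient.liftₐ _ π₀ fun x hx => by
      have : J₀.map (algebraMap A (Localization.Away u)) ≤ RingHom.ker π₀ := by
        rw [Ideal.map_le_iff_le_comap]
        intro y hy
        rw [Ideal.mem_comap, RingHom.mem_ker, AlgHom.commutes]
        exact hJR y (Ideal.mem_sup_left hy)
      exact this hx
    letI : Algebra Q R' := π.toRingHom.toAlgebra
    haveI : IsScalarTower A Q R' := IsScalarTower.of_algebraMap_eq fun x => (π.commutes x).symm
    let Φ : (Fin r → Q) →ₗ[Q] (Fin r → R') := (Algebra.linearMap Q R').compLeft (Fin r)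
    have hΦK : LinearMap.ker l ≤ LinearMap.ker Φ := by
      rw [← hK, Submodule.span_le]
      intro z hz
      rw [SetLike.mem_coe, LinearMap.mem_ker]
      funext i
      show π (z i) = 0
      have h1 := congrArg π (hn z hz i)
      rw [map_mul, π.commutes, π.commutes] at h1
      have h2 : algebraMap A R' (v z hz i * a z hz i) = 0 :=
        hJR _ (Ideal.mem_sup_right (Ideal.subset_span (Finset.mem_coe.2 (Finset.mem_image.2
          ⟨(⟨z, hz⟩, i), Finset.mem_product.2 ⟨Finset.mem_attach _ _, Finset.mem_univ i⟩, rfl⟩))))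
      have h3 : IsUnit (algebraMap A R' (v z hz i)) := by
        rw [map_mul, map_prod] at hu'R
        exact (IsUnit.prod_iff).1 (IsUnit.mul_iff.1 hu'R).2 ⟨⟨z, hz⟩, i⟩
          (Finset.mem_product.2 ⟨Finset.mem_attach _ _, Finset.mem_univ i⟩)
      rw [map_mul, ← h1] at h2
      exact (huR.pow _).mul_right_eq_zero.1 (by rw [← map_pow]; exact h3.mul_right_eq_zero.1 h2)
    let ψT : T →ₗ[Q] (Fin r → R') :=
      (Submodule.liftQ _ Φ hΦK).comp (l.quotKerEquivOfSurjective hl).symm.toLinearMap
    have hψT : ∀ z, ψT (l z) = Φ z := fun z => by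
      show Submodule.liftQ _ Φ hΦK ((l.quotKerEquivOfSurjective hl).symm (l z)) = Φ z
      rw [show l z = l.quotKerEquivOfSurjective hl (Submodule.Quotient.mk z) from rfl, LinearEquiv.symm_apply_apply]
      rfl
    refine ⟨(ψT.restrictScalars A).comp (Algebra.TensorProduct.includeRight : B →ₐ[A] T).toLinearMap, fun i => ?_⟩
    show ψT ((1 : Q) ⊗ₜ[A] e i) = _
    have h1 : l (Pi.single i 1) = (1 : Q) ⊗ₜ[A] e i := by
      rw [Fintype.linearCombination_apply, Finset.sum_eq_single i (fun b _ hb => by rw [Pi.single_eq_of_ne hb]; exact zero_smul Q ((1 : Q) ⊗ₜ[A] e b))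
        (fun h => absurd (Finset.mem_univ i) h), Pi.single_eq_same, one_smul]
    rw [← h1, hψT]
    funext i'
    show π ((Pi.single i (1 : Q) : Fin r → Q) i') = _
    simp [Pi.single_apply, apply_ite π]

/-- The local form. -/
theorem exists_map {u : A} {r : ℕ} {e : Fin r → B} {J : Ideal A} (hJfg : J.FG) {g : B}
    (hJ : ∀ a ∈ J, a • g = 0)
    (hgen : ∀ x : B, ∃ (n : ℕ) (c : Fin r → A), algebraMap A B (u ^ n) * x - ∑ i, c i • e i ∈ J.map (algebraMap A B))
    (ψ : B →ₗ[A] (Fin r → Localization.Away u ⧸ J.map (algebraMap A (Localization.Away u))))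
    (hψ : ∀ i, ψ (e i) = Pi.single i 1)
    {A' B' : Type u} [CommRing A'] [CommRing B'] [Algebra A A'] [IsLocalization.Away u A'] [Algebra B B']
    [IsLocalization.Away (algebraMap A B u) B'] [Algebra A' B'] [Algebra A B'] [IsScalarTower A A' B']
    [IsScalarTower A B B'] [Module.Flat A' B'] (hg : algebraMap B B' g ≠ 0) :
    ∃ (F : Ideal A') (k : ℕ), 0 < k ∧ ∃ φ : (Fin k → ↥F) →ₗ[A'] B', Function.Injective φ ∧
      algebraMap B B' g ∈ LinearMap.range φ := by
  classical
  obtain ⟨G, hG⟩ := hJfg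
  let J' := J.map (algebraMap A A')
  let R := A' ⧸ J'
  -- transport of coordinates
  let π : Localization.Away u →ₐ[A] A' := (IsLocalization.algEquiv (Submonoid.powers u) (Localization.Away u) A').toAlgHom
  let π' : Localization.Away u ⧸ J.map (algebraMap A (Localization.Away u)) →ₐ[A] R :=
    Ideal.Quotient.liftₐ _ ((Ideal.Quotient.mkₐ A J').comp π) fun x hx => by
      have : J.map (algebraMap A (Localization.Away u)) ≤ RingHom.ker ((Ideal.Quotient.mkₐ A J').comp π) := by
        rw [Ideal.map_le_iff_le_comap]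
        intro y hy
        rw [Ideal.mem_comap, RingHom.mem_ker, AlgHom.commutes, IsScalarTower.algebraMap_apply A A' R,
          Ideal.Quotient.algebraMap_eq, Ideal.Quotient.eq_zero_iff_mem]
        exact Ideal.mem_map_of_mem _ hy
      exact this hx
  let ψ₁ : B →ₗ[A] (Fin r → R) := (π'.toLinearMap.compLeft (Fin r)).comp ψ
  haveI : IsLocalization (Algebra.algebraMapSubmonoid B (Submonoid.powers u)) B' := by
    rw [Algebra.algebraMapSubmonoid, Submonoid.map_powers]
    infer_instance
  haveI : IsLocalizedModule (Submonoid.powers u) (IsScalarTower.toAlgHom A B B').toLinearMap :=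
    isLocalizedModule_iff_isLocalization.2 inferInstance
  have hunit : ∀ x : Submonoid.powers u, IsUnit (algebraMap A (Module.End A (Fin r → R)) x) := by
    rintro ⟨_, n, rfl⟩
    obtain ⟨U, hU⟩ := ((IsLocalization.Away.algebraMap_isUnit (S := A') u).map (algebraMap A' R)).pow n
    rw [Module.End.isUnit_iff]
    have hact : ∀ w : Fin r → R, (u ^ n) • w = (U : R) • w := fun w => by
      rw [hU, ← algebraMap_smul R (u ^ n) w, map_pow, ← IsScalarTower.algebraMap_apply]
    constructor
    · intro x y hxy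
      have h' : (U : R) • x = (U : R) • y := by rw [← hact, ← hact]; exact hxy
      exact (IsUnit.smul_left_cancel U.isUnit).1 h'
    · exact fun y => ⟨(↑U⁻¹ : R) • y, by
        rw [Module.algebraMap_end_apply]
        show (u ^ n) • _ = y
        rw [hact, smul_smul, Units.mul_inv, one_smul]⟩
  let ψ₂ : B' →ₗ[A] (Fin r → R) := IsLocalizedModule.lift (Submonoid.powers u) (IsScalarTower.toAlgHom A B B').toLinearMap ψ₁ hunit
  have hψ₂ : ∀ b : B, ψ₂ (algebraMap B B' b) = ψ₁ b := fun b =>
    IsLocalizedModule.lift_apply _ _ _ _ b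
  let Ψ : B' →ₗ[A'] (Fin r → R) := ψ₂.extendScalarsOfIsLocalization (Submonoid.powers u) A'
  have hΨe : ∀ i, Ψ (algebraMap B B' (e i)) = Pi.single i 1 := fun i => by
    show ψ₂ _ = _
    rw [hψ₂]
    funext i'
    show π' (ψ (e i) i') = _
    rw [hψ]
    simp [Pi.single_apply, apply_ite π']
  -- generation
  have hgen' : ∀ y : B', ∃ c : Fin r → A', y - ∑ i, c i • algebraMap B B' (e i) ∈ J'.map (algebraMap A' B') := by
    intro y
    obtain ⟨⟨x, ⟨_, ⟨_, ⟨m, rfl⟩, rfl⟩⟩⟩, hx⟩ := IsLocalization.surj (Algebra.algebraMapSubmonoid B (Submonoid.powers u)) y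
    obtain ⟨n, c, hc⟩ := hgen x
    obtain ⟨U, hU⟩ := ((IsLocalization.Away.algebraMap_isUnit (S := A') u).pow (n + m))
    refine ⟨fun i => ↑U⁻¹ * algebraMap A A' (c i), ?_⟩
    have h1 := Ideal.mem_map_of_mem (algebraMap B B') hc
    rw [Ideal.map_map, ← IsScalarTower.algebraMap_eq, IsScalarTower.algebraMap_eq A A' B', ← Ideal.map_map] at h1
    have h2 := Ideal.mul_mem_left _ (algebraMap A' B' ↑U⁻¹) h1
    have hx' : y * algebraMap A B' (u ^ m) = algebraMap B B' x := by
      rw [IsScalarTower.algebraMap_apply A B B']; exact hx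
    have e1 : algebraMap A' B' ↑U⁻¹ * algebraMap B B' (algebraMap A B (u ^ n) * x) = y := by
      rw [map_mul, ← IsScalarTower.algebraMap_apply A B B', ← hx', mul_left_comm (algebraMap A B' (u ^ n)) y,
        ← mul_assoc, mul_comm _ y, mul_assoc, ← map_mul, ← pow_add, IsScalarTower.algebraMap_apply A A' B',
        map_pow (algebraMap A A'), ← hU, ← map_mul, Units.inv_mul, map_one, mul_one]
    convert h2 using 1
    rw [map_sub, mul_sub, e1, map_sum, Finset.mul_sum]
    refine congrArg _ (Finset.sum_congr rfl fun i _ => ?_)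
    rw [Algebra.smul_def, Algebra.smul_def, map_mul, map_mul, ← IsScalarTower.algebraMap_apply A A' B',
      ← IsScalarTower.algebraMap_apply A B B', mul_assoc]
  -- the annihilator of J'
  let ev : A' →ₗ[A'] (G → A') := LinearMap.pi fun j => LinearMap.mulLeft A' (algebraMap A A' j.1)
  let F : Ideal A' := LinearMap.ker ev
  have hF : ∀ f ∈ F, ∀ a ∈ J', a * f = 0 := by
    intro f hf a ha
    have : J' ≤ LinearMap.ker (LinearMap.mulRight A' f) := by
      rw [Ideal.map_le_iff_le_comap, ← hG, Submodule.span_le]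
      intro j hj
      exact congrFun (show ev f = 0 from hf) ⟨j, hj⟩
    exact this ha
  let act : F →ₗ[A'] R →ₗ[A'] F :=
    { toFun := fun f => Submodule.liftQ J' (LinearMap.toSpanSingleton A' F f) fun a ha => by
        rw [LinearMap.mem_ker]
        exact Subtype.ext (hF f.1 f.2 a ha)
      map_add' := fun f f' => LinearMap.ext fun q => Submodule.Quotient.induction_on _ q fun x => smul_add x f f'
      map_smul' := fun a f => LinearMap.ext fun q => Submodule.Quotient.induction_on _ q fun x => smul_comm x a f }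
  let bil : F →ₗ[A'] B' →ₗ[A'] (Fin r → F) :=
    { toFun := fun f => ((act f).compLeft (Fin r)).comp Ψ
      map_add' := fun f f' => LinearMap.ext fun b => funext fun i => by simp [map_add]
      map_smul' := fun a f => LinearMap.ext fun b => funext fun i => by simp [map_smul] }
  let ζ : F ⊗[A'] B' →ₗ[A'] (Fin r → F) := TensorProduct.lift bil
  let φ₀ : (Fin r → F) →ₗ[A'] F ⊗[A'] B' :=
    ∑ i, ((TensorProduct.mk A' F B').flip (algebraMap B B' (e i))).comp (LinearMap.proj i)
  have hζφ : ∀ f, ζ (φ₀ f) = f := by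
    intro f
    simp only [φ₀, LinearMap.coe_sum, Finset.sum_apply, map_sum, LinearMap.comp_apply, LinearMap.flip_apply, TensorProduct.mk_apply,
      LinearMap.proj_apply, ζ, TensorProduct.lift.tmul]
    funext i'
    rw [Finset.sum_apply]
    have : ∀ i, bil (f i) (algebraMap B B' (e i)) i' = if i' = i then f i else 0 := by
      intro i
      show act (f i) (Ψ (algebraMap B B' (e i)) i') = _
      rw [hΨe]
      by_cases h : i' = i
      · subst h; rw [Pi.single_eq_same, if_pos rfl]
        exact one_smul A' (f i')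
      · rw [Pi.single_eq_of_ne h, if_neg h, map_zero]
    simp [this]
  let μ : F ⊗[A'] B' →ₗ[A'] B' := (TensorProduct.lid A' B').toLinearMap.comp (F.subtype.rTensor B')
  have hμ : Function.Injective μ := (TensorProduct.lid A' B').injective.comp
    (Module.Flat.rTensor_preserves_injective_linearMap F.subtype F.injective_subtype)
  have hexact : Function.Exact F.subtype ev := LinearMap.exact_subtype_ker_map ev
  have hgμ : algebraMap B B' g ∈ LinearMap.range μ := by
    have h2 : ev.rTensor B' ((1 : A') ⊗ₜ[A'] algebraMap B B' g) = 0 := by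
      apply (TensorProduct.piLeft A' B' fun _ : G => A').injective
      rw [map_zero]
      funext j
      apply (TensorProduct.lid A' B').injective
      simp only [LinearMap.rTensor_tmul, TensorProduct.piLeft, LinearEquiv.trans_apply, TensorProduct.comm_tmul, TensorProduct.piRight_apply, TensorProduct.piRightHom_tmul, LinearEquiv.piCongrRight_apply, TensorProduct.lid_tmul, Pi.zero_apply, map_zero]
      show (algebraMap A A' j.1 * 1) • algebraMap B B' g = 0
      rw [mul_one, algebraMap_smul, Algebra.smul_def, IsScalarTower.algebraMap_apply A B B', ← map_mul,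
        ← Algebra.smul_def, hJ _ (hG ▸ Submodule.subset_span j.2), map_zero]
    obtain ⟨z, hz⟩ := (Module.Flat.rTensor_exact B' hexact _).1 h2
    exact ⟨z, by show TensorProduct.lid A' B' _ = _; rw [hz, TensorProduct.lid_tmul, one_smul]⟩
  have hφ₀ : ∀ z, ∃ f, φ₀ f = z := by
    intro z
    induction z with
    | zero => exact ⟨0, map_zero _⟩
    | add y z hy hz =>
      obtain ⟨a, rfl⟩ := hy; obtain ⟨b, rfl⟩ := hz
      exact ⟨a + b, map_add _ _ _⟩
    | tmul f b =>
      obtain ⟨c, hc⟩ := hgen' b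
      refine ⟨fun i => c i • f, ?_⟩
      have h0 : ∀ y ∈ J'.map (algebraMap A' B'), ∀ f : F, f ⊗ₜ[A'] y = 0 := by
        intro y hy
        induction hy using Submodule.span_induction with
        | mem y hy =>
          obtain ⟨a, ha, rfl⟩ := hy
          intro f
          rw [Algebra.algebraMap_eq_smul_one, ← smul_tmul, show a • f = 0 from Subtype.ext (hF f.1 f.2 a ha), zero_tmul]
        | zero => exact fun f => tmul_zero _ f
        | add y z _ _ hy hz => exact fun f => by rw [tmul_add, hy, hz, add_zero]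
        | smul b y _ hy =>
          intro f
          have h := congrArg (fun w => (LinearMap.lTensor F (LinearMap.mulLeft A' b)) w) (hy f)
          simpa using h
      have := h0 _ hc f
      rw [tmul_sub, sub_eq_zero, tmul_sum] at this
      simp only [φ₀, LinearMap.coe_sum, Finset.sum_apply, LinearMap.comp_apply, LinearMap.flip_apply, TensorProduct.mk_apply,
        LinearMap.proj_apply, smul_tmul, this]
  rcases Nat.eq_zero_or_pos r with hr | hr
  · exfalso
    obtain ⟨z, hz⟩ := hgμ
    obtain ⟨f, rfl⟩ := hφ₀ z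
    subst hr
    apply hg
    rw [← hz, show f = 0 from funext fun i => i.elim0, map_zero, map_zero]
  refine ⟨F, r, hr, μ.comp φ₀, fun x y h => ?_, ?_⟩
  · have := congrArg ζ (hμ h)
    rwa [hζφ, hζφ] at this
  · obtain ⟨z, hz⟩ := hgμ
    obtain ⟨f, rfl⟩ := hφ₀ z
    exact ⟨f, hz⟩

end Groth.Agent.QFSections
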