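import Groth.Agent.S9137
import Groth.Agent.CycLib.Finite
import Groth.Agent.FibDim.Top
import Mathlib

/-!
# Quasi-finite quotients meeting an open set
-/

set_option autoImplicit false
set_option linter.style.haveILetI false

open AlgebraicGeometry CategoryTheory Topology

namespace Groth.Agent.QFSlice

universe u

/-- A Noetherian local domain all of whose nonzero primes contain a fixed nonzero element has dimension
at most one. -/
theorem eq_maximalIdeal_of_forall_mem {D : Type u} [CommRing D] [IsDomain D] [IsLocalRing D] [IsNoetherianRing D]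
    (g : D) (hg0 : g ≠ 0) (hg : ∀ r : Ideal D, r.IsPrime → r ≠ ⊥ → g ∈ r) (r : Ideal D) [r.IsPrime] (hr : r ≠ ⊥) :
    r = IsLocalRing.maximalIdeal D := by
  classical
  by_contra hne
  have hlt : r < IsLocalRing.maximalIdeal D := lt_of_le_of_ne (IsLocalRing.le_maximalIdeal (Ideal.IsPrime.ne_top ‹_›)) hne
  let S := (Ideal.span {g}).minimalPrimes
  have hfin : S.Finite := (Ideal.span {g}).finite_minimalPrimes_of_isNoetherianRing
  have hht : ∀ q ∈ S, q.height ≤ 1 := fun q hq => by
    haveI := hq.1.1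
    exact Ideal.height_le_one_of_isPrincipal_of_mem_minimalPrimes _ _ hq
  have hm : ∀ q ∈ S, ¬ IsLocalRing.maximalIdeal D ≤ q := by
    intro q hq hle
    haveI := hq.1.1
    have h1 : (1 : ℕ∞) ≤ r.height :=
      Order.one_le_iff_ne_zero.2 fun h0 => hr (Ideal.height_eq_zero_iff_eq_bot.1 h0)
    have h2 : r.height + 1 ≤ q.height :=
      (Ideal.height_add_one_le_of_lt_of_isPrime hlt).trans (Ideal.height_mono hle)
    have h3 := (add_le_add_left h1 1).trans (h2.trans (hht q hq))
    norm_num at h3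
  obtain ⟨x, hxm, hx⟩ : ∃ x ∈ IsLocalRing.maximalIdeal D, ∀ q ∈ S, x ∉ q := by
    by_contra hno
    push Not at hno
    obtain ⟨q, hq, hle⟩ := (Ideal.subset_union_prime_finite hfin ⊥ ⊥ (fun q hq _ _ => hq.1.1)
      (I := IsLocalRing.maximalIdeal D) (f := fun q => q)).1 (fun x hx => by
        obtain ⟨q, hq, hxq⟩ := hno x hx
        exact Set.mem_biUnion hq hxq)
    exact hm q hq hle
  obtain ⟨P, hP, hPle⟩ := Ideal.exists_minimalPrimes_le ((Ideal.span_singleton_le_iff_mem _).2 hxm)
  haveI := hP.1.1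
  have hx0 : x ≠ 0 := fun h0 => by
    obtain ⟨q, hq⟩ := Ideal.nonempty_minimalPrimes (Ideal.span_singleton_ne_top (x := g) (fun hu =>
      (IsLocalRing.maximalIdeal.isMaximal D).ne_top ((IsLocalRing.maximalIdeal D).eq_top_of_isUnit_mem (hlt.le (hg r ‹_› hr)) hu)))
    exact hx q hq (h0 ▸ q.zero_mem)
  have hPne : P ≠ ⊥ := fun h0 => hx0 (by
    have := hP.1.2 (Ideal.mem_span_singleton_self x)
    rw [h0] at this
    exact this)
  have hgP := hg P hP.1.1 hPne
  obtain ⟨q, hq, hqP⟩ := Ideal.exists_minimalPrimes_le ((Ideal.span_singleton_le_iff_mem _).2 hgP)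
  haveI := hq.1.1
  have hPh : P.height ≤ 1 := Ideal.height_le_one_of_isPrincipal_of_mem_minimalPrimes _ _ hP
  rcases hqP.eq_or_lt with h | h
  · exact hx q hq (h ▸ hP.1.2 (Ideal.mem_span_singleton_self x))
  · have hq1 : (1 : ℕ∞) ≤ q.height := by
      refine Order.one_le_iff_ne_zero.2 fun h0 => hg0 ?_
      have h4 : g ∈ q := hq.1.2 (Ideal.mem_span_singleton_self g)
      rw [Ideal.height_eq_zero_iff_eq_bot.1 h0] at h4
      exact h4
    have h2 : q.height + 1 ≤ P.height := Ideal.height_add_one_le_of_lt_of_isPrime h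
    have h3 := (add_le_add_left hq1 1).trans (h2.trans hPh)
    norm_num at h3

variable {A B : Type u} [CommRing A] [CommRing B] [IsLocalRing A] [IsLocalRing B] [Algebra A B]

/-- A maximal point of an open set off the closed fibre has only two primes above it. -/
theorem exists_prime_two_points [IsNoetherianRing B] (V : Set (PrimeSpectrum B)) (hV : IsOpen V)
    (hne : ∃ q ∈ V, q.asIdeal.comap (algebraMap A B) ≠ IsLocalRing.maximalIdeal A) :
    ∃ q ∈ V, q.asIdeal.comap (algebraMap A B) ≠ IsLocalRing.maximalIdeal A ∧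
      ∀ r : PrimeSpectrum B, q.asIdeal ≤ r.asIdeal → r = q ∨ r.asIdeal = IsLocalRing.maximalIdeal B := by
  obtain ⟨q₀, hq₀⟩ := hne
  let I : Set (Ideal B) := {J | ∃ q : PrimeSpectrum B, q.asIdeal = J ∧ q ∈ V ∧ q.asIdeal.comap (algebraMap A B) ≠ IsLocalRing.maximalIdeal A}
  obtain ⟨_, ⟨q, rfl, hqV, hqm⟩, hmax⟩ := set_has_maximal_iff_noetherian.2 inferInstance I ⟨_, q₀, rfl, hq₀⟩
  refine ⟨q, hqV, hqm, fun r hqr => ?_⟩
  by_cases hrq : r = q
  · exact Or.inl hrq
  refine Or.inr ?_
  have hlt : q.asIdeal < r.asIdeal := lt_of_le_of_ne hqr fun h => hrq (PrimeSpectrum.ext h.symm)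
  obtain ⟨a, ha, hna⟩ : ∃ a ∈ IsLocalRing.maximalIdeal A, algebraMap A B a ∉ q.asIdeal := by
    by_contra hno
    push Not at hno
    exact hqm ((IsLocalRing.maximalIdeal.isMaximal A).eq_of_le (Ideal.IsPrime.comap (algebraMap A B)).ne_top hno).symm
  obtain ⟨_, ⟨b, rfl⟩, hqb, hbV⟩ := PrimeSpectrum.isTopologicalBasis_basic_opens.exists_subset_of_mem_open hqV hV
  let g := b * algebraMap A B a
  have hgq : g ∉ q.asIdeal := fun h => (q.isPrime.mem_or_mem h).elim hqb hna
  have hall : ∀ s : PrimeSpectrum B, q.asIdeal < s.asIdeal → g ∈ s.asIdeal := by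
    intro s hs
    by_contra hgs
    have hbs : b ∉ s.asIdeal := fun h => hgs (Ideal.mul_mem_right _ _ h)
    have has : algebraMap A B a ∉ s.asIdeal := fun h => hgs (Ideal.mul_mem_left _ _ h)
    exact hmax s.asIdeal ⟨s, rfl, hbV hbs, fun he => has (by rw [← Ideal.mem_comap, he]; exact ha)⟩ hs
  let D := B ⧸ q.asIdeal
  haveI : IsLocalRing D := IsLocalRing.of_surjective' (Ideal.Quotient.mk q.asIdeal) Ideal.Quotient.mk_surjective
  haveI : r.asIdeal.map (Ideal.Quotient.mk q.asIdeal) |>.IsPrime :=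
    Ideal.map_isPrime_of_surjective Ideal.Quotient.mk_surjective (by rw [Ideal.mk_ker]; exact hqr)
  have h := eq_maximalIdeal_of_forall_mem (Ideal.Quotient.mk q.asIdeal g)
    (fun h => hgq (Ideal.Quotient.eq_zero_iff_mem.1 h))
    (fun s hs hs0 => by
      haveI := hs
      refine hall ⟨s.comap (Ideal.Quotient.mk q.asIdeal), inferInstance⟩ (lt_of_le_of_ne (fun x hx => ?_) fun he => hs0 ?_)
      · show Ideal.Quotient.mk q.asIdeal x ∈ s
        rw [Ideal.Quotient.eq_zero_iff_mem.2 hx]; exact s.zero_mem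
      · rw [← Ideal.map_comap_of_surjective _ Ideal.Quotient.mk_surjective s]
        show Ideal.map _ (s.comap (Ideal.Quotient.mk q.asIdeal)) = ⊥
        rw [← show q.asIdeal = s.comap (Ideal.Quotient.mk q.asIdeal) from he, Ideal.map_quotient_self])
    (r.asIdeal.map (Ideal.Quotient.mk q.asIdeal))
    (fun h => hlt.not_ge ((Ideal.map_eq_bot_iff_le_ker _).1 h |>.trans (Ideal.mk_ker).le))
  have h1 := congrArg (Ideal.comap (Ideal.Quotient.mk q.asIdeal)) h
  rw [Ideal.comap_map_of_surjective _ Ideal.Quotient.mk_surjective, ← RingHom.ker_eq_comap_bot, Ideal.mk_ker,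
    sup_eq_left.2 hqr] at h1
  rw [h1]
  exact IsLocalRing.eq_maximalIdeal (Ideal.comap_isMaximal_of_surjective _ Ideal.Quotient.mk_surjective)

theorem exists_qf_quotient [IsNoetherianRing A] [IsLocalHom (algebraMap A B)] [Algebra.EssFiniteType A B]
    [Module.Finite (IsLocalRing.ResidueField A) (IsLocalRing.ResidueField B)] (V : Set (PrimeSpectrum B)) (hV : IsOpen V)
    (hne : ∃ q ∈ V, q.asIdeal.comap (algebraMap A B) ≠ IsLocalRing.maximalIdeal A) :
    ∃ q ∈ V, q.asIdeal.comap (algebraMap A B) ≠ IsLocalRing.maximalIdeal A ∧ Algebra.QuasiFinite A (B ⧸ q.asIdeal) := by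
  haveI : IsNoetherianRing B := Algebra.EssFiniteType.isNoetherianRing A B
  obtain ⟨q, hqV, hqm, htwo⟩ := exists_prime_two_points V hV hne
  refine ⟨q, hqV, hqm, ?_⟩
  let D := B ⧸ q.asIdeal
  haveI : IsLocalRing D := IsLocalRing.of_surjective' (Ideal.Quotient.mk q.asIdeal) Ideal.Quotient.mk_surjective
  haveI : IsLocalHom (Ideal.Quotient.mk q.asIdeal) := IsLocalHom.of_surjective _ Ideal.Quotient.mk_surjective
  haveI : IsLocalHom (algebraMap A D) := by
    rw [show algebraMap A D = (Ideal.Quotient.mk q.asIdeal).comp (algebraMap A B) from rfl]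
    exact RingHom.isLocalHom_comp _ _
  haveI : Algebra.EssFiniteType A D := Algebra.EssFiniteType.of_surjective (Ideal.Quotient.mkₐ A q.asIdeal) Ideal.Quotient.mk_surjective
  have hres : Module.Finite (IsLocalRing.ResidueField A) (IsLocalRing.ResidueField D) := by
    let l : IsLocalRing.ResidueField B →ₗ[IsLocalRing.ResidueField A] IsLocalRing.ResidueField D :=
      { toFun := IsLocalRing.ResidueField.map (Ideal.Quotient.mk q.asIdeal)
        map_add' := map_add _
        map_smul' := fun c x => by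
          obtain ⟨c, rfl⟩ := IsLocalRing.residue_surjective c
          rw [Algebra.smul_def, map_mul, Algebra.smul_def]
          rfl }
    refine Module.Finite.of_surjective l fun y => ?_
    obtain ⟨y, rfl⟩ := IsLocalRing.residue_surjective y
    obtain ⟨y, rfl⟩ := Ideal.Quotient.mk_surjective y
    exact ⟨IsLocalRing.residue B y, rfl⟩
  have hdim : ringKrullDim (D ⧸ (IsLocalRing.maximalIdeal A).map (algebraMap A D)) = 0 := by
    have hne' : (IsLocalRing.maximalIdeal A).map (algebraMap A D) ≠ ⊤ :=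
      ne_top_of_le_ne_top (IsLocalRing.maximalIdeal.isMaximal D).ne_top
        (((IsLocalRing.local_hom_TFAE (algebraMap A D)).out 0 2).1 ‹_›)
    haveI := Ideal.Quotient.nontrivial_iff.2 hne'
    haveI : Ring.KrullDimLE 0 (D ⧸ (IsLocalRing.maximalIdeal A).map (algebraMap A D)) := by
      rw [Ring.krullDimLE_zero_iff]
      intro I hI
      haveI := hI
      have hJ : (I.comap (Ideal.Quotient.mk ((IsLocalRing.maximalIdeal A).map (algebraMap A D)))) = IsLocalRing.maximalIdeal D := by
        let J := I.comap (Ideal.Quotient.mk ((IsLocalRing.maximalIdeal A).map (algebraMap A D)))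
        rcases htwo ⟨J.comap (Ideal.Quotient.mk q.asIdeal), inferInstance⟩ (fun x hx => by
          show Ideal.Quotient.mk q.asIdeal x ∈ J
          rw [Ideal.Quotient.eq_zero_iff_mem.2 hx]; exact J.zero_mem) with h | h
        · exfalso
          refine hqm ((IsLocalRing.maximalIdeal.isMaximal A).eq_of_le (Ideal.IsPrime.comap (algebraMap A B)).ne_top fun a ha => ?_).symm
          rw [← h]
          show Ideal.Quotient.mk _ (algebraMap A D a) ∈ I
          rw [Ideal.Quotient.eq_zero_iff_mem.2 (Ideal.mem_map_of_mem _ ha)]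
          exact I.zero_mem
        · have := congrArg (Ideal.map (Ideal.Quotient.mk q.asIdeal)) h
          rw [Ideal.map_comap_of_surjective _ Ideal.Quotient.mk_surjective] at this
          show J = _
          rw [this]
          refine IsLocalRing.eq_maximalIdeal ((Ideal.map_eq_top_or_isMaximal_of_surjective _ Ideal.Quotient.mk_surjective (IsLocalRing.maximalIdeal.isMaximal B)).resolve_left fun ht => ?_)
          rw [ht] at this
          exact (Ideal.IsPrime.comap _).ne_top this
      have h2 := congrArg (Ideal.map (Ideal.Quotient.mk ((IsLocalRing.maximalIdeal A).map (algebraMap A D)))) hJ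
      rw [Ideal.map_comap_of_surjective _ Ideal.Quotient.mk_surjective] at h2
      rw [h2]
      refine (Ideal.map_eq_top_or_isMaximal_of_surjective _ Ideal.Quotient.mk_surjective (IsLocalRing.maximalIdeal.isMaximal D)).resolve_left fun ht => hI.ne_top (h2.trans ht)
    exact ringKrullDimZero_iff_ringKrullDim_eq_zero.1 inferInstance
  obtain ⟨S', _, _, _, _, q', _, hfin, hloc⟩ := Groth.Agent.S9137.result A D hres hdim
  haveI := hfin
  haveI := hloc
  exact Algebra.QuasiFinite.of_isLocalization (S := S') q'.primeCompl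

/-- The scheme form. -/
theorem exists_slice {X S : Scheme.{u}} (f : X ⟶ S) [LocallyOfFiniteType f] [IsLocallyNoetherian S] (x : X)
    (hcl : IsClosed (Subtype.val ⁻¹' {x} : Set ↑(f ⁻¹' {f x}))) (U : X.Opens) (hx' : ∃ x' : X, x' ∈ U ∧ x' ⤳ x ∧ f x' ≠ f x) :
    ∃ (I : X.IdealSheafData) (z₀ x₀ : ↑I.subscheme), I.subschemeι x₀ = x ∧ (I.subschemeι ≫ f).QuasiFiniteAt x₀ ∧
      I.subschemeι z₀ ∈ U ∧ I.subschemeι z₀ ⤳ x ∧ f (I.subschemeι z₀) ≠ f x := by
  obtain ⟨x', hx'U, hx's, hx'f⟩ := hx'
  haveI : IsLocallyNoetherian X := LocallyOfFiniteType.isLocallyNoetherian f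
  letI : Algebra (S.presheaf.stalk (f x)) (X.presheaf.stalk x) := (f.stalkMap x).hom.toAlgebra
  haveI : IsLocalHom (algebraMap (S.presheaf.stalk (f x)) (X.presheaf.stalk x)) :=
    inferInstanceAs (IsLocalHom (f.stalkMap x).hom)
  have hmap : ∀ p : PrimeSpectrum (X.presheaf.stalk x),
      f (X.fromSpecStalk x p) = S.fromSpecStalk (f x) (PrimeSpectrum.comap (f.stalkMap x).hom p) := fun p => by
    show (X.fromSpecStalk x ≫ f) p = _
    rw [← Scheme.SpecMap_stalkMap_fromSpecStalk]
    rfl
  have hclosed : ∀ p : PrimeSpectrum (X.presheaf.stalk x),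
      f (X.fromSpecStalk x p) = f x ↔ p.asIdeal.comap (f.stalkMap x).hom = IsLocalRing.maximalIdeal (S.presheaf.stalk (f x)) := by
    intro p
    rw [hmap]
    constructor
    · intro h
      exact congrArg PrimeSpectrum.asIdeal ((S.fromSpecStalk (f x)).isEmbedding.injective
        (h.trans Scheme.fromSpecStalk_closedPoint.symm))
    · intro h
      rw [show PrimeSpectrum.comap (f.stalkMap x).hom p = IsLocalRing.closedPoint (S.presheaf.stalk (f x)) from PrimeSpectrum.ext h]
      exact Scheme.fromSpecStalk_closedPoint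
  obtain ⟨p', hp'⟩ : x' ∈ Set.range (X.fromSpecStalk x) := by rw [Scheme.range_fromSpecStalk]; exact hx's
  obtain ⟨q, hqU, hqm, htwo⟩ := exists_prime_two_points (A := S.presheaf.stalk (f x))
    (X.fromSpecStalk x ⁻¹' (U : Set X)) (U.isOpen.preimage (X.fromSpecStalk x).continuous)
    ⟨p', show X.fromSpecStalk x p' ∈ U from hp' ▸ hx'U, fun h => hx'f (hp' ▸ (hclosed p').2 h)⟩
  let z := X.fromSpecStalk x q
  have hzx : z ⤳ x := by
    have : z ∈ Set.range (X.fromSpecStalk x) := ⟨q, rfl⟩
    rwa [Scheme.range_fromSpecStalk] at this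
  let I := Scheme.IdealSheafData.vanishingIdeal (X := X) ⟨closure {z}, isClosed_closure⟩
  have hI : Set.range I.subschemeι = closure {z} := by
    rw [Scheme.IdealSheafData.range_subschemeι, Scheme.IdealSheafData.coe_support_vanishingIdeal]; rfl
  obtain ⟨z₀, hz₀⟩ : z ∈ Set.range I.subschemeι := by rw [hI]; exact subset_closure rfl
  obtain ⟨x₀, hx₀⟩ : x ∈ Set.range I.subschemeι := by rw [hI]; exact specializes_iff_mem_closure.1 hzx
  refine ⟨I, z₀, x₀, hx₀, ?_, by rw [hz₀]; exact hqU, by rw [hz₀]; exact hzx, by rw [hz₀]; exact fun h => hqm ((hclosed q).1 h)⟩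
  rw [Scheme.Hom.quasiFiniteAt_iff_isOpen_singleton_asFiber]
  have hg : (I.subschemeι ≫ f) x₀ = f x := by rw [Scheme.Hom.comp_apply, hx₀]
  let F := (I.subschemeι ≫ f).fiber ((I.subschemeι ≫ f) x₀)
  let ι₀ := (I.subschemeι ≫ f).fiberι ((I.subschemeι ≫ f) x₀)
  let pt := (I.subschemeι ≫ f).asFiber x₀
  have hpt : ι₀ pt = x₀ := Scheme.Hom.fiberι_asFiber _ _
  have hfib : ∀ w : F, f (I.subschemeι (ι₀ w)) = f x := fun w => by
    have : ι₀ w ∈ Set.range ι₀ := ⟨w, rfl⟩
    rw [Scheme.Hom.range_fiberι] at this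
    exact this.trans hg
  have hgen : ∀ w : F, w ⤳ pt → w = pt := by
    intro w hw
    have h1 : I.subschemeι (ι₀ w) ⤳ x := by
      have h0 := (hw.map ι₀.continuous).map I.subschemeι.continuous
      rwa [hpt, hx₀] at h0
    obtain ⟨r, hr⟩ : I.subschemeι (ι₀ w) ∈ Set.range (X.fromSpecStalk x) := by rw [Scheme.range_fromSpecStalk]; exact h1
    have h2 : z ⤳ I.subschemeι (ι₀ w) := specializes_iff_mem_closure.2 (hI ▸ ⟨_, rfl⟩)
    rw [← hr] at h2
    have h3 : q ⤳ r := (X.fromSpecStalk x).isEmbedding.isInducing.specializes_iff.1 h2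
    rcases htwo r ((PrimeSpectrum.le_iff_specializes q r).2 h3) with h | h
    · refine absurd ?_ hqm
      rw [← h]
      exact (hclosed r).1 (by rw [hr]; exact hfib w)
    · have h4 : r = IsLocalRing.closedPoint (X.presheaf.stalk x) := PrimeSpectrum.ext h
      rw [h4, Scheme.fromSpecStalk_closedPoint, ← hx₀] at hr
      exact ι₀.isEmbedding.injective (by rw [hpt]; exact I.subschemeι.isEmbedding.injective hr.symm)
  have hclp : IsClosed ({pt} : Set F) := by
    let ψ : F → ↑(f ⁻¹' {f x}) := fun w => ⟨I.subschemeι (ι₀ w), hfib w⟩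
    have hψ : Continuous ψ := (I.subschemeι.continuous.comp ι₀.continuous).subtype_mk _
    convert hcl.preimage hψ using 1
    ext w
    show w = pt ↔ I.subschemeι (ι₀ w) = x
    exact ⟨fun h => by rw [h, hpt, hx₀], fun h => ι₀.isEmbedding.injective
      (by rw [hpt]; exact I.subschemeι.isEmbedding.injective (h.trans hx₀.symm))⟩
  haveI : IsLocallyNoetherian F := LocallyOfFiniteType.isLocallyNoetherian ((I.subschemeι ≫ f).fiberToSpecResidueField _)
  obtain ⟨W, hW, hWz⟩ := FibDim.exists_nhd_generizing (Z := (Set.univ : Set F)) isClosed_univ pt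
  have : (W : Set F) = {pt} := by
    refine Set.eq_singleton_iff_unique_mem.2 ⟨hW, fun w hw => ?_⟩
    obtain ⟨η, -, hη1, hη2⟩ := hWz w hw trivial
    rw [hgen η hη1] at hη2
    exact hclp.closure_subset_iff.2 subset_rfl (specializes_iff_mem_closure.1 hη2)
  exact this ▸ W.isOpen

theorem exists_generization {X : Scheme.{u}} [IsLocallyNoetherian X] (U : X.Opens) {x : X} (hxU : x ∈ closure (U : Set X)) :
    ∃ x' ∈ U, x' ⤳ x := by
  obtain ⟨W, hW, hWz⟩ := FibDim.exists_nhd_generizing (Z := closure (U : Set X)) isClosed_closure x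
  obtain ⟨w, hwW, hwU⟩ := mem_closure_iff.1 hxU W W.isOpen hW
  obtain ⟨η, -, h1, h2⟩ := hWz w hwW (subset_closure hwU)
  exact ⟨η, h2.mem_open U.isOpen hwU, h1⟩

end Groth.Agent.QFSlice
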