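import Groth.Agent.FlatMisc.GenFlat
import Groth.Agent.AlgSpLib.GlueFpqc
import Groth.Agent.AlgSpPts.Sep

/-!
# A finite type scheme over an integral base becomes quasi-separated after shrinking the base
-/

set_option autoImplicit false
set_option linter.style.haveILetI false
set_option backward.isDefEq.respectTransparency false
set_option backward.isDefEq.respectTransparency.types false

universe u

open AlgebraicGeometry CategoryTheory CategoryTheory.Limits TopologicalSpace

namespace Groth.Agent.FlatMisc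

/-- A scheme with an affine cover with quasi-compact pairwise intersections is quasi-separated. -/
theorem quasiSeparatedSpace_of_cover {X : Scheme.{u}} {ι : Type*} (U : ι → X.Opens)
    (haff : ∀ i, IsAffineOpen (U i)) (hcov : ∀ x, ∃ i, x ∈ U i)
    (hinter : ∀ i j, IsCompact ((U i : Set X) ∩ U j)) : QuasiSeparatedSpace X := by
  refine QuasiSeparatedSpace.of_isTopologicalBasis
    (b := fun p : (i : ι) × Γ(X, U i) => (X.basicOpen p.2 : Set X)) ?_ fun p q => ?_
  · refine isTopologicalBasis_of_isOpen_of_nhds ?_ fun x W hx hW => ?_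
    · rintro _ ⟨p, rfl⟩; exact (X.basicOpen p.2).2
    · obtain ⟨i, hi⟩ := hcov x
      obtain ⟨g, hg, hxg⟩ := (haff i).exists_basicOpen_le (V := ⟨W, hW⟩) ⟨x, hx⟩ hi
      exact ⟨_, ⟨⟨i, g⟩, rfl⟩, hxg, hg⟩
  · obtain ⟨i, g⟩ := p
    obtain ⟨j, g'⟩ := q
    have h1 : IsCompact ((X.basicOpen g : Set X) ∩ (U i ∩ U j)) :=
      (haff i).isQuasiSeparated _ _ (X.basicOpen_le g) (X.basicOpen g).2 ((haff i).basicOpen g).isCompact
        Set.inter_subset_left ((U i).2.inter (U j).2) (hinter i j)
    have h2 := (haff j).isQuasiSeparated _ _ (Set.inter_subset_right.trans Set.inter_subset_right)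
      ((X.basicOpen g).2.inter ((U i).2.inter (U j).2)) h1 (X.basicOpen_le g') (X.basicOpen g').2
      ((haff j).basicOpen g').isCompact
    have e : ((X.basicOpen g : Set X) ∩ (U i ∩ U j)) ∩ X.basicOpen g' =
        (X.basicOpen g : Set X) ∩ X.basicOpen g' := by
      ext x
      exact ⟨fun h => ⟨h.1.1, h.2⟩, fun h => ⟨⟨h.1, X.basicOpen_le g h.1, X.basicOpen_le g' h.2⟩, h.2⟩⟩
    exact e ▸ h2

/-- A finite type scheme over a reduced affine base becomes quasi-separated after shrinking the base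
to a dense open. -/
theorem exists_dense_quasiSeparated {N S : Scheme.{u}} (h : N ⟶ S) [IsAffine S] [IsReduced S]
    [LocallyOfFiniteType h] [QuasiCompact h] :
    ∃ U : S.Opens, Dense (U : Set S) ∧
      ∀ W : S.Opens, IsAffineOpen W → W ≤ U → QuasiSeparatedSpace ↥(h ⁻¹ᵁ W) := by
  classical
  haveI : CompactSpace N := QuasiCompact.compactSpace_of_compactSpace h
  obtain ⟨s, hs⟩ := CompactSpace.elim_nhds_subcover (X := N)
    (fun x => ((exists_isAffineOpen_mem_and_subset (U := (⊤ : N.Opens)) (x := x) trivial).choose : Set N))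
    (fun x => (exists_isAffineOpen_mem_and_subset (U := (⊤ : N.Opens)) (x := x) trivial).choose.2.mem_nhds
      (exists_isAffineOpen_mem_and_subset (U := (⊤ : N.Opens)) (x := x) trivial).choose_spec.2.1)
  let O : N → N.Opens := fun x => (exists_isAffineOpen_mem_and_subset (U := (⊤ : N.Opens)) (x := x) trivial).choose
  have hO : ∀ x, IsAffineOpen (O x) := fun x =>
    (exists_isAffineOpen_mem_and_subset (U := (⊤ : N.Opens)) (x := x) trivial).choose_spec.1
  have hcov : ∀ x, ∃ i ∈ s, x ∈ O i := fun x => by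
    have : x ∈ ⋃ i ∈ s, (O i : Set N) := hs.ge trivial
    simpa using this
  let C : ∀ i j : N, Scheme.IdealSheafData (O i : Scheme.{u}) := fun i j =>
    Scheme.IdealSheafData.vanishingIdeal
      ⟨(SetLike.coe ((O i).ι ⁻¹ᵁ O j))ᶜ, ((O i).ι ⁻¹ᵁ O j).2.isClosed_compl⟩
  haveI : ∀ i, IsAffine (O i : Scheme.{u}) := fun i => hO i
  have hgen : ∀ i j : N, ∃ U : S.Opens, Dense (U : Set S) ∧
      LocallyOfFinitePresentation (((C i j).subschemeι ≫ (O i).ι ≫ h) ∣_ U) := fun i j => by
    haveI : LocallyOfFiniteType ((O i).ι ≫ h) := inferInstance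
    haveI : QuasiCompact ((O i).ι ≫ h) := inferInstance
    obtain ⟨U, h1, -, h3⟩ := _root_.FlatMisc.exists_dense_flat ((C i j).subschemeι ≫ (O i).ι ≫ h)
    exact ⟨U, h1, h3⟩
  choose U hU hUfp using hgen
  refine ⟨(s ×ˢ s).inf fun p => U p.1 p.2, ?_, fun W hW hWU => ?_⟩
  · induction (s ×ˢ s) using Finset.induction_on with
    | empty => simp
    | insert p t _ ih =>
      rw [Finset.inf_insert, Opens.coe_inf]
      exact (hU p.1 p.2).inter_of_isOpen_left ih (U p.1 p.2).2
  haveI : IsAffine (W : Scheme.{u}) := hW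
  let b : (h ⁻¹ᵁ W : Scheme.{u}) ⟶ N := (h ⁻¹ᵁ W).ι
  refine quasiSeparatedSpace_of_cover (fun i : s => b ⁻¹ᵁ O i.1) (fun i => ?_) (fun x => ?_) fun i j => ?_
  · rw [← Scheme.Hom.isAffineOpen_iff_of_isOpenImmersion b, b.image_preimage_eq_opensRange_inf,
      Scheme.Opens.opensRange_ι]
    have := ((hW.preimage ((O i.1).ι ≫ h)).image_of_isOpenImmersion (O i.1).ι)
    rw [Scheme.Hom.comp_preimage, Scheme.Hom.image_preimage_eq_opensRange_inf, Scheme.Opens.opensRange_ι,
      inf_comm] at this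
    exact this
  · obtain ⟨i, hi, hx⟩ := hcov (b x)
    exact ⟨⟨i, hi⟩, hx⟩
  · let t := (O i.1).ι ≫ h
    let P : (O i.1 : Scheme.{u}).Opens := t ⁻¹ᵁ W
    haveI : IsAffine (P : Scheme.{u}) := hW.preimage t
    let c := (C i.1 j.1).subschemeι ∣_ P
    haveI : LocallyOfFinitePresentation c := by
      have hle : W ≤ U i.1 j.1 := hWU.trans (Finset.inf_le (b := (i.1, j.1)) (by simp [i.2, j.2]))
      have h1 : LocallyOfFinitePresentation (((C i.1 j.1).subschemeι ≫ t) ∣_ W) := by
        have h0 := IsZariskiLocalAtTarget.restrict (P := @LocallyOfFinitePresentation) (hUfp i.1 j.1)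
          ((U i.1 j.1).ι ⁻¹ᵁ W)
        refine (MorphismProperty.arrow_mk_iso_iff _ (morphismRestrictRestrict _ _ _ ≪≫
          morphismRestrictEq _ ?_)).1 h0
        rw [Scheme.Hom.image_preimage_eq_opensRange_inf, Scheme.Opens.opensRange_ι, inf_eq_right.2 hle]
      rw [morphismRestrict_comp] at h1
      haveI : LocallyOfFinitePresentation (c ≫ t ∣_ W) := h1
      exact AlgSpPts.locallyOfFinitePresentation_of_comp c (t ∣_ W)
    have hc := AlgSpLib.isCompact_compl_range c
    have hr : (Set.range c)ᶜ = (P.ι ≫ (O i.1).ι) ⁻¹' (O j.1 : Set N) := by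
      ext x
      rw [Set.mem_compl_iff]
      have : x ∈ Set.range c ↔ P.ι x ∈ Set.range (C i.1 j.1).subschemeι := by
        constructor
        · rintro ⟨z, rfl⟩
          exact ⟨_, congr($(morphismRestrict_ι (C i.1 j.1).subschemeι P) z).symm⟩
        · rintro ⟨z, hz⟩
          refine ⟨⟨z, show (C i.1 j.1).subschemeι z ∈ P from hz ▸ x.2⟩, Subtype.ext ?_⟩
          exact (congr($(morphismRestrict_ι (C i.1 j.1).subschemeι P) _)).trans hz
      rw [this, Scheme.IdealSheafData.range_subschemeι,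
        Scheme.IdealSheafData.coe_support_vanishingIdeal]
      simp
    rw [hr] at hc
    have hc' := hc.image (P.ι ≫ (O i.1).ι).continuous
    rw [b.isOpenEmbedding.isInducing.isCompact_iff]
    convert hc' using 1
    ext x
    constructor
    · rintro ⟨y, ⟨h1, h2⟩, rfl⟩
      exact ⟨⟨⟨b y, h1⟩, y.2⟩, h2, rfl⟩
    · rintro ⟨y, hy, rfl⟩
      exact ⟨⟨_, y.2⟩, ⟨(P.ι y).2, hy⟩, rfl⟩

end Groth.Agent.FlatMisc
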