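import Mathlib

/-! Completion of a formally smooth algebra along a section with free conormal module. -/

open MvPolynomial

namespace Groth.Agent.FlatMisc.SectionCompletion

universe u

variable {R S : Type u} [CommRing R] [CommRing S] [Algebra R S] {d : ℕ}

local notation "P" => MvPolynomial (Fin d) R
local notation "V" => MvPolynomial.idealOfVars (Fin d) R

lemma aeval_sub_self_mem (Q : Fin d → P) (hQ : ∀ i, Q i - X i ∈ V ^ 2) :
    ∀ (k : ℕ) (p : P), p ∈ V ^ k → aeval Q p - p ∈ V ^ (k + 1) := by
  have hQV : ∀ i, Q i ∈ V := fun i => by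
    have := Ideal.add_mem V (Ideal.pow_le_self two_ne_zero (hQ i))
      (Ideal.subset_span ⟨i, rfl⟩ : (X i : P) ∈ V)
    simpa using this
  have h0 : ∀ p : P, aeval Q p - p ∈ V := by
    intro p
    induction p using MvPolynomial.induction_on with
    | C r => simp
    | add p q hp hq =>
      rw [map_add, add_sub_add_comm]; exact add_mem hp hq
    | mul_X p i _ =>
      rw [map_mul, aeval_X]
      exact sub_mem (Ideal.mul_mem_left _ _ (hQV i)) (Ideal.mul_mem_left _ _ (Ideal.subset_span ⟨i, rfl⟩))
  have h1 : ∀ q ∈ V, aeval Q q - q ∈ V ^ 2 := by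
    intro q hq
    induction hq using Submodule.span_induction with
    | mem x hx => obtain ⟨i, rfl⟩ := hx; simpa using hQ i
    | zero => simp
    | add p q _ _ hp hq => rw [map_add, add_sub_add_comm]; exact add_mem hp hq
    | smul r x hx hx' =>
      rw [smul_eq_mul, map_mul]
      have : aeval Q r * aeval Q x - r * x
          = (aeval Q r - r) * aeval Q x + r * (aeval Q x - x) := by ring
      rw [this, pow_two]
      refine add_mem (Ideal.mul_mem_mul (h0 r) ?_) (Ideal.mul_mem_left _ _ (by rwa [← pow_two]))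
      have hxV : x ∈ V := hx
      simpa using add_mem (Ideal.pow_le_self two_ne_zero hx') hxV
  intro k
  induction k with
  | zero => intro p _; simpa using h0 p
  | succ k ih =>
    intro p hp
    rw [pow_succ] at hp
    refine Submodule.mul_induction_on hp ?_ ?_
    · intro a ha b hb
      have : aeval Q (a * b) - a * b = (aeval Q a - a) * aeval Q b + a * (aeval Q b - b) := by
        rw [map_mul]; ring
      rw [this]
      refine add_mem ?_ ?_
      · rw [pow_succ _ (k + 1)]
        refine Ideal.mul_mem_mul (ih a ha) ?_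
        simpa using add_mem (Ideal.pow_le_self two_ne_zero (h1 b hb)) hb
      · rw [show k + 1 + 1 = k + 2 by rfl, pow_add]
        exact Ideal.mul_mem_mul ha (h1 b hb)
    · intro x y hx hy; rw [map_add, add_sub_add_comm]; exact add_mem hx hy

lemma mem_pow_of_aeval_mem (Q : Fin d → P) (hQ : ∀ i, Q i - X i ∈ V ^ 2) (m : ℕ) (p : P)
    (hp : aeval Q p ∈ V ^ m) : p ∈ V ^ m := by
  suffices ∀ k ≤ m, p ∈ V ^ k from this m le_rfl
  intro k hk
  induction k with
  | zero => simp
  | succ k ih =>
    have h := aeval_sub_self_mem Q hQ k p (ih (Nat.le_of_succ_le hk))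
    simpa using sub_mem (Ideal.pow_le_pow_right hk hp) h

variable (σ : S →ₐ[R] R)

lemma sub_mem_ker (s : S) : s - algebraMap R S (σ s) ∈ RingHom.ker σ.toRingHom := by
  simp [RingHom.mem_ker]

variable (g : Fin d → RingHom.ker σ.toRingHom)

/-- The map from polynomials. -/
noncomputable def phi : P →ₐ[R] S := aeval fun i => (g i : S)

@[simp] lemma phi_X (i : Fin d) : phi σ g (X i) = (g i : S) := by simp [phi]

@[simp] lemma phi_C (r : R) : phi σ g (C r) = algebraMap R S r := by simp [phi]

lemma map_V_le : (V).map (phi σ g) ≤ RingHom.ker σ.toRingHom := by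
  rw [Ideal.map_span, Ideal.span_le]
  rintro _ ⟨_, ⟨i, rfl⟩, rfl⟩
  simp

lemma phi_mem_pow {n : ℕ} {p : P} (hp : p ∈ V ^ n) :
    phi σ g p ∈ RingHom.ker σ.toRingHom ^ n := by
  have := Ideal.mem_map_of_mem (phi σ g) hp
  rw [Ideal.map_pow] at this
  exact Ideal.pow_right_mono (map_V_le σ g) n this

variable (e : (RingHom.ker σ.toRingHom).Cotangent ≃ₗ[R] (Fin d → R))
  (hg : ∀ i, (RingHom.ker σ.toRingHom).toCotangent (g i) = e.symm (Pi.single i 1))

include hg in
lemma ker_le_map_sup :
    RingHom.ker σ.toRingHom ≤ (V).map (phi σ g) ⊔ RingHom.ker σ.toRingHom ^ 2 := by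
  intro x hx
  let c := e ((RingHom.ker σ.toRingHom).toCotangent ⟨x, hx⟩)
  let y : RingHom.ker σ.toRingHom := ∑ i, algebraMap R S (c i) • g i
  have hy : (RingHom.ker σ.toRingHom).toCotangent y
      = (RingHom.ker σ.toRingHom).toCotangent ⟨x, hx⟩ := by
    apply e.injective
    rw [map_sum, map_sum]
    have : ∀ i, e ((RingHom.ker σ.toRingHom).toCotangent (algebraMap R S (c i) • g i))
        = c i • (Pi.single i 1 : Fin d → R) := fun i => by
      rw [map_smul, hg, algebraMap_smul, map_smul, LinearEquiv.apply_symm_apply]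
    rw [Finset.sum_congr rfl (fun i _ => this i)]
    exact (pi_eq_sum_univ' c).symm
  have h1 : (y : S) ∈ (V).map (phi σ g) := by
    simp only [y, AddSubmonoidClass.coe_finsetSum, Submodule.coe_smul, smul_eq_mul]
    refine sum_mem fun i _ => Ideal.mul_mem_left _ _ ?_
    rw [← phi_X σ g i]
    exact Ideal.mem_map_of_mem _ (Ideal.subset_span ⟨i, rfl⟩)
  have h2 : x - (y : S) ∈ (RingHom.ker σ.toRingHom) ^ 2 :=
    (Ideal.toCotangent_eq _).mp hy.symm
  exact Submodule.mem_sup.mpr ⟨y, h1, x - y, h2, by ring⟩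

include hg in
lemma pow_le_map_sup (n : ℕ) :
    RingHom.ker σ.toRingHom ^ n ≤
      (V ^ n).map (phi σ g) ⊔ RingHom.ker σ.toRingHom ^ (n + 1) := by
  induction n with
  | zero => simp [Ideal.map_top]
  | succ n ih =>
    rw [pow_succ]
    refine (Ideal.mul_mono ih (ker_le_map_sup σ g e hg)).trans ?_
    rw [Ideal.mul_sup, Ideal.sup_mul, Ideal.sup_mul, ← Ideal.map_mul, ← pow_succ]
    refine sup_le (sup_le le_sup_left (le_sup_of_le_right ?_)) (sup_le (le_sup_of_le_right ?_)
      (le_sup_of_le_right ?_))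
    · rw [pow_succ _ (n + 1)]
      exact Ideal.mul_mono le_rfl (map_V_le σ g)
    · refine (Ideal.mul_mono (le_trans (Ideal.map_pow (phi σ g) V n).le
        (Ideal.pow_right_mono (map_V_le σ g) n)) le_rfl).trans ?_
      rw [← pow_add]
    · rw [← pow_add]; exact Ideal.pow_le_pow_right (by omega)

include hg in
lemma exists_phi_sub_mem (n : ℕ) (s : S) :
    ∃ p : P, s - phi σ g p ∈ RingHom.ker σ.toRingHom ^ n := by
  induction n generalizing s with
  | zero => exact ⟨0, by simp⟩
  | succ n ih =>
    obtain ⟨p, hp⟩ := ih s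
    obtain ⟨j, hj, t, ht, hjt⟩ := Submodule.mem_sup.mp (pow_le_map_sup σ g e hg n hp)
    suffices ∃ q ∈ V ^ n, j - phi σ g q ∈ RingHom.ker σ.toRingHom ^ (n + 1) by
      obtain ⟨q, -, hq⟩ := this
      refine ⟨p + q, ?_⟩
      rw [map_add]
      have : s - (phi σ g p + phi σ g q) = (j - phi σ g q) + t := by rw [← sub_sub, ← hjt]; ring
      rw [this]
      exact add_mem hq ht
    clear hjt
    induction hj using Submodule.span_induction with
    | mem x hx =>
      obtain ⟨q, hq, rfl⟩ := hx
      exact ⟨q, hq, by simp⟩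
    | zero => exact ⟨0, by simp, by simp⟩
    | add x y _ _ hx hy =>
      obtain ⟨qx, hqx, hx⟩ := hx
      obtain ⟨qy, hqy, hy⟩ := hy
      exact ⟨qx + qy, add_mem hqx hqy, by rw [map_add, add_sub_add_comm]; exact add_mem hx hy⟩
    | smul a x _ hx =>
      obtain ⟨q, hq, hx⟩ := hx
      refine ⟨C (σ a) * q, Ideal.mul_mem_left _ _ hq, ?_⟩
      rw [map_mul, phi_C, smul_eq_mul]
      have : a * x - algebraMap R S (σ a) * phi σ g q =
          a * (x - phi σ g q) + (a - algebraMap R S (σ a)) * phi σ g q := by ring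
      rw [this]
      refine add_mem (Ideal.mul_mem_left _ _ hx) ?_
      rw [pow_succ']
      exact Ideal.mul_mem_mul (sub_mem_ker σ a) (phi_mem_pow σ g hq)

/-- The linear part. -/
noncomputable def lin (s : S) : Fin d → R :=
  e ((RingHom.ker σ.toRingHom).toCotangent ⟨_, sub_mem_ker σ s⟩)

lemma lin_mul (s t : S) : lin σ e (s * t) = σ s • lin σ e t + σ t • lin σ e s := by
  unfold lin
  rw [← e.map_smul, ← e.map_smul, ← e.map_add]
  congr 1
  rw [← algebraMap_smul S (σ s) ((RingHom.ker σ.toRingHom).toCotangent _),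
    ← algebraMap_smul S (σ t) ((RingHom.ker σ.toRingHom).toCotangent _), ← map_smul, ← map_smul,
    ← map_add, Ideal.toCotangent_eq]
  simp only [Submodule.coe_add, Submodule.coe_smul, smul_eq_mul, map_mul]
  rw [pow_two]
  convert Ideal.mul_mem_mul (sub_mem_ker σ s) (sub_mem_ker σ t) using 1
  ring

lemma lin_add (s t : S) : lin σ e (s + t) = lin σ e s + lin σ e t := by
  unfold lin
  rw [← map_add, ← map_add]
  congr 2
  ext
  simp only [map_add, Submodule.coe_add]
  ring

lemma lin_algebraMap (r : R) : lin σ e (algebraMap R S r) = 0 := by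
  unfold lin
  simp only [EmbeddingLike.map_eq_zero_iff, Ideal.toCotangent_eq_zero]
  simp

/-- Linear polynomial with given coefficients. -/
noncomputable def linPoly : (Fin d → R) →ₗ[R] P :=
  ∑ i, (LinearMap.proj i : (Fin d → R) →ₗ[R] R).smulRight (X i)

lemma linPoly_mem (c : Fin d → R) : linPoly c ∈ V := by
  simp only [linPoly, LinearMap.sum_apply, LinearMap.smulRight_apply, LinearMap.proj_apply]
  exact sum_mem fun i _ => Submodule.smul_of_tower_mem _ _ (Ideal.subset_span ⟨i, rfl⟩)

/-- The first order map. -/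
noncomputable def psiFun (s : S) : P ⧸ V ^ 2 :=
  Ideal.Quotient.mk _ (C (σ s) + linPoly (lin σ e s))

lemma psiFun_mul (s t : S) : psiFun σ e (s * t) = psiFun σ e s * psiFun σ e t := by
  unfold psiFun
  rw [← map_mul, Ideal.Quotient.eq, lin_mul, map_add, map_smul, map_smul, map_mul, map_mul,
    MvPolynomial.smul_eq_C_mul, MvPolynomial.smul_eq_C_mul]
  have : C (σ s) * C (σ t) + (C (σ s) * linPoly (lin σ e t) + C (σ t) * linPoly (lin σ e s)) -
      (C (σ s) + linPoly (lin σ e s)) * (C (σ t) + linPoly (lin σ e t)) =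
      -((linPoly (lin σ e s) : P) * linPoly (lin σ e t)) := by ring
  rw [this, pow_two]
  exact neg_mem (Ideal.mul_mem_mul (linPoly_mem _) (linPoly_mem _))

/-- The first order retraction. -/
noncomputable def psi : S →ₐ[R] P ⧸ V ^ 2 where
  toFun := psiFun σ e
  map_one' := by
    have := lin_algebraMap σ e (1 : R)
    rw [map_one] at this
    simp [psiFun, this]
  map_mul' := psiFun_mul σ e
  map_zero' := by
    have := lin_algebraMap σ e (0 : R)
    rw [map_zero] at this
    simp [psiFun, this]
  map_add' s t := by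
    simp only [psiFun, lin_add, map_add]
    ring
  commutes' r := by
    simp only [psiFun, lin_algebraMap, map_zero, add_zero, AlgHom.commutes]
    rfl

lemma psi_apply (s : S) :
    psi σ e s = Ideal.Quotient.mk _ (C (σ s) + linPoly (lin σ e s)) := rfl

include hg in
lemma psi_g (i : Fin d) : psi σ e (g i : S) = Ideal.Quotient.mk _ (X i) := by
  have h0 : σ (g i : S) = 0 := (g i).2
  have h : lin σ e (g i : S) = Pi.single i 1 := by
    unfold lin
    have : (⟨_, sub_mem_ker σ (g i : S)⟩ : RingHom.ker σ.toRingHom) = g i := by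
      ext; simp [h0]
    rw [this, hg, LinearEquiv.apply_symm_apply]
  rw [psi_apply, h, h0]
  congr 1
  simp [linPoly, Pi.single_apply]

include hg in
lemma phi_mem_pow_iff [Algebra.FormallySmooth R S] (n : ℕ) (p : P) :
    phi σ g p ∈ RingHom.ker σ.toRingHom ^ n ↔ p ∈ V ^ n := by
  refine ⟨fun hp => ?_, phi_mem_pow σ g⟩
  rcases Nat.lt_or_ge n 2 with hn | hn
  · interval_cases n
    · simp
    · simp only [pow_one] at hp ⊢
      have h0 : ∀ p : P, p - C (constantCoeff p) ∈ V := by
        intro p
        induction p using MvPolynomial.induction_on with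
        | C r => simp
        | add p q hp hq => rw [map_add, map_add, add_sub_add_comm]; exact add_mem hp hq
        | mul_X p i _ =>
          simp only [map_mul, constantCoeff_X, mul_zero, map_zero, sub_zero]
          exact Ideal.mul_mem_left _ _ (Ideal.subset_span ⟨i, rfl⟩)
      have h1 := sub_mem hp (by simpa using phi_mem_pow σ g (n := 1) (by simpa using h0 p))
      rw [map_sub, phi_C, sub_sub_cancel] at h1
      have h2 : constantCoeff p = 0 := by simpa [RingHom.mem_ker] using h1
      simpa [h2] using h0 p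
  · let q : (P ⧸ V ^ n) →ₐ[R] P ⧸ V ^ 2 := Ideal.Quotient.factorₐ R (Ideal.pow_le_pow_right hn)
    have hq : Function.Surjective q := Ideal.Quotient.factor_surjective (Ideal.pow_le_pow_right hn)
    have hker : RingHom.ker (q : (P ⧸ V ^ n) →+* P ⧸ V ^ 2) =
        (V ^ 2).map (Ideal.Quotient.mk (V ^ n)) :=
      Ideal.Quotient.factor_ker (Ideal.pow_le_pow_right hn)
    have hnil : IsNilpotent (RingHom.ker (q : (P ⧸ V ^ n) →+* P ⧸ V ^ 2)) := by
      refine ⟨n, ?_⟩
      rw [hker, ← Ideal.map_pow, ← pow_mul, Ideal.zero_eq_bot, eq_bot_iff]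
      refine (Ideal.map_mono (Ideal.pow_le_pow_right (by omega : n ≤ 2 * n))).trans ?_
      rw [Ideal.map_quotient_self]
    let f := Algebra.FormallySmooth.liftOfSurjective (psi σ e) q hq hnil
    have hf : ∀ s, q (f s) = psi σ e s :=
      Algebra.FormallySmooth.liftOfSurjective_apply _ _ hq hnil
    have hQ : ∀ i, ∃ Q : P, Ideal.Quotient.mk _ Q = f (g i : S) ∧ Q - X i ∈ V ^ 2 := by
      intro i
      obtain ⟨Q, hQ⟩ := Ideal.Quotient.mk_surjective (f (g i : S))
      refine ⟨Q, hQ, ?_⟩
      have := hf (g i : S)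
      rw [← hQ, psi_g σ g e hg] at this
      exact Ideal.Quotient.eq.mp this
    choose Q hQ hQX using hQ
    have hcomp : f.comp (phi σ g) = (Ideal.Quotient.mkₐ R (V ^ n)).comp (aeval Q) := by
      refine MvPolynomial.algHom_ext fun i => ?_
      simp [hQ]
    have hI : (RingHom.ker σ.toRingHom).map f ≤ (V).map (Ideal.Quotient.mk (V ^ n)) := by
      refine Ideal.map_le_iff_le_comap.mpr fun s hs => ?_
      obtain ⟨T, hT⟩ := Ideal.Quotient.mk_surjective (f s)
      rw [Ideal.mem_comap, ← hT]
      refine Ideal.mem_map_of_mem _ ?_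
      have h := hf s
      rw [← hT, psi_apply, show σ s = 0 from hs, map_zero, zero_add] at h
      have h' := Ideal.Quotient.eq.mp h
      simpa using add_mem (Ideal.pow_le_self two_ne_zero h') (linPoly_mem (lin σ e s))
    have h0 : f (phi σ g p) = 0 := by
      have h1 := Ideal.mem_map_of_mem f hp
      rw [Ideal.map_pow] at h1
      have h2 := Ideal.pow_right_mono hI n h1
      rw [← Ideal.map_pow, Ideal.map_quotient_self] at h2
      exact h2
    have h3 : aeval Q p ∈ V ^ n := by
      rw [← Ideal.Quotient.eq_zero_iff_mem, ← h0]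
      exact (DFunLike.congr_fun hcomp p).symm
    exact mem_pow_of_aeval_mem Q hQX n p h3

include hg in
theorem nonempty_equiv [Algebra.FormallySmooth R S] :
    Nonempty (AdicCompletion (RingHom.ker σ.toRingHom) S ≃ₐ[R] MvPowerSeries (Fin d) R) := by
  have hkey := phi_mem_pow_iff σ g e hg
  have hex := exists_phi_sub_mem σ g e hg
  have hmem := fun n p (hp : p ∈ V ^ n) => (phi_mem_pow σ g hp)
  generalize RingHom.ker σ.toRingHom = I at hkey hex hmem ⊢
  generalize phi σ g = φ at hkey hex hmem
  let f : (n : ℕ) → MvPowerSeries (Fin d) R →ₐ[R] S ⧸ I ^ n := fun n =>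
    (Ideal.Quotient.liftₐ (V ^ n) ((Ideal.Quotient.mkₐ R (I ^ n)).comp φ) fun p hp =>
      Ideal.Quotient.eq_zero_iff_mem.mpr (hmem n p hp)).comp
      ((MvPowerSeries.truncTotalAlgHom (Fin d) R n).restrictScalars R)
  have hf_apply : ∀ n x, f n x = Ideal.Quotient.mk (I ^ n) (φ (x.truncTotal n)) := fun n x => rfl
  have hf : ∀ {m n : ℕ} (hle : m ≤ n),
      (Ideal.Quotient.factorₐ R (Ideal.pow_le_pow_right hle)).comp (f n) = f m := by
    intro m n hle
    ext x
    rw [AlgHom.comp_apply, hf_apply, hf_apply]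
    change Ideal.Quotient.mk (I ^ m) _ = _
    rw [Ideal.Quotient.eq, ← map_sub]
    exact hmem _ _ (MvPowerSeries.truncTotal_sub_truncTotal_mem_pow_idealOfVars hle le_rfl x)
  refine ⟨(AlgEquiv.ofBijective (AdicCompletion.liftAlgHom I f hf) ⟨?_, ?_⟩).symm⟩
  · rw [injective_iff_map_eq_zero]
    intro x hx
    ext a
    have h := congr(AdicCompletion.evalₐ I (Finsupp.degree a + 1) $hx)
    rw [AdicCompletion.evalₐ_liftAlgHom, hf_apply, map_zero, Ideal.Quotient.eq_zero_iff_mem,
      hkey, MvPolynomial.mem_pow_idealOfVars_iff'] at h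
    have h' := h a (Nat.lt_succ_self _)
    rwa [MvPowerSeries.coeff_truncTotal _ (Nat.lt_succ_self _)] at h'
  · intro y
    obtain ⟨c, rfl⟩ := AdicCompletion.mk_surjective I S y
    choose p hp using fun n => hex n (c.1 n)
    have hpp : ∀ {m n : ℕ}, m ≤ n → p n - p m ∈ V ^ m := by
      intro m n hle
      rw [← hkey, map_sub]
      have h1 : c.1 m - c.1 n ∈ I ^ m := by
        simpa using SModEq.sub_mem.mp (c.2 hle)
      have h2 : c.1 n - φ (p n) ∈ I ^ m := Ideal.pow_le_pow_right hle (hp n)
      have : φ (p n) - φ (p m) = (c.1 m - φ (p m)) - (c.1 m - c.1 n) - (c.1 n - φ (p n)) := by ring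
      rw [this]
      exact sub_mem (sub_mem (hp m) h1) h2
    let x : MvPowerSeries (Fin d) R := fun a => (p (Finsupp.degree a + 1)).coeff a
    refine ⟨x, AdicCompletion.ext_evalₐ fun n => ?_⟩
    rw [AdicCompletion.evalₐ_liftAlgHom, AdicCompletion.evalₐ_mk, hf_apply, Ideal.Quotient.eq]
    have hx : x.truncTotal n - p n ∈ V ^ n := by
      rw [MvPolynomial.mem_pow_idealOfVars_iff']
      intro a ha
      rw [MvPolynomial.coeff_sub, MvPowerSeries.coeff_truncTotal _ ha]
      have := (MvPolynomial.mem_pow_idealOfVars_iff' _ _).mp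
        (hpp (Nat.succ_le_of_lt ha)) a (Nat.lt_succ_self _)
      rw [MvPolynomial.coeff_sub, sub_eq_zero] at this
      rw [sub_eq_zero, this]
      rfl
    have := sub_mem (hmem n _ hx) (hp n)
    rw [map_sub] at this
    convert this using 1
    ring

end Groth.Agent.FlatMisc.SectionCompletion
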