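import Mathlib

universe u
set_option autoImplicit false

namespace FlatMisc

theorem finite_localRingHom_of_unique {A B : Type u} [CommRing A] [CommRing B] (φ : A →+* B) (hφ : φ.Finite)
    (q : Ideal B) [q.IsPrime] (p : Ideal A) [p.IsPrime] (hpq : p = q.comap φ)
    (huniq : ∀ Q : Ideal B, Q.IsPrime → Q.comap φ = p → Q = q) :
    (Localization.localRingHom p q φ hpq).Finite := by
  letI := φ.toAlgebra
  haveI hfin : Module.Finite A B := hφ
  set L := Localization.localRingHom p q φ hpq
  letI := L.toAlgebra
  change Module.Finite (Localization.AtPrime p) (Localization.AtPrime q)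
  obtain ⟨s, hs⟩ := hfin.fg_top
  classical
  refine ⟨⟨s.image (algebraMap B (Localization.AtPrime q)), ?_⟩⟩
  rw [eq_top_iff]
  rintro z -
  obtain ⟨b, ⟨c, hc⟩, rfl⟩ := IsLocalization.exists_mk'_eq q.primeCompl z
  -- find a ∉ p with φ a ∈ (c)
  obtain ⟨a, ha, hac⟩ : ∃ a, a ∉ p ∧ φ a ∈ Ideal.span {c} := by
    by_contra hcon
    push_neg at hcon
    have hle : (Ideal.span {c}).comap φ ≤ p := fun a ha => by
      by_contra h; exact hcon a h ha
    obtain ⟨Q, hQ, hQp, hQc⟩ := Ideal.exists_ideal_over_prime_of_isIntegral p (Ideal.span {c}) hle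
    have := huniq Q hQp hQc
    exact hc (this ▸ hQ (Ideal.mem_span_singleton_self c))
  obtain ⟨t, ht⟩ := Ideal.mem_span_singleton'.mp hac
  set N := Submodule.span (Localization.AtPrime p)
    (↑(s.image (algebraMap B (Localization.AtPrime q))) : Set (Localization.AtPrime q)) with hN
  have hbt : ∀ y : B, algebraMap B (Localization.AtPrime q) y ∈ N := by
    intro y
    have hy : y ∈ Submodule.span A (s : Set B) := hs ▸ trivial
    induction hy using Submodule.span_induction with
    | mem x hx => exact Submodule.subset_span (Finset.mem_coe.mpr (Finset.mem_image_of_mem _ hx))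
    | zero => rw [map_zero]; exact N.zero_mem
    | add x y _ _ hx hy => rw [map_add]; exact N.add_mem hx hy
    | smul r x _ hx =>
      have : algebraMap B (Localization.AtPrime q) (r • x) =
          (algebraMap A (Localization.AtPrime p) r) • algebraMap B (Localization.AtPrime q) x := by
        change algebraMap B _ (φ r * x) = L (algebraMap A _ r) * _
        rw [Localization.localRingHom_to_map, map_mul]
      rw [this]; exact N.smul_mem _ hx
  have key : IsLocalization.mk' (Localization.AtPrime q) b (⟨c, hc⟩ : q.primeCompl) =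
      (IsLocalization.mk' (Localization.AtPrime p) 1 (⟨a, ha⟩ : p.primeCompl)) •
        algebraMap B (Localization.AtPrime q) (b * t) := by
    change _ = L _ * _
    rw [Localization.localRingHom_mk', map_one, ← IsLocalization.mk'_one (M := q.primeCompl) (Localization.AtPrime q) (b * t), ← IsLocalization.mk'_mul, one_mul]
    refine IsLocalization.mk'_eq_of_eq ?_
    simp only [Submonoid.coe_mul, OneMemClass.coe_one, mul_one]
    rw [← ht]; ring
  rw [key]; exact N.smul_mem _ (hbt _)

end FlatMisc
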