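import Mathlib

/-!
# Closed points of a fibre between a specialisation
-/

universe u

set_option autoImplicit false

namespace Groth.Agent.SpecializeDense

theorem isIntegrallyClosed_mvPolynomial (V : Type u) [CommRing V] [IsDomain V] [IsIntegrallyClosed V] :
    ∀ n : ℕ, IsIntegrallyClosed (MvPolynomial (Fin n) V)
  | 0 => IsIntegrallyClosed.of_equiv (MvPolynomial.isEmptyRingEquiv V (Fin 0)).symm
  | n + 1 => by
    have := isIntegrallyClosed_mvPolynomial V n
    exact IsIntegrallyClosed.of_equiv (MvPolynomial.finSuccEquiv V n).toRingEquiv.symm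

/-- Noether normalization through a given maximal ideal. -/
theorem exists_normalization_at_maximal {k S : Type u} [Field k] [CommRing S] [Algebra k S]
    [Algebra.FiniteType k S] (m : Ideal S) [m.IsMaximal] :
    ∃ s, ∃ g : MvPolynomial (Fin s) k →ₐ[k] S, Function.Injective g ∧ g.toRingHom.Finite ∧
      ∀ i, g (MvPolynomial.X i) ∈ m := by
  haveI : Nontrivial S := by
    by_contra h
    rw [not_nontrivial_iff_subsingleton] at h
    exact (‹m.IsMaximal›.ne_top) (Subsingleton.elim _ _)
  obtain ⟨s, g, hg, hgf⟩ := exists_finite_inj_algHom_of_fg k S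
  letI := Ideal.Quotient.field m
  haveI : Module.Finite k (S ⧸ m) := by
    haveI : Algebra.FiniteType k (S ⧸ m) :=
      Algebra.FiniteType.of_surjective (Ideal.Quotient.mkₐ k m) Ideal.Quotient.mk_surjective
    exact finite_of_finite_type_of_isJacobsonRing k (S ⧸ m)
  let F : Fin s → Polynomial k := fun i => minpoly k (Ideal.Quotient.mkₐ k m (g (MvPolynomial.X i)))
  have hint : ∀ i, IsIntegral k (Ideal.Quotient.mkₐ k m (g (MvPolynomial.X i))) := fun i =>
    Algebra.IsIntegral.isIntegral _
  have htr : ∀ i, Transcendental k (F i) := fun i => by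
    rw [transcendental_iff]
    intro P hP
    have h1 := minpoly.natDegree_pos (hint i)
    rw [Polynomial.aeval_def, Polynomial.algebraMap_eq] at hP
    rcases Polynomial.comp_eq_zero_iff.1 hP with h | ⟨-, h⟩
    · exact h
    · exact absurd (show (F i).natDegree = 0 by rw [h, Polynomial.natDegree_C]) h1.ne'
  let g₀ : MvPolynomial (Fin s) k →ₐ[k] MvPolynomial (Fin s) k :=
    MvPolynomial.aeval fun i => Polynomial.aeval (MvPolynomial.X i) (F i)
  have hg₀ : Function.Injective g₀ := MvPolynomial.algebraicIndependent_polynomial_aeval_X F htr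
  have hg₀i : g₀.toRingHom.IsIntegral := by
    intro x
    induction x using MvPolynomial.induction_on with
    | C a =>
      have : g₀ (MvPolynomial.C a) = MvPolynomial.C a := g₀.commutes a
      rw [← this]
      exact RingHom.isIntegralElem_map g₀.toRingHom
    | add p q hp hq => exact RingHom.IsIntegralElem.add g₀.toRingHom hp hq
    | mul_X p i hp =>
      refine RingHom.IsIntegralElem.mul g₀.toRingHom hp ⟨(F i).map MvPolynomial.C - Polynomial.C (MvPolynomial.X i), ?_, ?_⟩
      · have h1 := minpoly.natDegree_pos (hint i)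
        refine ((minpoly.monic (hint i)).map _).sub_of_left (lt_of_le_of_lt Polynomial.degree_C_le ?_)
        rw [Polynomial.degree_map_eq_of_injective (MvPolynomial.C_injective _ _)]
        exact Polynomial.natDegree_pos_iff_degree_pos.1 h1
      · have hC : g₀.toRingHom.comp (MvPolynomial.C (R := k) (σ := Fin s)) = algebraMap k (MvPolynomial (Fin s) k) :=
          RingHom.ext fun a => g₀.commutes a
        rw [Polynomial.eval₂_sub, Polynomial.eval₂_map, hC, Polynomial.eval₂_C]
        show Polynomial.aeval (MvPolynomial.X i) (F i) - g₀ (MvPolynomial.X i) = 0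
        simp [g₀]
  refine ⟨s, g.comp g₀, hg.comp hg₀, ?_, fun i => ?_⟩
  · have hi : ((g.comp g₀).toRingHom).IsIntegral :=
      RingHom.IsIntegral.trans g₀.toRingHom g.toRingHom hg₀i (RingHom.IsIntegral.of_finite hgf)
    refine hi.to_finite ?_
    have hft : (algebraMap k S).FiniteType := RingHom.finiteType_algebraMap.mpr inferInstance
    rw [← (g.comp g₀).comp_algebraMap] at hft
    exact RingHom.FiniteType.of_comp_finiteType hft
  · rw [← Ideal.Quotient.eq_zero_iff_mem]
    show (Ideal.Quotient.mkₐ k m) (g (g₀ (MvPolynomial.X i))) = 0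
    simp only [g₀, MvPolynomial.aeval_X, ← Polynomial.aeval_algHom_apply]
    exact minpoly.aeval _ _

/-- A quotient of integral elements of a field is algebraic. -/
theorem exists_eval₂_eq_zero {O : Type u} [CommRing O] [IsDomain O] {Ω : Type u} [Field Ω] (f : O →+* Ω)
    (hf : Function.Injective f) (x a b : Ω) (k : ℕ) (ha : f.IsIntegralElem a) (hb : f.IsIntegralElem b)
    (hb0 : b ≠ 0) (h : b ^ k * x = a) : ∃ P : Polynomial O, P ≠ 0 ∧ Polynomial.eval₂ f x P = 0 := by
  letI : Algebra O Ω := f.toAlgebra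
  haveI : FaithfulSMul O Ω := (faithfulSMul_iff_algebraMap_injective _ _).2 hf
  letI := FractionRing.liftAlgebra O Ω
  have ha' : IsIntegral O a := ha
  have hb' : IsIntegral O b := hb
  have h1 : IsAlgebraic O x := by
    rw [IsFractionRing.isAlgebraic_iff O (FractionRing O) Ω, show x = a * (b ^ k)⁻¹ by rw [← h]; field_simp]
    exact ha'.tower_top.isAlgebraic.mul ((hb'.tower_top.isAlgebraic (R := FractionRing O)).pow k).inv
  exact h1

/-- Over a valuation ring which is not a field: through a maximal ideal of the special fibre of a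
torsion free algebra of finite type passes a horizontal curve avoiding a given nonzero element. -/
theorem exists_point_valuation {O R : Type u} [CommRing O] [IsDomain O] [ValuationRing O]
    (hO : IsLocalRing.maximalIdeal O ≠ ⊥) [CommRing R] [IsDomain R] [Algebra O R]
    [Algebra.FiniteType O R] (hinj : Function.Injective (algebraMap O R))
    (m : Ideal R) [m.IsMaximal] (hm : m.comap (algebraMap O R) = IsLocalRing.maximalIdeal O)
    (h : R) (hh : h ≠ 0) :
    ∃ (Ω : Type u) (_ : Field Ω) (χ : R →+* Ω), RingHom.ker χ ≤ m ∧ χ h ≠ 0 ∧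
      (∀ a : O, χ (algebraMap O R a) = 0 → a = 0) ∧
      ∀ x : R, ∃ P : Polynomial O, P ≠ 0 ∧ Polynomial.eval₂ (χ.comp (algebraMap O R)) (χ x) P = 0 := by
  classical
  let k := IsLocalRing.ResidueField O
  let J : Ideal R := (IsLocalRing.maximalIdeal O).map (algebraMap O R)
  have hJm : J ≤ m := Ideal.map_le_iff_le_comap.2 hm.ge
  let θ : k →+* R ⧸ J := Ideal.quotientMap J (algebraMap O R) Ideal.le_comap_map
  letI : Algebra k (R ⧸ J) := θ.toAlgebra
  haveI : IsScalarTower O k (R ⧸ J) := IsScalarTower.of_algebraMap_eq fun _ => rfl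
  haveI : Algebra.FiniteType O (R ⧸ J) :=
    Algebra.FiniteType.of_surjective (Ideal.Quotient.mkₐ O J) Ideal.Quotient.mk_surjective
  haveI : Algebra.FiniteType k (R ⧸ J) := Algebra.FiniteType.of_restrictScalars_finiteType O k _
  let m' := m.map (Ideal.Quotient.mk J)
  have hm'c : m'.comap (Ideal.Quotient.mk J) = m := by
    rw [Ideal.comap_map_of_surjective _ Ideal.Quotient.mk_surjective, ← RingHom.ker_eq_comap_bot, Ideal.mk_ker]
    exact sup_of_le_left hJm
  haveI : m'.IsMaximal := (Ideal.map_eq_top_or_isMaximal_of_surjective _ Ideal.Quotient.mk_surjective ‹_›).resolve_left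
    fun ht => ‹m.IsMaximal›.ne_top (by rw [← hm'c]; exact (congrArg _ ht).trans (Ideal.comap_top))
  obtain ⟨s, g, hg, hgf, hgm⟩ := exists_normalization_at_maximal (k := k) m'
  choose y hy using fun i => Ideal.Quotient.mk_surjective (g (MvPolynomial.X i))
  let φ : MvPolynomial (Fin s) O →ₐ[O] R := MvPolynomial.aeval y
  have hmod : ∀ P : MvPolynomial (Fin s) O,
      Ideal.Quotient.mk J (φ P) = g (MvPolynomial.map (IsLocalRing.residue O) P) := by
    intro P
    induction P using MvPolynomial.induction_on with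
    | C a =>
      simp only [φ, MvPolynomial.aeval_C, MvPolynomial.map_C]
      exact (g.commutes (IsLocalRing.residue O a)).symm
    | add p q hp hq => simp only [map_add, hp, hq]
    | mul_X p i hp => simp only [φ, map_mul, MvPolynomial.aeval_X, MvPolynomial.map_X, hy] at hp ⊢; rw [hp]
  -- injectivity
  have hφ : Function.Injective φ := by
    rw [injective_iff_map_eq_zero]
    intro P hP
    by_contra hP0
    have hne : P.support.Nonempty := MvPolynomial.support_nonempty.2 hP0
    obtain ⟨d, hd, hdiv⟩ : ∃ d ∈ P.support, ∀ e ∈ P.support, P.coeff d ∣ P.coeff e := by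
      have key : ∀ S : Finset (Fin s →₀ ℕ), S.Nonempty → ∃ d ∈ S, ∀ e ∈ S, P.coeff d ∣ P.coeff e := by
        intro S hS
        induction hS using Finset.Nonempty.cons_induction with
        | singleton a => exact ⟨a, Finset.mem_singleton_self a, fun e he => by rw [Finset.mem_singleton.1 he]⟩
        | cons a S haS hS ih =>
          obtain ⟨d, hd, hdv⟩ := ih
          rcases ValuationRing.dvd_total (P.coeff a) (P.coeff d) with hle | hle
          · refine ⟨a, Finset.mem_cons_self _ _, fun e he => ?_⟩
            rcases Finset.mem_cons.1 he with rfl | he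
            exacts [dvd_rfl, hle.trans (hdv e he)]
          · refine ⟨d, Finset.mem_cons.2 (Or.inr hd), fun e he => ?_⟩
            rcases Finset.mem_cons.1 he with rfl | he
            exacts [hle, hdv e he]
      exact key _ hne
    have hc : P.coeff d ≠ 0 := MvPolynomial.mem_support_iff.1 hd
    obtain ⟨P₁, hP₁⟩ : MvPolynomial.C (P.coeff d) ∣ P := by
      rw [MvPolynomial.C_dvd_iff_dvd_coeff]
      intro e
      by_cases he : e ∈ P.support
      · exact hdiv e he
      · rw [MvPolynomial.notMem_support_iff.1 he]; exact dvd_zero _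
    have h1 : P₁.coeff d = 1 := by
      have h2 := congrArg (MvPolynomial.coeff d) hP₁
      rw [MvPolynomial.coeff_C_mul] at h2
      exact mul_left_cancel₀ hc (by rw [mul_one]; exact h2.symm)
    have h3 : φ P₁ = 0 := by
      have h2 := congrArg φ hP₁
      rw [hP, map_mul] at h2
      refine (mul_eq_zero.1 h2.symm).resolve_left ?_
      rw [show φ (MvPolynomial.C (P.coeff d)) = algebraMap O R (P.coeff d) from φ.commutes _]
      exact fun h4 => hc (hinj (h4.trans (map_zero _).symm))
    have h5 := hmod P₁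
    rw [h3, map_zero, eq_comm, ← map_zero g] at h5
    have h6 := congrArg (MvPolynomial.coeff d) (hg h5)
    rw [MvPolynomial.coeff_map, h1, map_one, MvPolynomial.coeff_zero] at h6
    exact one_ne_zero h6
  -- quasi-finiteness and Zariski's main theorem
  letI : Algebra (MvPolynomial (Fin s) O) R := φ.toRingHom.toAlgebra
  haveI : IsScalarTower O (MvPolynomial (Fin s) O) R := IsScalarTower.of_algebraMap_eq fun a => (φ.commutes a).symm
  haveI : Algebra.FiniteType (MvPolynomial (Fin s) O) R := Algebra.FiniteType.of_restrictScalars_finiteType O _ _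
  haveI : Module.Finite (MvPolynomial (Fin s) O) (R ⧸ J) := by
    have h1 : (g.toRingHom.comp (MvPolynomial.map (IsLocalRing.residue O))).Finite :=
      hgf.comp (RingHom.Finite.of_surjective _ (MvPolynomial.map_surjective _ IsLocalRing.residue_surjective))
    have h2 : g.toRingHom.comp (MvPolynomial.map (IsLocalRing.residue O)) = algebraMap (MvPolynomial (Fin s) O) (R ⧸ J) :=
      RingHom.ext fun P => (hmod P).symm
    rw [h2] at h1
    exact RingHom.finite_algebraMap.1 h1
  let n := m.under (MvPolynomial (Fin s) O)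
  have hnJ : J ≤ n.map (algebraMap (MvPolynomial (Fin s) O) R) := by
    rw [Ideal.map_le_iff_le_comap]
    intro a ha
    rw [Ideal.mem_comap, IsScalarTower.algebraMap_apply O (MvPolynomial (Fin s) O) R]
    refine Ideal.mem_map_of_mem _ ?_
    show algebraMap _ R (algebraMap O (MvPolynomial (Fin s) O) a) ∈ m
    rw [← IsScalarTower.algebraMap_apply]
    exact hm.ge ha
  haveI : Algebra.WeaklyQuasiFiniteAt (MvPolynomial (Fin s) O) m := by
    let l : (R ⧸ J) →ₗ[MvPolynomial (Fin s) O] R ⧸ n.map (algebraMap (MvPolynomial (Fin s) O) R) :=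
      { toFun := Ideal.Quotient.factor hnJ
        map_add' := map_add _
        map_smul' := fun c x => by
          obtain ⟨x, rfl⟩ := Ideal.Quotient.mk_surjective x
          rfl }
    haveI : Module.Finite (MvPolynomial (Fin s) O) (R ⧸ n.map (algebraMap (MvPolynomial (Fin s) O) R)) :=
      Module.Finite.of_surjective l fun x => by
        obtain ⟨x, rfl⟩ := Ideal.Quotient.mk_surjective x
        exact ⟨Ideal.Quotient.mk J x, rfl⟩
    show Algebra.QuasiFiniteAt _ _
    infer_instance
  obtain ⟨r, hrm, hbij⟩ := Algebra.ZariskisMainProperty.of_finiteType_of_weaklyQuasiFiniteAt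
    (R := MvPolynomial (Fin s) O) m
  let C := integralClosure (MvPolynomial (Fin s) O) R
  obtain ⟨k₀, hk₀⟩ : ∃ k₀ : ℕ, IsIntegral (MvPolynomial (Fin s) O) (r.1 ^ k₀ * h) := by
    obtain ⟨z, hz⟩ := hbij.2 (algebraMap R _ h)
    obtain ⟨z, ⟨_, k, rfl⟩, rfl⟩ := IsLocalization.exists_mk'_eq (Submonoid.powers r) z
    rw [Localization.awayMap, IsLocalization.Away.map, IsLocalization.map_mk', IsLocalization.mk'_eq_iff_eq_mul, ← map_mul,
      IsLocalization.eq_iff_exists (Submonoid.powers (C.val.toRingHom r))] at hz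
    obtain ⟨⟨_, j, rfl⟩, hj⟩ := hz
    refine ⟨j + k, ?_⟩
    have hj' : r.1 ^ j * z.1 = r.1 ^ j * (h * r.1 ^ k) := hj
    rw [show r.1 ^ (j + k) * h = r.1 ^ j * z.1 by rw [hj', pow_add]; ring]
    exact (r.2.pow j).mul z.2
  have hr0 : r.1 ≠ 0 := fun h0 => hrm (by rw [h0]; exact m.zero_mem)
  let c : C := r * ⟨r.1 ^ k₀ * h, hk₀⟩
  have hc0 : c ≠ 0 := by
    intro h0
    have : r.1 * (r.1 ^ k₀ * h) = 0 := congrArg Subtype.val h0
    simp [hr0, hh] at this
  haveI : Algebra.IsIntegral (MvPolynomial (Fin s) O) C := integralClosure.AlgebraIsIntegral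
  obtain ⟨Q, hQ0, hQ⟩ := (Algebra.IsIntegral.isIntegral (R := MvPolynomial (Fin s) O) c).isAlgebraic.exists_nonzero_coeff_and_aeval_eq_zero
    (mem_nonZeroDivisors_of_ne_zero hc0)
  -- the point
  haveI : Infinite O := by
    by_contra hfin
    rw [not_infinite_iff_finite] at hfin
    exact hO (IsLocalRing.isField_iff_maximalIdeal_eq.1 (Finite.isField_of_domain O))
  have hinf : (IsLocalRing.maximalIdeal O : Set O).Infinite := by
    obtain ⟨π, hπ, hπ0⟩ := Submodule.exists_mem_ne_zero_of_ne_bot hO
    refine (Set.infinite_range_of_injective (mul_left_injective₀ hπ0)).mono ?_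
    rintro _ ⟨a, rfl⟩
    exact Ideal.mul_mem_left _ a hπ
  obtain ⟨ε, hε, hεa⟩ : ∃ ε : Fin s → O, (∀ i, ε i ∈ IsLocalRing.maximalIdeal O) ∧
      MvPolynomial.eval ε (Q.coeff 0) ≠ 0 := by
    by_contra hcon
    push Not at hcon
    refine hQ0 (MvPolynomial.funext_set (fun _ => (IsLocalRing.maximalIdeal O : Set O)) (fun _ => hinf) fun x hx => ?_)
    rw [map_zero]
    exact hcon x fun i => hx i (Set.mem_univ i)
  let p := RingHom.ker (MvPolynomial.eval ε)
  haveI : p.IsPrime := RingHom.ker_isPrime _
  have hpn : p ≤ (m.under C).under (MvPolynomial (Fin s) O) := by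
    intro P hP
    show algebraMap (MvPolynomial (Fin s) O) R P ∈ m
    rw [← hm'c, Ideal.mem_comap]
    show Ideal.Quotient.mk J (φ P) ∈ m'
    rw [hmod]
    have hX : ∀ P' : MvPolynomial (Fin s) O,
        g (MvPolynomial.map (IsLocalRing.residue O) P') - algebraMap k _ (IsLocalRing.residue O (MvPolynomial.eval ε P')) ∈ m' := by
      intro P'
      induction P' using MvPolynomial.induction_on with
      | C a => simp
      | add p q hp hq =>
        simp only [map_add]
        rw [add_sub_add_comm]
        exact m'.add_mem hp hq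
      | mul_X p i hp =>
        have : IsLocalRing.residue O (ε i) = 0 := (IsLocalRing.residue_eq_zero_iff _).2 (hε i)
        simp only [map_mul, MvPolynomial.map_X, MvPolynomial.eval_X, this, mul_zero, map_zero, sub_zero]
        exact m'.mul_mem_left _ (hgm i)
    have h1 := hX P
    rwa [show MvPolynomial.eval ε P = 0 from hP, map_zero, map_zero, sub_zero] at h1
  haveI : FaithfulSMul (MvPolynomial (Fin s) O) C := (faithfulSMul_iff_algebraMap_injective _ _).2
    fun a b hab => hφ (congrArg Subtype.val hab)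
  haveI : IsIntegrallyClosed (MvPolynomial (Fin s) O) := isIntegrallyClosed_mvPolynomial O s
  obtain ⟨P₀, hP₀, hP₀p, hP₀o⟩ := Ideal.exists_ideal_le_liesOver_of_le (p := p)
    (q := (m.under C).under (MvPolynomial (Fin s) O)) (m.under C) hpn
  haveI := hP₀p
  have hker : ∀ P : MvPolynomial (Fin s) O, algebraMap _ C P ∈ P₀ ↔ MvPolynomial.eval ε P = 0 := by
    intro P
    rw [← RingHom.mem_ker]
    show P ∈ P₀.under _ ↔ P ∈ p
    rw [← hP₀o.over]
  let Ω := FractionRing (C ⧸ P₀)
  let χ₀ : C →+* Ω := (algebraMap (C ⧸ P₀) Ω).comp (Ideal.Quotient.mk P₀)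
  have hχ₀ : ∀ z : C, χ₀ z = 0 ↔ z ∈ P₀ := fun z => by
    rw [← Ideal.Quotient.eq_zero_iff_mem]
    exact (IsFractionRing.injective (C ⧸ P₀) Ω).eq_iff' (map_zero _)
  have hrP : r ∉ P₀ := fun h1 => hrm (hP₀ h1)
  let e := RingEquiv.ofBijective _ hbij
  let χ₁ : Localization.Away r →+* Ω := IsLocalization.Away.lift r (g := χ₀)
    (isUnit_iff_ne_zero.2 fun h0 => hrP ((hχ₀ r).1 h0))
  let χ : R →+* Ω := (χ₁.comp e.symm.toRingHom).comp (algebraMap R (Localization.Away (C.val.toRingHom r)))
  have hχC : ∀ z : C, χ z.1 = χ₀ z := by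
    intro z
    have h1 : e (algebraMap C _ z) = algebraMap R (Localization.Away (C.val.toRingHom r)) z.1 :=
      (show Localization.awayMap C.val.toRingHom r _ = _ by
        rw [Localization.awayMap, IsLocalization.Away.map, IsLocalization.map_eq]; rfl)
    show χ₁ (e.symm _) = _
    rw [← h1, RingEquiv.symm_apply_apply]
    exact IsLocalization.Away.lift_eq r _ z
  have hpow : ∀ x : R, ∃ (k : ℕ) (hk : IsIntegral (MvPolynomial (Fin s) O) (r.1 ^ k * x)),
      χ₀ r ^ k * χ x = χ₀ ⟨r.1 ^ k * x, hk⟩ := by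
    intro x
    obtain ⟨z, hz⟩ := hbij.2 (algebraMap R _ x)
    obtain ⟨z, ⟨_, k, rfl⟩, rfl⟩ := IsLocalization.exists_mk'_eq (Submonoid.powers r) z
    rw [Localization.awayMap, IsLocalization.Away.map, IsLocalization.map_mk', IsLocalization.mk'_eq_iff_eq_mul, ← map_mul,
      IsLocalization.eq_iff_exists (Submonoid.powers (C.val.toRingHom r))] at hz
    obtain ⟨⟨_, j, rfl⟩, hj⟩ := hz
    have hj' : r.1 ^ j * z.1 = r.1 ^ j * (x * r.1 ^ k) := hj
    have hk : IsIntegral (MvPolynomial (Fin s) O) (r.1 ^ (j + k) * x) := by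
      rw [show r.1 ^ (j + k) * x = r.1 ^ j * z.1 by rw [hj', pow_add]; ring]
      exact (r.2.pow j).mul z.2
    refine ⟨j + k, hk, ?_⟩
    rw [← hχC ⟨_, hk⟩, ← hχC r, ← map_pow, ← map_mul]
  have hrne : χ₀ r ≠ 0 := fun h0 => hrP ((hχ₀ r).1 h0)
  refine ⟨Ω, inferInstance, χ, ?_, ?_, ?_, ?_⟩
  · intro x hx
    obtain ⟨k, hk, hkx⟩ := hpow x
    rw [show χ x = 0 from hx, mul_zero, eq_comm, hχ₀] at hkx
    exact (‹m.IsMaximal›.isPrime.mem_or_mem (hP₀ hkx)).resolve_left fun h1 => hrm (‹m.IsMaximal›.isPrime.mem_of_pow_mem _ h1)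
  · intro h0
    have h1 : χ₀ c = 0 := by
      rw [← hχC]
      show χ (r.1 * (r.1 ^ k₀ * h)) = 0
      rw [map_mul, map_mul, h0, mul_zero, mul_zero]
    have hdvd : c ∣ algebraMap _ C (Q.coeff 0) := by
      have := map_dvd (Polynomial.aeval c) (Polynomial.X_dvd_sub_C (p := Q))
      rw [map_sub, hQ, zero_sub] at this
      rw [Polynomial.aeval_X, Polynomial.aeval_C] at this
      exact dvd_neg.1 this
    exact hεa ((hker _).1 (P₀.mem_of_dvd hdvd ((hχ₀ c).1 h1)))
  · intro a ha
    have h1 : χ₀ (algebraMap (MvPolynomial (Fin s) O) C (MvPolynomial.C a : MvPolynomial (Fin s) O)) = 0 := by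
      rw [← hχC]
      show χ (φ (MvPolynomial.C a)) = 0
      rw [show φ (MvPolynomial.C a) = algebraMap O R a from φ.commutes a, ha]
    have h2 := (hker _).1 ((hχ₀ _).1 h1)
    rwa [MvPolynomial.eval_C] at h2
  · have hev : χ₀.comp (algebraMap (MvPolynomial (Fin s) O) C) =
        (χ.comp (algebraMap O R)).comp (MvPolynomial.eval ε) := by
      refine RingHom.ext fun P => ?_
      show χ₀ (algebraMap _ C P) = χ (algebraMap O R (MvPolynomial.eval ε P))
      rw [← φ.commutes, show algebraMap O (MvPolynomial (Fin s) O) = MvPolynomial.C from rfl]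
      rw [show φ (MvPolynomial.C (MvPolynomial.eval ε P)) =
          (algebraMap (MvPolynomial (Fin s) O) C (MvPolynomial.C (MvPolynomial.eval ε P) : MvPolynomial (Fin s) O)).1 from rfl,
        hχC, ← sub_eq_zero, ← map_sub, hχ₀, ← map_sub, hker]
      simp
    have halg : ∀ z : C, (χ.comp (algebraMap O R)).IsIntegralElem (χ₀ z) := by
      intro z
      obtain ⟨P, hP, hPz⟩ := Algebra.IsIntegral.isIntegral (R := MvPolynomial (Fin s) O) z
      refine ⟨P.map (MvPolynomial.eval ε), hP.map _, ?_⟩
      rw [Polynomial.eval₂_map, ← hev, ← Polynomial.hom_eval₂, hPz, map_zero]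
    intro x
    obtain ⟨k, hk, hkx⟩ := hpow x
    refine exists_eval₂_eq_zero _ ((injective_iff_map_eq_zero _).2 fun a ha => ?_) _ _ _ k (halg _) (halg r) hrne hkx
    have h1 : χ₀ (algebraMap (MvPolynomial (Fin s) O) C (MvPolynomial.C a : MvPolynomial (Fin s) O)) = 0 := by
      rw [← hχC]
      show χ (φ (MvPolynomial.C a)) = 0
      rw [show φ (MvPolynomial.C a) = algebraMap O R a from φ.commutes a]
      exact ha
    have h2 := (hker _).1 ((hχ₀ _).1 h1)
    rwa [MvPolynomial.eval_C] at h2

/-- A horizontal closed point of the generic fibre between a generic point and a closed point of a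
special fibre. -/
theorem exists_point {A R : Type u} [CommRing A] [CommRing R] [IsDomain R] [Algebra A R]
    [Algebra.FiniteType A R] (hinj : Function.Injective (algebraMap A R))
    (m : Ideal R) [m.IsPrime] (hm0 : m.comap (algebraMap A R) ≠ ⊥)
    (hmax : ∀ r : Ideal R, r.IsPrime → m ≤ r → r.comap (algebraMap A R) = m.comap (algebraMap A R) → r = m)
    (h : R) (hh : h ≠ 0) :
    ∃ q : Ideal R, q.IsPrime ∧ q ≤ m ∧ h ∉ q ∧ q.comap (algebraMap A R) = ⊥ ∧
      ∀ r : Ideal R, r.IsPrime → q ≤ r → r.comap (algebraMap A R) = ⊥ → r = q := by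
  classical
  haveI : IsDomain A := hinj.isDomain
  let L := FractionRing R
  obtain ⟨g, hg⟩ : ∃ g : Localization.AtPrime m →+* L, ∀ x, g (algebraMap R _ x) = algebraMap R L x :=
    ⟨IsLocalization.lift (M := m.primeCompl) (g := algebraMap R L)
      (fun y => isUnit_iff_ne_zero.2 fun h0 => y.2
        (by rw [(IsFractionRing.injective R L).eq_iff' (map_zero _) |>.1 h0]; exact m.zero_mem)),
      fun x => IsLocalization.lift_eq _ x⟩
  obtain ⟨V, hV, hloc⟩ := IsLocalRing.exists_factor_valuationRing g
  let K := FractionRing A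
  have hAL : Function.Injective ((algebraMap R L).comp (algebraMap A R)) :=
    (IsFractionRing.injective R L).comp hinj
  obtain ⟨ι, hι⟩ : ∃ ι : K →+* L, ∀ a, ι (algebraMap A K a) = algebraMap R L (algebraMap A R a) :=
    ⟨IsFractionRing.lift hAL, fun a => IsFractionRing.lift_algebraMap hAL a⟩
  let O := V.comap ι
  let κ : O →+* L := ι.comp O.subtype
  letI : Algebra O L := κ.toAlgebra
  obtain ⟨T, hT⟩ := (Algebra.FiniteType.out : (⊤ : Subalgebra A R).FG)
  let R' := Algebra.adjoin O (algebraMap R L '' (T : Set R))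
  haveI : Algebra.FiniteType O R' := ⟨Subalgebra.fg_top _ |>.2 ⟨T.image (algebraMap R L), by rw [Finset.coe_image]⟩⟩
  have hRR' : ∀ x : R, algebraMap R L x ∈ R' := by
    intro x
    have hx : x ∈ Algebra.adjoin A (T : Set R) := by rw [hT]; trivial
    induction hx using Algebra.adjoin_induction with
    | mem y hy => exact Algebra.subset_adjoin ⟨y, hy, rfl⟩
    | algebraMap a =>
      have ha : ι (algebraMap A K a) ∈ V := by
        rw [hι a]
        have := hV (algebraMap R (Localization.AtPrime m) (algebraMap A R a))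
        rwa [hg] at this
      have h1 : algebraMap R L (algebraMap A R a) = κ ⟨algebraMap A K a, ha⟩ := by
        show _ = ι (algebraMap A K a)
        exact (hι a).symm
      rw [h1]
      exact R'.algebraMap_mem _
    | add y z _ _ hy hz => rw [map_add]; exact R'.add_mem hy hz
    | mul y z _ _ hy hz => rw [map_mul]; exact R'.mul_mem hy hz
  have hR'V : ∀ x ∈ R', x ∈ V := by
    intro x hx
    induction hx using Algebra.adjoin_induction with
    | mem y hy =>
      obtain ⟨y, -, rfl⟩ := hy
      have := hV (algebraMap R (Localization.AtPrime m) y)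
      rwa [hg] at this
    | algebraMap a => exact a.2
    | add y z _ _ hy hz => exact V.add_mem _ _ hy hz
    | mul y z _ _ hy hz => exact V.mul_mem _ _ hy hz
  let ρ : R →+* R' := (algebraMap R L).codRestrict R' hRR'
  let σ : R' →+* V := R'.val.toRingHom.codRestrict V fun x => hR'V x.1 x.2
  let P : Ideal R' := (IsLocalRing.maximalIdeal V).comap σ
  haveI : P.IsPrime := Ideal.IsPrime.comap _
  have hσρ : ∀ x : R, σ (ρ x) = g.codRestrict V.toSubring hV (algebraMap R (Localization.AtPrime m) x) :=
    fun x => Subtype.ext (show algebraMap R L x = g (algebraMap R (Localization.AtPrime m) x) from (hg x).symm)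
  have hPR : P.comap ρ = m := by
    ext x
    show σ (ρ x) ∈ IsLocalRing.maximalIdeal V ↔ x ∈ m
    rw [IsLocalRing.mem_maximalIdeal, mem_nonunits_iff, hσρ, ← not_iff_not, not_not]
    constructor
    · intro hu
      exact (IsLocalization.AtPrime.isUnit_to_map_iff (Localization.AtPrime m) m x).1 (hloc.1 _ hu)
    · intro hx
      exact ((IsLocalization.AtPrime.isUnit_to_map_iff (Localization.AtPrime m) m x).2 hx).map _
  have hPO : IsLocalRing.maximalIdeal O ≤ P.comap (algebraMap O R') := by
    intro a ha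
    show σ (algebraMap O R' a) ∈ IsLocalRing.maximalIdeal V
    rw [IsLocalRing.mem_maximalIdeal, mem_nonunits_iff] at ha ⊢
    intro hu
    apply ha
    obtain ⟨b, hb⟩ := isUnit_iff_exists_inv.1 hu
    have hb' : ι a.1 * b.1 = 1 := congrArg Subtype.val hb
    refine isUnit_iff_exists_inv.2 ⟨⟨a.1⁻¹, ?_⟩, Subtype.ext (mul_inv_cancel₀ ?_)⟩
    · show ι a.1⁻¹ ∈ V
      rw [map_inv₀, ← eq_inv_of_mul_eq_one_right hb']
      exact b.2
    · intro h0; rw [h0, map_zero, zero_mul] at hb'; exact zero_ne_one hb'
  have hAO : ∀ a : A, algebraMap A K a ∈ O := fun a => by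
    show ι _ ∈ V
    rw [hι a]
    have := hV (algebraMap R (Localization.AtPrime m) (algebraMap A R a))
    rwa [hg] at this
  let α : A →+* O := (algebraMap A K).codRestrict O hAO
  have hκ : ∀ a : O, ((algebraMap O R' a : R') : L) = ι a.1 := fun a => rfl
  have hαρ : ρ.comp (algebraMap A R) = (algebraMap O R').comp α := by
    refine RingHom.ext fun a => Subtype.ext ?_
    rw [RingHom.comp_apply, RingHom.comp_apply, hκ]
    exact (hι a).symm
  have hOne : IsLocalRing.maximalIdeal O ≠ ⊥ := by
    obtain ⟨a, ha, ha0⟩ := Submodule.exists_mem_ne_zero_of_ne_bot hm0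
    intro hbot
    have h1 : α a ≠ 0 := fun h0 => ha0 (IsFractionRing.injective A K ((congrArg Subtype.val h0).trans (map_zero _).symm))
    refine h1 (Ideal.mem_bot.1 (hbot ▸ ?_))
    by_contra hu
    rw [IsLocalRing.mem_maximalIdeal, mem_nonunits_iff, not_not] at hu
    have h2 : ρ (algebraMap A R a) ∈ P := by rw [← Ideal.mem_comap, hPR]; exact ha
    rw [show ρ (algebraMap A R a) = algebraMap O R' (α a) from RingHom.congr_fun hαρ a] at h2
    exact ‹P.IsPrime›.ne_top (Ideal.eq_top_of_isUnit_mem _ h2 (hu.map _))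
  obtain ⟨m'', hm'', hPm⟩ := P.exists_le_maximal ‹P.IsPrime›.ne_top
  have hm''O : m''.comap (algebraMap O R') = IsLocalRing.maximalIdeal O :=
    ((IsLocalRing.maximalIdeal.isMaximal O).eq_of_le (Ideal.IsPrime.comap _).ne_top
      (hPO.trans (Ideal.comap_mono hPm))).symm
  have hm''R : m''.comap ρ = m := by
    refine hmax _ (Ideal.IsPrime.comap ρ) (hPR.symm.le.trans (Ideal.comap_mono hPm)) ?_
    conv_rhs => rw [← hPR]
    rw [Ideal.comap_comap, Ideal.comap_comap, hαρ, ← Ideal.comap_comap, ← Ideal.comap_comap, hm''O]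
    exact congrArg _ (le_antisymm hPO ((Ideal.comap_mono hPm).trans_eq hm''O))
  have hOinj : Function.Injective (algebraMap O R') := fun a b hab =>
    Subtype.ext (ι.injective (congrArg Subtype.val hab))
  have hρh : ρ h ≠ 0 := fun h0 => hh (IsFractionRing.injective R L ((congrArg Subtype.val h0).trans (map_zero _).symm))
  obtain ⟨Ω, _, χ, hker, hχh, hχO, halg⟩ := exists_point_valuation hOne hOinj m'' hm''O (ρ h) hρh
  let q := RingHom.ker (χ.comp ρ)
  have hA : ∀ a : A, χ (ρ (algebraMap A R a)) = 0 → a = 0 := fun a ha => by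
    rw [show ρ (algebraMap A R a) = algebraMap O R' (α a) from RingHom.congr_fun hαρ a] at ha
    exact IsFractionRing.injective A K ((congrArg Subtype.val (hχO _ ha)).trans (map_zero _).symm)
  refine ⟨q, RingHom.ker_isPrime _, ?_, hχh, ?_, ?_⟩
  · exact fun x hx => hm''R.le (hker (show ρ x ∈ RingHom.ker χ from hx))
  · exact eq_bot_iff.2 fun a ha => Ideal.mem_bot.2 (hA a ha)
  · intro r hr hqr hr0
    refine le_antisymm (fun x hx => ?_) hqr
    by_contra hxq
    letI : Algebra O Ω := (χ.comp (algebraMap O R')).toAlgebra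
    letI : Algebra A Ω := (χ.comp (ρ.comp (algebraMap A R))).toAlgebra
    letI : Algebra A O := α.toAlgebra
    haveI : IsScalarTower A O Ω := IsScalarTower.of_algebraMap_eq' (by
      show χ.comp (ρ.comp (algebraMap A R)) = (χ.comp (algebraMap O R')).comp α
      rw [hαρ]; rfl)
    haveI : FaithfulSMul O Ω := (faithfulSMul_iff_algebraMap_injective _ _).2
      ((injective_iff_map_eq_zero _).2 hχO)
    have halgA : IsAlgebraic A (χ (ρ x)) := by
      obtain ⟨Pl, hPl0, hPl⟩ := halg (ρ x)
      haveI : Algebra.IsAlgebraic A O := ⟨fun b => by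
        obtain ⟨a, s, hs, hab⟩ := IsFractionRing.div_surjective (A := A) b.1
        refine ⟨Polynomial.C s * Polynomial.X - Polynomial.C a, ?_, ?_⟩
        · intro h0
          have := congrArg (fun p => Polynomial.coeff p 1) h0
          simp at this
          exact nonZeroDivisors.ne_zero hs this
        · apply Subtype.ext
          simp only [map_sub, map_mul, Polynomial.aeval_C, Polynomial.aeval_X]
          show algebraMap A K s * b.1 - algebraMap A K a = 0
          rw [← hab, mul_div_cancel₀ _ (fun h0 => nonZeroDivisors.ne_zero hs (IsFractionRing.injective A K (h0.trans (map_zero _).symm))), sub_self]⟩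
      exact IsAlgebraic.restrictScalars A (S := O) ⟨Pl, hPl0, hPl⟩
    obtain ⟨Ql, hQ0, hQ⟩ := halgA.exists_nonzero_coeff_and_aeval_eq_zero (mem_nonZeroDivisors_of_ne_zero hxq)
    have hQq : Polynomial.aeval x Ql ∈ q := by
      show (χ.comp ρ) (Polynomial.aeval x Ql) = 0
      rw [Polynomial.aeval_def, Polynomial.hom_eval₂]
      exact hQ
    have hdvd := map_dvd (Polynomial.aeval (R := A) x) (Polynomial.X_dvd_sub_C (p := Ql))
    rw [map_sub, Polynomial.aeval_X, Polynomial.aeval_C] at hdvd
    have h1 := r.mem_of_dvd hdvd hx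
    have h2 : algebraMap A R (Ql.coeff 0) ∈ r := by
      have := r.sub_mem (hqr hQq) h1
      rwa [sub_sub_cancel] at this
    exact hQ0 (Ideal.mem_bot.1 (hr0.le (Ideal.mem_comap.2 h2)))

end Groth.Agent.SpecializeDense
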