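import Mathlib
import Groth.Agent.FlatMisc.SpecializeDense

/-!
# Closed points of a fibre between a specialisation, for schemes
-/

universe u

set_option autoImplicit false

open AlgebraicGeometry CategoryTheory TopologicalSpace

namespace Groth.Agent.SpecializeDense

theorem exists_point_scheme {X S : Scheme.{u}} (f : X ⟶ S) [LocallyOfFiniteType f] (x x' : X) (hsp : x ⤳ x')
    (hne : f x ≠ f x') (hcl : IsClosed (Subtype.val ⁻¹' {x'} : Set ↑(f ⁻¹' {f x'}))) (U : X.Opens) (hxU : x ∈ U) :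
    ∃ x₁ ∈ U, f x₁ = f x ∧ IsClosed (Subtype.val ⁻¹' {x₁} : Set ↑(f ⁻¹' {f x})) ∧ x ⤳ x₁ ∧ x₁ ⤳ x' := by
  classical
  obtain ⟨_, ⟨W, hW, rfl⟩, hx'W, -⟩ := S.isBasis_affineOpens.exists_subset_of_mem_open (Set.mem_univ (f x')) isOpen_univ
  obtain ⟨_, ⟨V, hV, rfl⟩, hx'V, hVW⟩ := X.isBasis_affineOpens.exists_subset_of_mem_open
    (show x' ∈ (f ⁻¹ᵁ W : Set X) from hx'W) (f ⁻¹ᵁ W).isOpen
  replace hV : IsAffineOpen V := hV
  replace hW : IsAffineOpen W := hW
  have e : V ≤ f ⁻¹ᵁ W := hVW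
  have hxV : x ∈ V := hsp.mem_open V.isOpen hx'V
  let φ := (f.appLE W V e).hom
  have hφ : φ.FiniteType := f.finiteType_appLE hW hV e
  have hcomm : ∀ q : PrimeSpectrum Γ(X, V), f (hV.fromSpec q) = hW.fromSpec (PrimeSpectrum.comap φ q) := by
    intro q
    show (hV.fromSpec ≫ f) q = _
    rw [← IsAffineOpen.SpecMap_appLE_fromSpec f hW hV e]
    rfl
  have hrange : ∀ z ∈ V, ∃ q : PrimeSpectrum Γ(X, V), hV.fromSpec q = z := fun z hz => by
    have : z ∈ Set.range hV.fromSpec := by rw [IsAffineOpen.range_fromSpec]; exact hz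
    exact this
  have hmem : ∀ q : PrimeSpectrum Γ(X, V), hV.fromSpec q ∈ V := fun q => by
    have : hV.fromSpec q ∈ Set.range hV.fromSpec := ⟨q, rfl⟩
    rwa [IsAffineOpen.range_fromSpec] at this
  have hle : ∀ q r : PrimeSpectrum Γ(X, V), hV.fromSpec q ⤳ hV.fromSpec r ↔ q.asIdeal ≤ r.asIdeal := fun q r =>
    hV.fromSpec.isEmbedding.isInducing.specializes_iff.trans (PrimeSpectrum.le_iff_specializes q r).symm
  have hinjW : ∀ {a b : PrimeSpectrum Γ(S, W)}, hW.fromSpec a = hW.fromSpec b → a = b :=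
    fun h => hW.fromSpec.isEmbedding.injective h
  obtain ⟨qx, hqx⟩ := hrange x hxV
  obtain ⟨qm, hqm⟩ := hrange x' hx'V
  have hxm : qx.asIdeal ≤ qm.asIdeal := (hle qx qm).1 (by rw [hqx, hqm]; exact hsp)
  obtain ⟨_, ⟨h₀, rfl⟩, hh₀, hh₀U⟩ := PrimeSpectrum.isTopologicalBasis_basic_opens.exists_subset_of_mem_open
    (show qx ∈ hV.fromSpec ⁻¹' (U : Set X) from show hV.fromSpec qx ∈ U from hqx ▸ hxU) (U.isOpen.preimage hV.fromSpec.continuous)
  let p₀ : Ideal Γ(S, W) := qx.asIdeal.comap φ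
  letI : Algebra (Γ(S, W) ⧸ p₀) (Γ(X, V) ⧸ qx.asIdeal) := (Ideal.quotientMap qx.asIdeal φ le_rfl).toAlgebra
  haveI : Algebra.FiniteType (Γ(S, W) ⧸ p₀) (Γ(X, V) ⧸ qx.asIdeal) := by
    rw [← RingHom.finiteType_algebraMap]
    refine RingHom.FiniteType.of_comp_finiteType (f := Ideal.Quotient.mk p₀) ?_
    rw [RingHom.algebraMap_toAlgebra, Ideal.quotientMap_comp_mk]
    exact (RingHom.FiniteType.of_surjective _ Ideal.Quotient.mk_surjective).comp hφ
  have hinj : Function.Injective (algebraMap (Γ(S, W) ⧸ p₀) (Γ(X, V) ⧸ qx.asIdeal)) :=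
    Ideal.quotientMap_injective
  let m := qm.asIdeal.map (Ideal.Quotient.mk qx.asIdeal)
  have hmc : m.comap (Ideal.Quotient.mk qx.asIdeal) = qm.asIdeal := by
    rw [Ideal.comap_map_of_surjective _ Ideal.Quotient.mk_surjective, ← RingHom.ker_eq_comap_bot, Ideal.mk_ker]
    exact sup_of_le_left hxm
  haveI : m.IsPrime := Ideal.map_isPrime_of_surjective Ideal.Quotient.mk_surjective (by rwa [Ideal.mk_ker])
  have hA : ∀ r : Ideal (Γ(X, V) ⧸ qx.asIdeal),
      (r.comap (algebraMap (Γ(S, W) ⧸ p₀) _)).comap (Ideal.Quotient.mk p₀) = (r.comap (Ideal.Quotient.mk qx.asIdeal)).comap φ := by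
    intro r
    rw [Ideal.comap_comap, Ideal.comap_comap]
    exact congrArg (fun g => Ideal.comap g r) (Ideal.quotientMap_comp_mk _)
  have hm0 : m.comap (algebraMap (Γ(S, W) ⧸ p₀) _) ≠ ⊥ := by
    intro h0
    have h1 := hA m
    rw [h0, hmc, ← RingHom.ker_eq_comap_bot, Ideal.mk_ker] at h1
    apply hne
    rw [← hqx, ← hqm, hcomm, hcomm]
    exact congrArg _ (PrimeSpectrum.ext h1)
  have hmax : ∀ r : Ideal (Γ(X, V) ⧸ qx.asIdeal), r.IsPrime → m ≤ r →
      r.comap (algebraMap (Γ(S, W) ⧸ p₀) _) = m.comap (algebraMap (Γ(S, W) ⧸ p₀) _) → r = m := by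
    intro r hr hmr hrc
    let qr : PrimeSpectrum Γ(X, V) := ⟨r.comap (Ideal.Quotient.mk qx.asIdeal), Ideal.IsPrime.comap _⟩
    have h1 : f (hV.fromSpec qr) = f x' := by
      rw [← hqm, hcomm, hcomm]
      refine congrArg _ (PrimeSpectrum.ext ?_)
      have := hA r
      rw [hrc, hA m, hmc] at this
      exact this.symm
    have h2 : x' ⤳ hV.fromSpec qr := by
      rw [← hqm, hle, ← hmc]
      exact Ideal.comap_mono hmr
    have h3 : hV.fromSpec qr = x' := by
      have h4 : (⟨x', rfl⟩ : ↑(f ⁻¹' {f x'})) ⤳ ⟨hV.fromSpec qr, h1⟩ := (subtype_specializes_iff _ _).2 h2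
      exact h4.mem_closed hcl (show x' ∈ ({x'} : Set X) from rfl)
    have h5 : qr = qm := hV.fromSpec.isEmbedding.injective (h3.trans hqm.symm)
    have h6 := congrArg PrimeSpectrum.asIdeal h5
    exact Ideal.comap_injective_of_surjective _ Ideal.Quotient.mk_surjective (h6.trans hmc.symm)
  have hh : Ideal.Quotient.mk qx.asIdeal h₀ ≠ 0 := fun h0 => hh₀ (Ideal.Quotient.eq_zero_iff_mem.1 h0)
  obtain ⟨q, hq, hqm', hqh, hq0, hqmax⟩ := exists_point hinj m hm0 hmax _ hh
  let q₁ : PrimeSpectrum Γ(X, V) := ⟨q.comap (Ideal.Quotient.mk qx.asIdeal), Ideal.IsPrime.comap _⟩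
  have hfq : f (hV.fromSpec q₁) = f x := by
    rw [← hqx, hcomm, hcomm]
    refine congrArg _ (PrimeSpectrum.ext ?_)
    have := hA q
    rw [hq0, ← RingHom.ker_eq_comap_bot, Ideal.mk_ker] at this
    exact this.symm
  have hxq : x ⤳ hV.fromSpec q₁ := by
    rw [← hqx, hle]
    intro z hz
    show Ideal.Quotient.mk qx.asIdeal z ∈ q
    rw [Ideal.Quotient.eq_zero_iff_mem.2 hz]; exact q.zero_mem
  refine ⟨hV.fromSpec q₁, hh₀U (show q₁ ∈ PrimeSpectrum.basicOpen h₀ from hqh), hfq, ?_, hxq, ?_⟩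
  · haveI : JacobsonSpace ↑(f ⁻¹' {f x}) :=
      JacobsonSpace.of_isClosedEmbedding (f.fiberHomeo (f x)).symm.isClosedEmbedding
    have hpre : (Subtype.val ⁻¹' {hV.fromSpec q₁} : Set ↑(f ⁻¹' {f x})) = {⟨hV.fromSpec q₁, hfq⟩} := by
      ext z; exact ⟨fun h => Subtype.ext h, fun h => congrArg Subtype.val h⟩
    rw [hpre]
    refine isClosed_singleton_of_isLocallyClosed_singleton ?_
    have : ({⟨hV.fromSpec q₁, hfq⟩} : Set ↑(f ⁻¹' {f x})) =
        (Subtype.val ⁻¹' (V : Set X)) ∩ closure {⟨hV.fromSpec q₁, hfq⟩} := by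
      refine Set.Subset.antisymm (Set.singleton_subset_iff.2 ⟨hmem q₁, subset_closure rfl⟩) ?_
      rintro z ⟨hzV, hz⟩
      obtain ⟨r, hr⟩ := hrange z.1 hzV
      have h1 : q₁.asIdeal ≤ r.asIdeal := (hle q₁ r).1 (by
        rw [hr]; exact (subtype_specializes_iff _ _).1 (specializes_iff_mem_closure.2 hz))
      have hr0 : qx.asIdeal ≤ r.asIdeal := le_trans ((hle qx q₁).1 (by rw [hqx]; exact hxq)) h1
      have hrc : (r.asIdeal.map (Ideal.Quotient.mk qx.asIdeal)).comap (Ideal.Quotient.mk qx.asIdeal) = r.asIdeal := by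
        rw [Ideal.comap_map_of_surjective _ Ideal.Quotient.mk_surjective, ← RingHom.ker_eq_comap_bot, Ideal.mk_ker]
        exact sup_of_le_left hr0
      have h2 : (r.asIdeal.map (Ideal.Quotient.mk qx.asIdeal)) = q := by
        refine hqmax _ (Ideal.map_isPrime_of_surjective Ideal.Quotient.mk_surjective (by rwa [Ideal.mk_ker])) ?_ ?_
        · rw [← Ideal.map_comap_of_surjective _ Ideal.Quotient.mk_surjective q]
          exact Ideal.map_mono h1
        · refine Ideal.comap_injective_of_surjective _ Ideal.Quotient.mk_surjective ?_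
          rw [hA, hrc, ← RingHom.ker_eq_comap_bot, Ideal.mk_ker]
          have : f (hV.fromSpec r) = f (hV.fromSpec qx) := by rw [hr, hqx]; exact z.2
          rw [hcomm, hcomm] at this
          exact congrArg PrimeSpectrum.asIdeal (hinjW this)
      refine Subtype.ext ?_
      show z.1 = hV.fromSpec q₁
      rw [← hr]
      exact congrArg _ (PrimeSpectrum.ext (hrc.symm.trans (congrArg _ h2)))
    rw [this]
    exact (V.isOpen.preimage continuous_subtype_val).isLocallyClosed.inter isClosed_closure.isLocallyClosed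
  · rw [← hqm, hle, ← hmc]
    exact Ideal.comap_mono hqm'

end Groth.Agent.SpecializeDense
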