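import Mathlib

/-! A versal idempotent in a finite finitely presented algebra avoiding a closed subset. -/

set_option autoImplicit false

universe u

open TensorProduct

namespace Groth.Agent.FlatMisc.VersalIdem

variable {A : Type u} [CommRing A] (B : Type u) [CommRing B] [Algebra A B]

/-- `R ⊗ B → R' ⊗ B`. -/
noncomputable abbrev bc {R R' : Type u} [CommRing R] [CommRing R'] [Algebra A R] [Algebra A R']
    (φ : R →ₐ[A] R') : R ⊗[A] B →ₐ[A] R' ⊗[A] B := Algebra.TensorProduct.map φ (AlgHom.id A B)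

theorem bc_comp {R R' R'' : Type u} [CommRing R] [CommRing R'] [CommRing R''] [Algebra A R] [Algebra A R']
    [Algebra A R''] (φ : R →ₐ[A] R') (ψ : R' →ₐ[A] R'') (x : R ⊗[A] B) :
    bc B ψ (bc B φ x) = bc B (ψ.comp φ) x := by
  induction x with
  | zero => simp
  | tmul r b => simp [bc]
  | add x y hx hy => rw [map_add, map_add, map_add, hx, hy]

/-- Killing an element of `R ⊗ B` versally by a finitely presented extension. -/
theorem exists_kill [Module.FinitePresentation A B] {R₀ : Type u} [CommRing R₀] [Algebra A R₀]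
    [Algebra.FinitePresentation A R₀] (x : R₀ ⊗[A] B) :
    ∃ (R₁ : Type u) (_ : CommRing R₁) (_ : Algebra A R₁) (_ : Algebra.FinitePresentation A R₁)
      (ι : R₀ →ₐ[A] R₁), bc B ι x = 0 ∧
        ∀ (R : Type u) [CommRing R] [Algebra A R] (φ : R₀ →ₐ[A] R), bc B φ x = 0 →
          ∃ ψ : R₁ →ₐ[A] R, ψ.comp ι = φ := by
  classical
  obtain ⟨n, K, e, hK⟩ := Module.FinitePresentation.exists_fin A B
  obtain ⟨m, ρ, hρ⟩ := Submodule.fg_iff_exists_fin_generating_family.mp hK
  let π : (Fin n → A) →ₗ[A] B := e.symm.toLinearMap.comp K.mkQ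
  have hπ : Function.Surjective π := e.symm.surjective.comp K.mkQ_surjective
  let ρ' : (Fin m → A) →ₗ[A] (Fin n → A) := Fintype.linearCombination A ρ
  have hexact : Function.Exact ρ' π := by
    rw [LinearMap.exact_iff]
    have h1 : LinearMap.ker π = K := by
      rw [LinearMap.ker_comp, LinearEquiv.ker, Submodule.comap_bot, Submodule.ker_mkQ]
    rw [h1, Fintype.range_linearCombination, hρ]
  obtain ⟨t, ht⟩ := LinearMap.lTensor_surjective R₀ hπ x
  let co : ∀ (R : Type u) [CommRing R] [Algebra A R], R ⊗[A] (Fin n → A) → Fin n → R :=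
    fun R _ _ t j => TensorProduct.rid A R (LinearMap.lTensor R (LinearMap.proj j) t)
  let P := MvPolynomial (Fin m) R₀
  let rel : Fin n → P := fun j =>
    MvPolynomial.C (co R₀ t j) - ∑ k, ρ k j • MvPolynomial.X k
  let Q := Ideal.span (Set.range rel)
  haveI : Algebra.FinitePresentation A P := Algebra.FinitePresentation.trans A R₀ P
  haveI : Algebra.FinitePresentation A (P ⧸ Q) :=
    Algebra.FinitePresentation.quotient (Submodule.fg_span (Set.finite_range rel))
  let ι : R₀ →ₐ[A] P ⧸ Q := (Ideal.Quotient.mkₐ A Q).comp (IsScalarTower.toAlgHom A R₀ P)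
  have hnat : ∀ (R R' : Type u) [CommRing R] [CommRing R'] [Algebra A R] [Algebra A R'] (φ : R →ₐ[A] R')
      (t : R ⊗[A] (Fin n → A)) (j : Fin n),
      co R' (LinearMap.rTensor (Fin n → A) φ.toLinearMap t) j = φ (co R t j) := by
    intro R R' _ _ _ _ φ t j
    induction t with
    | zero => simp [co]
    | tmul r v => simp [co]
    | add t t' h h' => simp only [co, map_add] at h h' ⊢; rw [h, h']
  have hbc : ∀ (R R' : Type u) [CommRing R] [CommRing R'] [Algebra A R] [Algebra A R'] (φ : R →ₐ[A] R')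
      (t : R ⊗[A] (Fin n → A)),
      bc B φ (LinearMap.lTensor R π t) = LinearMap.lTensor R' π (LinearMap.rTensor (Fin n → A) φ.toLinearMap t) := by
    intro R R' _ _ _ _ φ t
    induction t with
    | zero => simp
    | tmul r v => simp [bc]
    | add t t' h h' => rw [map_add, map_add, map_add, map_add, h, h']
  have hext : ∀ (R : Type u) [CommRing R] [Algebra A R] (t : R ⊗[A] (Fin n → A)),
      t = ∑ j, co R t j ⊗ₜ[A] Pi.single j (1 : A) := by
    intro R _ _ t
    induction t with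
    | zero => simp [co]
    | tmul r v =>
      simp only [co, LinearMap.lTensor_tmul, LinearMap.proj_apply, TensorProduct.rid_tmul]
      conv_lhs => rw [← Finset.univ_sum_single v, TensorProduct.tmul_sum]
      refine Finset.sum_congr rfl fun j _ => ?_
      rw [TensorProduct.smul_tmul, ← Pi.single_smul, smul_eq_mul, mul_one]
    | add t t' h h' =>
      conv_lhs => rw [h, h']
      rw [← Finset.sum_add_distrib]
      refine Finset.sum_congr rfl fun j _ => ?_
      rw [← TensorProduct.add_tmul]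
      simp [co]
  refine ⟨P ⧸ Q, inferInstance, inferInstance, inferInstance, ι, ?_, ?_⟩
  · rw [← ht, hbc]
    have h0 : LinearMap.rTensor (Fin n → A) ι.toLinearMap t =
        LinearMap.lTensor (P ⧸ Q) ρ' (∑ k, (Ideal.Quotient.mk Q (MvPolynomial.X k)) ⊗ₜ[A] Pi.single k (1 : A)) := by
      rw [hext (P ⧸ Q) (LinearMap.rTensor _ _ _), map_sum]
      simp only [LinearMap.lTensor_tmul, ρ', Fintype.linearCombination_apply_single, one_smul]
      have h2 : ∀ k, (Ideal.Quotient.mk Q (MvPolynomial.X k)) ⊗ₜ[A] ρ k =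
          ∑ j, (ρ k j • Ideal.Quotient.mk Q (MvPolynomial.X k)) ⊗ₜ[A] Pi.single j (1 : A) := by
        intro k
        conv_lhs => rw [← Finset.univ_sum_single (ρ k), TensorProduct.tmul_sum]
        refine Finset.sum_congr rfl fun j _ => ?_
        rw [TensorProduct.smul_tmul, ← Pi.single_smul, smul_eq_mul, mul_one]
      simp only [h2]
      rw [Finset.sum_comm]
      refine Finset.sum_congr rfl fun j _ => ?_
      rw [← TensorProduct.sum_tmul, hnat]
      congr 1
      have h3 : Ideal.Quotient.mk Q (rel j) = 0 := Ideal.Quotient.eq_zero_iff_mem.mpr (Ideal.subset_span ⟨j, rfl⟩)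
      simp only [rel, map_sub, map_sum, sub_eq_zero] at h3
      exact h3.trans (Finset.sum_congr rfl fun k _ => map_smul (Ideal.Quotient.mkₐ A Q) (ρ k j) _)
    rw [h0, ← LinearMap.comp_apply, ← LinearMap.lTensor_comp, hexact.linearMap_comp_eq_zero, LinearMap.lTensor_zero,
      LinearMap.zero_apply]
  intro R _ _ φ hφ
  rw [← ht, hbc] at hφ
  obtain ⟨v, hv⟩ := (lTensor_exact R hexact hπ _).mp hφ
  let a : Fin m → R := fun k => TensorProduct.rid A R (LinearMap.lTensor R (LinearMap.proj k) v)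
  have hcoord : ∀ j, φ (co R₀ t j) = ∑ k, ρ k j • a k := by
    intro j
    rw [← hnat, ← hv]
    clear hv
    induction v with
    | zero => simp [co, a]
    | tmul r w =>
      simp only [co, a, LinearMap.lTensor_tmul, LinearMap.proj_apply, TensorProduct.rid_tmul, ρ',
        Fintype.linearCombination_apply, Finset.sum_apply, Pi.smul_apply, smul_eq_mul, Finset.sum_smul, smul_smul]
      exact Finset.sum_congr rfl fun k _ => by rw [mul_comm]
    | add v v' h h' =>
      simp only [co, a, map_add, smul_add, Finset.sum_add_distrib] at h h' ⊢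
      rw [h, h']
  let ev : P →ₐ[A] R :=
    { MvPolynomial.eval₂Hom φ.toRingHom a with
      commutes' := fun r => by
        show MvPolynomial.eval₂Hom φ.toRingHom a (algebraMap A P r) = _
        rw [IsScalarTower.algebraMap_apply A R₀ P, MvPolynomial.algebraMap_eq, MvPolynomial.eval₂Hom_C]
        exact φ.commutes r }
  have hevC : ∀ r, ev (MvPolynomial.C r) = φ r := fun r => MvPolynomial.eval₂Hom_C _ _ _
  have hevX : ∀ k, ev (MvPolynomial.X k) = a k := fun k => MvPolynomial.eval₂Hom_X' _ _ _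
  have hker : ∀ p ∈ Q, ev p = 0 := by
    intro p hp
    refine (Ideal.span_le.mpr (Set.range_subset_iff.mpr fun j => ?_) : Q ≤ RingHom.ker ev.toRingHom) hp
    show ev (rel j) = 0
    simp only [rel, map_sub, map_sum, map_smul, hevC, hevX, hcoord, sub_self]
  exact ⟨Ideal.Quotient.liftₐ Q ev hker, AlgHom.ext fun r => hevC r⟩

/-- The versal datum. -/
theorem exists_versal [Module.FinitePresentation A B] {m : ℕ} (g : Fin m → B) :
    ∃ (R : Type u) (_ : CommRing R) (_ : Algebra A R) (_ : Algebra.FinitePresentation A R)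
      (e : R ⊗[A] B), IsIdempotentElem e ∧ e ∈ Ideal.span (Set.range fun l => (1 : R) ⊗ₜ[A] g l) ∧
      ∀ (R' : Type u) [CommRing R'] [Algebra A R'] (e' : R' ⊗[A] B), IsIdempotentElem e' →
        e' ∈ Ideal.span (Set.range fun l => (1 : R') ⊗ₜ[A] g l) → ∃ ψ : R →ₐ[A] R', bc B ψ e = e' := by
  classical
  obtain ⟨n, b, hb⟩ := Module.Finite.exists_fin (R := A) (M := B)
  let σ := Fin n ⊕ Fin m × Fin n
  let R₀ := MvPolynomial σ A
  let e₀ : R₀ ⊗[A] B := ∑ i, MvPolynomial.X (Sum.inl i) ⊗ₜ[A] b i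
  let β₀ : Fin m → R₀ ⊗[A] B := fun l => ∑ i, MvPolynomial.X (Sum.inr (l, i)) ⊗ₜ[A] b i
  obtain ⟨R₁, _, _, _, ι₁, h₁, u₁⟩ := exists_kill B (e₀ * e₀ - e₀)
  obtain ⟨R₂, _, _, _, ι₂, h₂, u₂⟩ :=
    exists_kill B (bc B ι₁ (e₀ - e₀ * ∑ l, β₀ l * ((1 : R₀) ⊗ₜ[A] g l)))
  rw [bc_comp] at h₂
  rw [map_sub, sub_eq_zero] at h₁
  rw [map_sub, sub_eq_zero] at h₂
  refine ⟨R₂, inferInstance, inferInstance, inferInstance, bc B (ι₂.comp ι₁) e₀, ?_, ?_, ?_⟩
  · show _ * _ = _
    rw [← bc_comp, ← map_mul, ← map_mul, h₁]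
  · rw [h₂, map_mul]
    refine Ideal.mul_mem_left _ _ ?_
    rw [map_sum]
    refine Ideal.sum_mem _ fun l _ => ?_
    rw [map_mul]
    exact Ideal.mul_mem_left _ _ (Ideal.subset_span ⟨l, by simp [bc]⟩)
  intro R' _ _ e' he' hmem
  have hsurj : ∀ x : R' ⊗[A] B, ∃ c : Fin n → R', x = ∑ i, c i ⊗ₜ[A] b i := by
    intro x
    induction x with
    | zero => exact ⟨0, by simp⟩
    | tmul r y =>
      obtain ⟨d, hd⟩ := Submodule.mem_span_range_iff_exists_fun A |>.mp (hb ▸ trivial : y ∈ Submodule.span A (Set.range b))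
      exact ⟨fun i => d i • r, by rw [← hd, TensorProduct.tmul_sum]; simp only [TensorProduct.smul_tmul]⟩
    | add x y hx hy =>
      obtain ⟨c, rfl⟩ := hx
      obtain ⟨d, rfl⟩ := hy
      exact ⟨c + d, by simp [TensorProduct.add_tmul, Finset.sum_add_distrib]⟩
  obtain ⟨β, hβ⟩ := Ideal.mem_span_range_iff_exists_fun.mp hmem
  obtain ⟨c, hc⟩ := hsurj e'
  choose d hd using fun l => hsurj (β l)
  let φ : R₀ →ₐ[A] R' := MvPolynomial.aeval (Sum.elim c fun p => d p.1 p.2)
  have he : bc B φ e₀ = e' := by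
    rw [hc, map_sum]
    refine Finset.sum_congr rfl fun i _ => ?_
    rw [show bc B φ = Algebra.TensorProduct.map φ (AlgHom.id A B) from rfl, Algebra.TensorProduct.map_tmul]
    exact congrArg (· ⊗ₜ[A] b i) (MvPolynomial.aeval_X _ _)
  have hβ' : ∀ l, bc B φ (β₀ l) = β l := fun l => by
    rw [hd l, map_sum]
    refine Finset.sum_congr rfl fun i _ => ?_
    rw [show bc B φ = Algebra.TensorProduct.map φ (AlgHom.id A B) from rfl, Algebra.TensorProduct.map_tmul]
    exact congrArg (· ⊗ₜ[A] b i) (MvPolynomial.aeval_X _ _)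
  have hx2 : bc B φ (e₀ - e₀ * ∑ l, β₀ l * ((1 : R₀) ⊗ₜ[A] g l)) = 0 := by
    simp only [map_sub, map_mul, map_sum, he, hβ']
    rw [show bc B φ = Algebra.TensorProduct.map φ (AlgHom.id A B) from rfl]
    simp only [Algebra.TensorProduct.map_tmul, map_one, AlgHom.id_apply, hβ, he'.eq, sub_self]
  obtain ⟨ψ₁, hψ₁⟩ := u₁ R' φ (by rw [map_sub, map_mul, he, he'.eq, sub_self])
  obtain ⟨ψ₂, hψ₂⟩ := u₂ R' ψ₁ (by rw [bc_comp, hψ₁, hx2])
  exact ⟨ψ₂, by rw [bc_comp, ← AlgHom.comp_assoc, hψ₂, hψ₁, he]⟩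

end Groth.Agent.FlatMisc.VersalIdem
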