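import Mathlib
import Groth.Agent.FlatMisc.FiniteFPEnvelope
import Groth.Agent.FlatMisc.VersalIdem

/-! A versal open subscheme finite over the base. -/

set_option autoImplicit false
set_option backward.isDefEq.respectTransparency.types false

universe u

open AlgebraicGeometry CategoryTheory Limits TensorProduct
open scoped Groth.Agent.FlatMisc.VersalIdem

namespace Groth.Agent.FlatMisc.UnivFiniteOpen

variable {A : CommRingCat.{u}} {X Y : Scheme.{u}} (η : Y ≅ Spec A) (f : X ⟶ Y)
  (B : Type u) [CommRing B] [Algebra A B] {m : ℕ} (g : Fin m → B)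
  (J : X ⟶ Spec (CommRingCat.of B))

/-- The base change of an open immersion into a finite scheme, on affine models. -/
theorem exists_model (hJ : J ≫ Spec.map (CommRingCat.ofHom (algebraMap A B)) ≫ η.inv = f) [IsOpenImmersion J]
    (hrJ : Set.range J = ⋃ l, (PrimeSpectrum.basicOpen (g l) : Set (PrimeSpectrum B)))
    (R : Type u) [CommRing R] [Algebra A R] {W : Scheme.{u}} (ηW : W ≅ Spec (CommRingCat.of R)) (w : W ⟶ Y)
    (hw : w = ηW.hom ≫ Spec.map (CommRingCat.ofHom (algebraMap A R)) ≫ η.inv) :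
    ∃ j : pullback f w ⟶ Spec (CommRingCat.of (R ⊗[A] B)), IsOpenImmersion j ∧
      j ≫ Spec.map (CommRingCat.ofHom (Algebra.TensorProduct.includeRight : B →ₐ[A] R ⊗[A] B).toRingHom) = pullback.fst f w ≫ J ∧
      j ≫ Spec.map (CommRingCat.ofHom (Algebra.TensorProduct.includeLeftRingHom : R →+* R ⊗[A] B)) = pullback.snd f w ≫ ηW.hom ∧
      Set.range j = ⋃ l, (PrimeSpectrum.basicOpen ((1 : R) ⊗ₜ[A] g l) : Set (PrimeSpectrum (R ⊗[A] B))) := by
  let pT := Spec.map (CommRingCat.ofHom (Algebra.TensorProduct.includeRight : B →ₐ[A] R ⊗[A] B).toRingHom)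
  let pR := Spec.map (CommRingCat.ofHom (Algebra.TensorProduct.includeLeftRingHom : R →+* R ⊗[A] B))
  have h0 : IsPullback pT pR (Spec.map (CommRingCat.ofHom (algebraMap A B))) (Spec.map (CommRingCat.ofHom (algebraMap A R))) :=
    (isPullback_SpecMap_of_isPushout _ _ _ _ (CommRingCat.isPushout_tensorProduct A R B)).flip
  have h1 : IsPullback pT (pR ≫ ηW.inv) (Spec.map (CommRingCat.ofHom (algebraMap A B)) ≫ η.inv) w := by
    refine h0.of_iso (Iso.refl _) (Iso.refl _) ηW.symm η.symm ?_ ?_ ?_ ?_ <;>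
      simp [hw]
  let j := h1.lift (pullback.fst f w ≫ J) (pullback.snd f w) (by rw [Category.assoc, hJ, pullback.condition])
  have hjT : j ≫ pT = pullback.fst f w ≫ J := h1.lift_fst _ _ _
  have hjW : j ≫ pR ≫ ηW.inv = pullback.snd f w := h1.lift_snd _ _ _
  have h2 : IsPullback (pullback.fst f w) j J pT := by
    refine IsPullback.of_bot ?_ hjT.symm h1
    rw [hjW, hJ]
    exact IsPullback.of_hasPullback f w
  haveI : IsOpenImmersion j := MorphismProperty.of_isPullback h2 inferInstance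
  refine ⟨j, inferInstance, hjT, ?_, ?_⟩
  · rw [← cancel_mono ηW.inv, Category.assoc, Category.assoc, Iso.hom_inv_id, Category.comp_id]
    exact hjW
  · rw [← h2.isoPullback_hom_snd, Scheme.Hom.comp_base, TopCat.coe_comp, Set.range_comp,
      Set.range_eq_univ.mpr h2.isoPullback.hom.surjective, Set.image_univ, Scheme.Pullback.range_snd, hrJ]
    exact Set.preimage_iUnion

theorem idempotent_mem_span {T : Type u} [CommRing T] {e : T} (he : IsIdempotentElem e) {ι : Type*} (v : ι → T)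
    (h : (PrimeSpectrum.basicOpen e : Set (PrimeSpectrum T)) ⊆ ⋃ l, (PrimeSpectrum.basicOpen (v l) : Set (PrimeSpectrum T))) :
    e ∈ Ideal.span (Set.range v) := by
  have hrad : e ∈ (Ideal.span (Set.range v)).radical := by
    rw [Ideal.radical_eq_sInf, Ideal.mem_sInf]
    rintro P ⟨hle, hP⟩
    by_contra heP
    obtain ⟨l, hl⟩ := Set.mem_iUnion.mp (h (show (⟨P, hP⟩ : PrimeSpectrum T) ∈ _ from heP))
    exact hl (hle (Ideal.subset_span ⟨l, rfl⟩))
  obtain ⟨N, hN⟩ := hrad
  rcases N with _ | N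
  · exact (Ideal.eq_top_iff_one _).mpr (by simpa using hN) ▸ trivial
  · rwa [he.pow_succ_eq] at hN

theorem basicOpen_subset {T : Type u} [CommRing T] {e : T} {ι : Type*} (v : ι → T)
    (h : e ∈ Ideal.span (Set.range v)) :
    (PrimeSpectrum.basicOpen e : Set (PrimeSpectrum T)) ⊆ ⋃ l, (PrimeSpectrum.basicOpen (v l) : Set (PrimeSpectrum T)) := by
  intro P hP
  by_contra hn
  simp only [Set.mem_iUnion, not_exists] at hn
  exact hP (Ideal.span_le.mpr (Set.range_subset_iff.mpr fun l => not_not.mp (hn l)) h)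

theorem main [IsAffine X] [IsAffine Y] (f : X ⟶ Y) [LocallyQuasiFinite f] [LocallyOfFinitePresentation f] :
    ∃ (Yu : Scheme.{u}) (a : Yu ⟶ Y) (Uu : (pullback f a).Opens), LocallyOfFinitePresentation a ∧ QuasiCompact a ∧ QuasiSeparated a ∧
      IsFinite (Uu.ι ≫ pullback.snd f a) ∧
      ∀ (Y' : Scheme.{u}) (b : Y' ⟶ Y) (U' : (pullback f b).Opens), IsAffine Y' → IsFinite (U'.ι ≫ pullback.snd f b) →
        ∃ (c : Y' ⟶ Yu) (hc : c ≫ a = b),
          (pullback.map f b f a (𝟙 X) c (𝟙 Y) ((Category.comp_id f).trans (Category.id_comp f).symm) ((Category.comp_id b).trans hc.symm)) ⁻¹ᵁ Uu = U' := by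
  let A := Γ(Y, ⊤)
  letI : Algebra A Γ(X, ⊤) := f.appTop.hom.toAlgebra
  haveI : Algebra.FinitePresentation A Γ(X, ⊤) :=
    HasRingHomProperty.appTop (P := @LocallyOfFinitePresentation) f inferInstance
  haveI : Algebra.QuasiFinite A Γ(X, ⊤) :=
    HasRingHomProperty.appTop (P := @LocallyQuasiFinite) f inferInstance
  obtain ⟨B, _, _, _, _, θ, m, g, hspan, hbij⟩ := FiniteFP.exists_envelope A Γ(X, ⊤)
  obtain ⟨hθ, hrθ⟩ := FiniteFP.isOpenImmersion_specMap (B := CommRingCat.of B) (CommRingCat.ofHom θ.toRingHom) g hspan hbij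
  let J : X ⟶ Spec (CommRingCat.of B) := X.isoSpec.hom ≫ Spec.map (CommRingCat.ofHom θ.toRingHom)
  let η := Y.isoSpec
  have hJ : J ≫ Spec.map (CommRingCat.ofHom (algebraMap A B)) ≫ η.inv = f := by
    rw [← Category.assoc, Iso.comp_inv_eq, Category.assoc, ← Spec.map_comp,
      show CommRingCat.ofHom (algebraMap A B) ≫ CommRingCat.ofHom θ.toRingHom = f.appTop from
        CommRingCat.hom_ext θ.comp_algebraMap]
    exact Scheme.isoSpec_hom_naturality f
  have hrJ : Set.range J = ⋃ l, (PrimeSpectrum.basicOpen (g l) : Set (PrimeSpectrum B)) := by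
    rw [Scheme.Hom.comp_base, TopCat.coe_comp, Set.range_comp, Set.range_eq_univ.mpr X.isoSpec.hom.surjective,
      Set.image_univ]
    exact hrθ
  haveI : IsOpenImmersion J := inferInstance
  obtain ⟨R, _, _, hR, e, he, hespan, hver⟩ := VersalIdem.exists_versal (A := A) B g
  let a : Spec (CommRingCat.of R) ⟶ Y := Spec.map (CommRingCat.ofHom (algebraMap A R)) ≫ η.inv
  obtain ⟨j, hjo, hjT, hjR, hjr⟩ := exists_model η f B g J hJ hrJ R (Iso.refl _) a (Category.id_comp _).symm
  rw [Iso.refl_hom, Category.comp_id] at hjR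
  have hfinL : ∀ (R : Type u) [CommRing R] [Algebra A R],
      IsFinite (Spec.map (CommRingCat.ofHom (Algebra.TensorProduct.includeLeftRingHom : R →+* R ⊗[A] B))) := fun R _ _ => by
    rw [IsFinite.SpecMap_iff]
    exact RingHom.finite_algebraMap.mpr (inferInstance : Module.Finite R (R ⊗[A] B))
  haveI : LocallyOfFinitePresentation (Spec.map (CommRingCat.ofHom (algebraMap A R))) :=
    (HasRingHomProperty.Spec_iff (P := @LocallyOfFinitePresentation)).mpr (RingHom.finitePresentation_algebraMap.mpr hR)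
  refine ⟨_, a, j ⁻¹ᵁ (PrimeSpectrum.basicOpen e : (Spec (CommRingCat.of (R ⊗[A] B))).Opens), inferInstance, inferInstance,
    inferInstance, ?_, ?_⟩
  · let U := j ⁻¹ᵁ (PrimeSpectrum.basicOpen e : (Spec (CommRingCat.of (R ⊗[A] B))).Opens)
    have hr : Set.range (U.ι ≫ j) = (PrimeSpectrum.basicOpen e : Set (PrimeSpectrum (R ⊗[A] B))) := by
      rw [Scheme.Hom.comp_base, TopCat.coe_comp, Set.range_comp, Scheme.Opens.range_ι]
      refine (Set.image_preimage_eq_inter_range (f := ⇑j)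
        (t := (PrimeSpectrum.basicOpen e : Set (PrimeSpectrum (R ⊗[A] B))))).trans ?_
      rw [hjr]
      exact Set.inter_eq_left.mpr (basicOpen_subset _ hespan)
    haveI : IsClosedImmersion (U.ι ≫ j) := IsClosedImmersion.of_isPreimmersion _ (by
      rw [hr]; exact (PrimeSpectrum.isClopen_iff.mpr ⟨e, he, rfl⟩).1)
    haveI := hfinL R
    have : U.ι ≫ pullback.snd f a = (U.ι ≫ j) ≫ Spec.map (CommRingCat.ofHom Algebra.TensorProduct.includeLeftRingHom) := by
      rw [Category.assoc, hjR]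
    rw [this]
    infer_instance
  intro Y' b U' hY' hU'
  let A' := Γ(Y', ⊤)
  letI : Algebra A A' := b.appTop.hom.toAlgebra
  have hb : b = Y'.isoSpec.hom ≫ Spec.map (CommRingCat.ofHom (algebraMap A A')) ≫ η.inv := by
    rw [← Category.assoc, Iso.eq_comp_inv]
    exact (Scheme.isoSpec_hom_naturality b).symm
  obtain ⟨j', hjo', hjT', hjR', hjr'⟩ := exists_model η f B g J hJ hrJ A' Y'.isoSpec b hb
  haveI := hfinL A'
  haveI : IsProper (U'.ι ≫ j') := by
    haveI : IsProper ((U'.ι ≫ j') ≫ (Spec.map (CommRingCat.ofHom (Algebra.TensorProduct.includeLeftRingHom : A' →+* A' ⊗[A] B)) ≫ Y'.isoSpec.inv)) := by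
      rw [Category.assoc, reassoc_of% hjR', Iso.hom_inv_id, Category.comp_id]
      infer_instance
    exact IsProper.of_comp _ (Spec.map (CommRingCat.ofHom (Algebra.TensorProduct.includeLeftRingHom : A' →+* A' ⊗[A] B)) ≫ Y'.isoSpec.inv)
  obtain ⟨e', he', hre'⟩ := PrimeSpectrum.isClopen_iff.mp
    (⟨(U'.ι ≫ j').isClosedMap.isClosed_range, (U'.ι ≫ j').isOpenEmbedding.isOpen_range⟩ :
      IsClopen (Set.range (U'.ι ≫ j') : Set (PrimeSpectrum (A' ⊗[A] B))))
  have hsub : (PrimeSpectrum.basicOpen e' : Set (PrimeSpectrum (A' ⊗[A] B))) ⊆ Set.range j' := by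
    rw [← hre', Scheme.Hom.comp_base, TopCat.coe_comp]
    exact Set.range_comp_subset_range _ _
  obtain ⟨ψ, hψ⟩ := hver A' e' he' (idempotent_mem_span he' _ (hjr' ▸ hsub))
  let c : Y' ⟶ Spec (CommRingCat.of R) := Y'.isoSpec.hom ≫ Spec.map (CommRingCat.ofHom ψ.toRingHom)
  have hc : c ≫ a = b := by
    rw [hb, Category.assoc, ← Spec.map_comp_assoc,
      show CommRingCat.ofHom (algebraMap A R) ≫ CommRingCat.ofHom ψ.toRingHom = CommRingCat.ofHom (algebraMap A A') from
        CommRingCat.hom_ext ψ.comp_algebraMap]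
  refine ⟨c, hc, ?_⟩
  let Φ := pullback.map f b f a (𝟙 X) c (𝟙 Y) ((Category.comp_id f).trans (Category.id_comp f).symm) ((Category.comp_id b).trans hc.symm)
  let M := Spec.map (CommRingCat.ofHom (VersalIdem.bc B ψ).toRingHom)
  have h0 := (isPullback_SpecMap_of_isPushout _ _ _ _ (CommRingCat.isPushout_tensorProduct A R B)).flip
  have key : Φ ≫ j = j' ≫ M := by
    apply h0.hom_ext
    · rw [Category.assoc, hjT, pullback.lift_fst_assoc, Category.comp_id, Category.assoc, ← Spec.map_comp,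
        show CommRingCat.ofHom (Algebra.TensorProduct.includeRight : B →ₐ[A] R ⊗[A] B).toRingHom ≫
          CommRingCat.ofHom (VersalIdem.bc B ψ).toRingHom =
          CommRingCat.ofHom (Algebra.TensorProduct.includeRight : B →ₐ[A] A' ⊗[A] B).toRingHom from by
          ext x; simp [VersalIdem.bc]]
      exact hjT'.symm
    · rw [Category.assoc, hjR, pullback.lift_snd, Category.assoc, ← Spec.map_comp,
        show CommRingCat.ofHom (Algebra.TensorProduct.includeLeftRingHom : R →+* R ⊗[A] B) ≫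
          CommRingCat.ofHom (VersalIdem.bc B ψ).toRingHom =
          CommRingCat.ofHom ψ.toRingHom ≫ CommRingCat.ofHom (Algebra.TensorProduct.includeLeftRingHom : A' →+* A' ⊗[A] B) from by
          ext x; simp [VersalIdem.bc],
        Spec.map_comp, reassoc_of% hjR']
  ext x
  show j (Φ x) ∈ (PrimeSpectrum.basicOpen e : Set (PrimeSpectrum (R ⊗[A] B))) ↔ x ∈ U'
  rw [← Scheme.Hom.comp_apply, key, Scheme.Hom.comp_apply]
  have h3 : M (j' x) ∈ (PrimeSpectrum.basicOpen e : Set (PrimeSpectrum (R ⊗[A] B))) ↔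
      j' x ∈ (PrimeSpectrum.basicOpen e' : Set (PrimeSpectrum (A' ⊗[A] B))) := by
    rw [← hψ]; rfl
  rw [h3, ← hre']
  have h4 : Set.range (U'.ι ≫ j') = j' '' (U' : Set ↑(pullback f b)) := by
    rw [Scheme.Hom.comp_base, TopCat.coe_comp, Set.range_comp, Scheme.Opens.range_ι]
  exact (Set.ext_iff.mp h4 (j' x)).trans j'.isOpenEmbedding.injective.mem_set_image

end Groth.Agent.FlatMisc.UnivFiniteOpen
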