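import Mathlib

/-! Testing universal openness on polynomial rings. -/

namespace Groth.Agent.FlatMisc.UnivOpenTest

open AlgebraicGeometry CategoryTheory Limits MvPolynomial TensorProduct

universe u v v' w

variable {A B : Type u} [CommRing A] [CommRing B] [Algebra A B]

theorem exists_common_field {k : Type w} {L : Type v} {κ : Type v'} [Field k] [Field L] [Field κ] (a : k →+* L) (b : k →+* κ) :
    ∃ (F : Type (max v v')) (_ : Field F) (i : L →+* F) (j : κ →+* F), i.comp a = j.comp b := by
  let := a.toAlgebra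
  let := b.toAlgebra
  obtain ⟨m, hm⟩ := Ideal.exists_maximal (L ⊗[k] κ)
  let := Ideal.Quotient.field m
  refine ⟨(L ⊗[k] κ) ⧸ m, inferInstance, (Ideal.Quotient.mk m).comp Algebra.TensorProduct.includeLeftRingHom,
    (Ideal.Quotient.mk m).comp (Algebra.TensorProduct.includeRight (R := k) (A := L) (B := κ)).toRingHom,
    RingHom.ext fun x => congrArg (Ideal.Quotient.mk m) ?_⟩
  show (algebraMap k L x) ⊗ₜ[k] (1 : κ) = (1 : L) ⊗ₜ[k] algebraMap k κ x
  rw [Algebra.algebraMap_eq_smul_one, Algebra.algebraMap_eq_smul_one, TensorProduct.smul_tmul]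

theorem mem_image_basicOpen_iff {σ : Type w} [Fintype σ] (b : σ → B) {A' : Type u} [CommRing A'] [Algebra A A']
    (a : σ → A') (p : PrimeSpectrum A') :
    p ∈ PrimeSpectrum.comap (Algebra.TensorProduct.includeLeftRingHom : A' →+* A' ⊗[A] B) ''
        (PrimeSpectrum.basicOpen (∑ i, a i ⊗ₜ[A] b i) : Set (PrimeSpectrum (A' ⊗[A] B))) ↔
      PrimeSpectrum.comap (aeval (R := A) a).toRingHom p ∈
        PrimeSpectrum.comap (MvPolynomial.map (σ := σ) (algebraMap A B)) ''
          (PrimeSpectrum.basicOpen (∑ i, X i * C (b i)) : Set (PrimeSpectrum (MvPolynomial σ B))) := by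
  constructor
  · rintro ⟨P, hP, rfl⟩
    let ρB : MvPolynomial σ B →+* A' ⊗[A] B :=
      eval₂Hom (Algebra.TensorProduct.includeRight (R := A) (A := A') (B := B)).toRingHom fun i => a i ⊗ₜ[A] 1
    have hcomm : ρB.comp (MvPolynomial.map (algebraMap A B)) =
        (Algebra.TensorProduct.includeLeftRingHom : A' →+* A' ⊗[A] B).comp (aeval (R := A) a).toRingHom := by
      refine MvPolynomial.ringHom_ext (fun r => ?_) fun i => ?_
      · simp [ρB]
      · simp [ρB]
    have hh : ρB (∑ i, X i * C (b i)) = ∑ i, a i ⊗ₜ[A] b i := by simp [ρB, Algebra.TensorProduct.tmul_mul_tmul]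
    refine ⟨PrimeSpectrum.comap ρB P, ?_, ?_⟩
    · rw [SetLike.mem_coe, PrimeSpectrum.mem_basicOpen] at hP ⊢
      rw [← hh] at hP
      exact hP
    · rw [← PrimeSpectrum.comap_comp_apply, hcomm, PrimeSpectrum.comap_comp_apply]
  · rintro ⟨Q, hQ, hQp⟩
    let K := Q.asIdeal.ResidueField
    let κ := p.asIdeal.ResidueField
    let θ : MvPolynomial σ B →+* K := algebraMap _ _
    let ψ : A' →+* κ := algebraMap _ _
    have hker : (Q.asIdeal).comap (MvPolynomial.map (algebraMap A B)) =
        p.asIdeal.comap (aeval (R := A) a).toRingHom := congrArg PrimeSpectrum.asIdeal hQp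
    let q := (Q.asIdeal).comap (MvPolynomial.map (σ := σ) (algebraMap A B))
    let e₁ : q.ResidueField →+* K := Ideal.ResidueField.map q Q.asIdeal _ rfl
    let e₂ : q.ResidueField →+* κ := Ideal.ResidueField.map q p.asIdeal (aeval (R := A) a).toRingHom hker
    obtain ⟨F, _, i, j, hij⟩ := exists_common_field e₁ e₂
    have hsq : (i.comp θ).comp (MvPolynomial.map (algebraMap A B)) = (j.comp ψ).comp (aeval (R := A) a).toRingHom := by
      refine RingHom.ext fun x => ?_
      have h1 := RingHom.congr_fun hij (algebraMap _ q.ResidueField x)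
      exact ((congrArg i (Ideal.ResidueField.map_algebraMap q Q.asIdeal _ rfl x)).symm.trans h1).trans
        (congrArg j (Ideal.ResidueField.map_algebraMap q p.asIdeal _ hker x))
    let := ((j.comp ψ).comp (algebraMap A A')).toAlgebra
    let gA : A' →ₐ[A] F := { j.comp ψ with commutes' := fun r => rfl }
    let gB : B →ₐ[A] F :=
      { (i.comp θ).comp C with
        commutes' := fun r => by
          have h1 := RingHom.congr_fun hsq (C r)
          simp only [RingHom.comp_apply, AlgHom.toRingHom_eq_coe, RingHom.coe_coe, MvPolynomial.map_C, aeval_C] at h1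
          exact h1 }
    let g : A' ⊗[A] B →ₐ[A] F := Algebra.TensorProduct.lift gA gB fun _ _ => Commute.all _ _
    refine ⟨⟨RingHom.ker g.toRingHom, RingHom.ker_isPrime _⟩, ?_, PrimeSpectrum.ext (Ideal.ext fun x => ?_)⟩
    · rw [SetLike.mem_coe, PrimeSpectrum.mem_basicOpen] at hQ ⊢
      intro h0
      apply hQ
      have h1 : g (∑ i, a i ⊗ₜ[A] b i) = 0 := h0
      have h2 : i (θ (∑ l, X l * C (b l))) = 0 := by
        rw [← h1, map_sum, map_sum, map_sum]
        refine Finset.sum_congr rfl fun l _ => ?_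
        have h3 := RingHom.congr_fun hsq (X l)
        simp only [RingHom.comp_apply, AlgHom.toRingHom_eq_coe, RingHom.coe_coe, MvPolynomial.map_X, aeval_X] at h3
        rw [map_mul, map_mul, h3, Algebra.TensorProduct.lift_tmul]
        rfl
      exact (Ideal.algebraMap_residueField_eq_zero).1 (i.injective (h2.trans (map_zero i).symm))
    · show g (x ⊗ₜ[A] 1) = 0 ↔ x ∈ p.asIdeal
      rw [Algebra.TensorProduct.lift_tmul, map_one, mul_one]
      exact ⟨fun h => Ideal.algebraMap_residueField_eq_zero.1 (j.injective (h.trans (map_zero j).symm)),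
        fun h => by show j (ψ x) = 0; rw [show ψ x = 0 from Ideal.algebraMap_residueField_eq_zero.2 h, map_zero]⟩

theorem universallyOpen_of_tensor
    (h : ∀ (A' : Type u) [CommRing A'] [Algebra A A'],
      IsOpenMap (PrimeSpectrum.comap (Algebra.TensorProduct.includeLeftRingHom : A' →+* A' ⊗[A] B))) :
    UniversallyOpen (Spec.map (CommRingCat.ofHom (algebraMap A B))) := by
  refine ⟨MorphismProperty.universally_mk' _ _ fun {T} g _ ↦ ?_⟩
  wlog hT : ∃ R, T = Spec R generalizing T
  · refine (IsZariskiLocalAtTarget.iff_of_openCover T.affineCover).mpr fun i ↦ ?_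
    refine (MorphismProperty.cancel_left_of_respectsIso _
      ((pullbackRightPullbackFstIso ..).inv ≫ (pullbackSymmetry ..).hom) _).mp ?_
    simpa [Scheme.Cover.pullbackHom] using! this _ _ ⟨_, rfl⟩
  obtain ⟨R, rfl⟩ := hT
  obtain ⟨ψ, rfl⟩ := Spec.map_surjective g
  algebraize [ψ.hom]
  refine (MorphismProperty.cancel_left_of_respectsIso _ (pullbackSpecIso A R B).inv _).mp ?_
  convert_to! topologically _ (Spec.map <| CommRingCat.ofHom (algebraMap R (TensorProduct A R B)))
  · exact pullbackSpecIso_inv_fst ..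
  exact h R

theorem tensor_isOpenMap {A' : Type u} [CommRing A'] [Algebra A A']
    (h : ∀ g : A' ⊗[A] B, IsOpen (PrimeSpectrum.comap (Algebra.TensorProduct.includeLeftRingHom : A' →+* A' ⊗[A] B) ''
        (PrimeSpectrum.basicOpen g : Set (PrimeSpectrum (A' ⊗[A] B))))) :
    IsOpenMap (PrimeSpectrum.comap (Algebra.TensorProduct.includeLeftRingHom : A' →+* A' ⊗[A] B)) := by
  rw [PrimeSpectrum.isTopologicalBasis_basic_opens.isOpenMap_iff]
  rintro _ ⟨g, rfl⟩
  exact h g

theorem isOpen_image_of_universallyOpen {σ : Type} [UniversallyOpen (Spec.map (CommRingCat.ofHom (algebraMap A B)))]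
    (g : MvPolynomial σ B) :
    IsOpen (PrimeSpectrum.comap (MvPolynomial.map (σ := σ) (algebraMap A B)) ''
      (PrimeSpectrum.basicOpen g : Set (PrimeSpectrum (MvPolynomial σ B)))) := by
  let e : MvPolynomial σ A ⊗[A] B ≃+* MvPolynomial σ B :=
    (Algebra.TensorProduct.comm A (MvPolynomial σ A) B).toRingEquiv.trans
      (MvPolynomial.algebraTensorAlgEquiv A B).toRingEquiv
  have hsq : IsPullback (pullback.fst (Spec.map (CommRingCat.ofHom (algebraMap A (MvPolynomial σ A))))
      (Spec.map (CommRingCat.ofHom (algebraMap A B)))) (pullback.snd _ _) _ _ := IsPullback.of_hasPullback _ _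
  have huo : IsOpenMap (Spec.map (CommRingCat.ofHom (Algebra.TensorProduct.includeLeftRingHom :
      MvPolynomial σ A →+* MvPolynomial σ A ⊗[A] B))) := by
    rw [← pullbackSpecIso_inv_fst]
    exact Scheme.Hom.isOpenMap _
  have he : MvPolynomial.map (σ := σ) (algebraMap A B) =
      e.toRingHom.comp (Algebra.TensorProduct.includeLeftRingHom :
        MvPolynomial σ A →+* MvPolynomial σ A ⊗[A] B) := by
    refine MvPolynomial.ringHom_ext (fun r => ?_) fun i => ?_
    · simp [e]
    · simp [e]
  have h1 : IsOpenMap (PrimeSpectrum.comap (Algebra.TensorProduct.includeLeftRingHom :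
      MvPolynomial σ A →+* MvPolynomial σ A ⊗[A] B)) := huo
  rw [he, PrimeSpectrum.comap_comp, Set.image_comp]
  refine h1 _ ((PrimeSpectrum.homeomorphOfRingEquiv e).symm.isOpenMap _ PrimeSpectrum.isOpen_basicOpen)

theorem universallyOpen_of_forall
    (h : ∀ (n : ℕ) (b : ULift.{u} (Fin n) → B), IsOpen (PrimeSpectrum.comap (MvPolynomial.map (σ := ULift.{u} (Fin n)) (algebraMap A B)) ''
        (PrimeSpectrum.basicOpen (∑ i, X i * C (b i)) : Set (PrimeSpectrum (MvPolynomial (ULift.{u} (Fin n)) B))))) :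
    UniversallyOpen (Spec.map (CommRingCat.ofHom (algebraMap A B))) := by
  refine universallyOpen_of_tensor fun A' _ _ => tensor_isOpenMap fun g => ?_
  obtain ⟨n, a, b, rfl⟩ : ∃ (n : ℕ) (a : ULift.{u} (Fin n) → A') (b : ULift.{u} (Fin n) → B), g = ∑ i, a i ⊗ₜ[A] b i := by
    obtain ⟨s, hs⟩ := TensorProduct.exists_finset (R := A) g
    refine ⟨s.card, fun i => (s.equivFin.symm i.down).1.1, fun i => (s.equivFin.symm i.down).1.2, ?_⟩
    rw [hs, ← Finset.sum_coe_sort s (fun j => j.1 ⊗ₜ[A] j.2)]
    exact (Fintype.sum_equiv (Equiv.ulift.trans s.equivFin.symm) _ _ fun i => rfl).symm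
  refine (congrArg IsOpen (Set.ext fun p => mem_image_basicOpen_iff b a p)).mpr ?_
  exact (h n b).preimage (PrimeSpectrum.continuous_comap _)

theorem universallyOpen_of_span {d : ℕ} (b : Fin d → B) (hb : Submodule.span A (Set.range b) = ⊤)
    (h : IsOpen (PrimeSpectrum.comap (MvPolynomial.map (σ := Fin d) (algebraMap A B)) ''
        (PrimeSpectrum.basicOpen (∑ i : Fin d, X i * C (b i)) : Set (PrimeSpectrum (MvPolynomial (Fin d) B))))) :
    UniversallyOpen (Spec.map (CommRingCat.ofHom (algebraMap A B))) := by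
  refine universallyOpen_of_tensor fun A' _ _ => tensor_isOpenMap fun g => ?_
  obtain ⟨a, rfl⟩ : ∃ a : Fin d → A', g = ∑ i, a i ⊗ₜ[A] b i := by
    induction g using TensorProduct.induction_on with
    | zero => exact ⟨0, by simp⟩
    | tmul x y =>
      obtain ⟨t, ht⟩ := (Submodule.mem_span_range_iff_exists_fun A).1 (hb.ge (Submodule.mem_top (x := y)))
      refine ⟨fun i => t i • x, ?_⟩
      rw [← ht, TensorProduct.tmul_sum]
      simp [TensorProduct.smul_tmul]
    | add x y hx hy =>
      obtain ⟨a, rfl⟩ := hx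
      obtain ⟨a', rfl⟩ := hy
      exact ⟨a + a', by simp [TensorProduct.add_tmul, Finset.sum_add_distrib]⟩
  refine (congrArg IsOpen (Set.ext fun p => mem_image_basicOpen_iff b a p)).mpr ?_
  exact h.preimage (PrimeSpectrum.continuous_comap _)

end Groth.Agent.FlatMisc.UnivOpenTest
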