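import Mathlib
import Groth.Agent.FlatMisc.ValuationFP
import Groth.Agent.Triage.FibMaxFlat

/-!
# Fibre dimensions over valuation rings
-/

universe u
set_option autoImplicit false
open AlgebraicGeometry CategoryTheory TopologicalSpace
open scoped TensorProduct

namespace Groth.Agent.FlatMisc.ValuationDim

variable {R S : Type u} [CommRing R] [CommRing S] [Algebra R S]

theorem dim_fiber_eq (P : PrimeSpectrum R) :
    topologicalKrullDim ↥((Spec.map (CommRingCat.ofHom (algebraMap R S))).fiber P) = ringKrullDim (P.asIdeal.Fiber S) := by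
  rw [← PrimeSpectrum.topologicalKrullDim_eq_ringKrullDim,
    ((Spec.map (CommRingCat.ofHom (algebraMap R S))).fiberHomeo P).isHomeomorph.topologicalKrullDim_eq]
  exact (PrimeSpectrum.preimageHomeomorphFiber R S P).isHomeomorph.topologicalKrullDim_eq

theorem ringKrullDim_fiber_congr (P : PrimeSpectrum R) (K : Type u) [CommRing K] [Algebra R K] (e : P.asIdeal.ResidueField ≃ₐ[R] K) :
    ringKrullDim (P.asIdeal.Fiber S) = ringKrullDim (K ⊗[R] S) :=
  ringKrullDim_eq_of_ringEquiv (Algebra.TensorProduct.congr e AlgEquiv.refl).toRingEquiv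

theorem dim_special_eq_generic [IsDomain R] [ValuationRing R] [IsDomain S] (hinj : Function.Injective (algebraMap R S))
    [Algebra.FiniteType R S] [Nontrivial (IsLocalRing.ResidueField R ⊗[R] S)] :
    ringKrullDim (IsLocalRing.ResidueField R ⊗[R] S) = ringKrullDim (FractionRing R ⊗[R] S) := by
  haveI : Module.Flat R S := by
    rw [Module.Flat.flat_iff_torsion_eq_bot_of_isBezout, eq_bot_iff]
    rintro x ⟨⟨c, hc⟩, hcx⟩
    rw [Submonoid.smul_def, Algebra.smul_def, mul_eq_zero] at hcx
    exact hcx.resolve_left fun h => nonZeroDivisors.ne_zero hc (hinj (h.trans (map_zero _).symm))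
  haveI := ValuationFP.algebra_finitePresentation (R := R) (A := S)
  let f := Spec.map (CommRingCat.ofHom (algebraMap R S))
  haveI : Flat f := HasRingHomProperty.Spec_iff.2 (RingHom.flat_algebraMap_iff.2 inferInstance)
  haveI : LocallyOfFinitePresentation f := HasRingHomProperty.Spec_iff.2 (RingHom.finitePresentation_algebraMap.2 inferInstance)
  let P : PrimeSpectrum R := IsLocalRing.closedPoint R
  let O : PrimeSpectrum R := ⟨⊥, Ideal.isPrime_bot⟩
  let ξ : Spec (CommRingCat.of S) := (⟨⊥, Ideal.isPrime_bot⟩ : PrimeSpectrum S)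
  have hξ : ∀ x : Spec (CommRingCat.of S), ξ ⤳ x := fun x =>
    (PrimeSpectrum.le_iff_specializes (⟨⊥, Ideal.isPrime_bot⟩ : PrimeSpectrum S) (x : PrimeSpectrum S)).mp bot_le
  have hmax : FibDim.FibMax f ξ := FibDim.fibMax_of_maximal f fun z hz => (hz.antisymm (hξ z)).eq
  have hfξ : f ξ = O := by
    refine PrimeSpectrum.ext ?_
    show Ideal.comap (algebraMap R S) ⊥ = ⊥
    exact Ideal.comap_bot_of_injective _ hinj
  have key : ∀ w, FibDim.FibMax f w → FibDim.rd f w = FibDim.rd f ξ := fun w hw => by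
    have h1 := Triage.FibMaxFlat.fibreDimAt_eq_of_specializes f (hξ w) hw
    rw [FibDim.fibreDimAt_eq_rd f hw, FibDim.fibreDimAt_eq_rd f hmax] at h1
    exact_mod_cast h1.symm
  have hdim : ∀ y : Spec (CommRingCat.of R), (∃ z, f z = y) →
      topologicalKrullDim ↥(f.fiber y) = ((FibDim.rd f ξ : ℕ∞) : WithBot ℕ∞) := by
    intro y hy
    obtain ⟨z, hz⟩ := hy
    rw [FibDim.topologicalKrullDim_fiber]
    refine le_antisymm (iSup_le fun v => ?_) ?_
    · obtain ⟨w, hw, hfw, hwmax, he⟩ := FibDim.exists_fibMax_generization f v.1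
      have := (FibDim.rd_le_fibreDimAt f (specializes_refl v.1) rfl).trans he.le
      rwa [key w hwmax] at this
    · obtain ⟨w, hw, hfw, hwmax, -⟩ := FibDim.exists_fibMax_generization f z
      rw [← key w hwmax]
      exact le_iSup (fun v : ↥(f ⁻¹' {y}) => ((FibDim.rd f v.1 : ℕ∞) : WithBot ℕ∞)) ⟨w, hfw.trans hz⟩
  let eP : P.asIdeal.ResidueField ≃ₐ[R] IsLocalRing.ResidueField R :=
    (AlgEquiv.ofBijective (IsScalarTower.toAlgHom R (R ⧸ IsLocalRing.maximalIdeal R) (IsLocalRing.maximalIdeal R).ResidueField)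
      (IsLocalRing.maximalIdeal R).bijective_algebraMap_quotient_residueField).symm
  haveI : IsFractionRing R O.asIdeal.ResidueField :=
    inferInstanceAs (IsFractionRing R (⊥ : Ideal R).ResidueField)
  let eO : O.asIdeal.ResidueField ≃ₐ[R] FractionRing R := (FractionRing.algEquiv R O.asIdeal.ResidueField).symm
  rw [← ringKrullDim_fiber_congr P _ eP, ← ringKrullDim_fiber_congr O _ eO, ← dim_fiber_eq, ← dim_fiber_eq,
    hdim O ⟨ξ, hfξ⟩, hdim P ?_]
  obtain ⟨q⟩ : Nonempty (PrimeSpectrum (P.asIdeal.Fiber S)) := by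
    haveI : Nontrivial (P.asIdeal.Fiber S) := (Algebra.TensorProduct.congr eP AlgEquiv.refl).toRingEquiv.toEquiv.nontrivial
    infer_instance
  exact ⟨((PrimeSpectrum.preimageHomeomorphFiber R S P).symm q).1, ((PrimeSpectrum.preimageHomeomorphFiber R S P).symm q).2⟩

end Groth.Agent.FlatMisc.ValuationDim
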