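import Mathlib
import Groth.Agent.FibDim.BaseChange
import Groth.Agent.FibDim.Open
import Groth.Agent.Triage.FibMaxFlat

/-!
# Fibre-generic points over valuation rings are stable under generization
-/

universe u
set_option autoImplicit false
open AlgebraicGeometry CategoryTheory CategoryTheory.Limits

namespace Groth.Agent.FlatMisc.ValuationFibGeneric

/-- Relative degrees cannot drop along generizations over a valuation ring. -/
theorem rd_le {R : Type u} [CommRing R] [IsDomain R] [ValuationRing R] {X : Scheme.{u}}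
    (f : X ⟶ Spec (CommRingCat.of R)) [LocallyOfFiniteType f] {x x' : X} (h : x' ⤳ x) :
    FibDim.rd f x ≤ FibDim.rd f x' := by
  let p : PrimeSpectrum R := f x'
  haveI : Nontrivial (R ⧸ p.asIdeal) := Ideal.Quotient.nontrivial_iff.mpr p.2.ne_top
  haveI : ValuationRing (R ⧸ p.asIdeal) := ValuationRing.iff_dvd_total.mpr ⟨fun a b => by
    obtain ⟨a, rfl⟩ := Ideal.Quotient.mk_surjective a
    obtain ⟨b, rfl⟩ := Ideal.Quotient.mk_surjective b
    exact (ValuationRing.dvd_total a b).imp (map_dvd _) (map_dvd _)⟩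
  let j : Spec (CommRingCat.of (R ⧸ p.asIdeal)) ⟶ Spec (CommRingCat.of R) :=
    Spec.map (CommRingCat.ofHom (Ideal.Quotient.mk p.asIdeal))
  haveI : IsClosedImmersion j := IsClosedImmersion.spec_of_surjective _ Ideal.Quotient.mk_surjective
  let η : Spec (CommRingCat.of (R ⧸ p.asIdeal)) := (⟨⊥, Ideal.isPrime_bot⟩ : PrimeSpectrum (R ⧸ p.asIdeal))
  have hη : j η = f x' := PrimeSpectrum.ext (Ideal.mk_ker : Ideal.comap (Ideal.Quotient.mk p.asIdeal) ⊥ = p.asIdeal)
  obtain ⟨y, hy⟩ : f x ∈ Set.range j := by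
    refine (h.map f.continuous).mem_closed j.isClosedEmbedding.isClosed_range ⟨η, hη⟩
  obtain ⟨a, ha, hqa, hrda⟩ := FibDim.exists_rd_baseChange_eq (IsPullback.of_hasPullback f j) x' η hη.symm
  obtain ⟨b, hb, -, hrdb⟩ := FibDim.exists_rd_baseChange_eq (IsPullback.of_hasPullback f j) x y hy.symm
  have hab : a ⤳ b := by
    rw [← (pullback.fst f j).isEmbedding.isInducing.specializes_iff, ha, hb]
    exact h
  rw [← hrda, ← hrdb]
  exact FibDim.rd_le_of_valuationRing (pullback.snd f j) hab fun t => hqa ▸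
    (PrimeSpectrum.le_iff_specializes (⟨⊥, Ideal.isPrime_bot⟩ : PrimeSpectrum (R ⧸ p.asIdeal))
      (t : PrimeSpectrum (R ⧸ p.asIdeal))).mp bot_le

theorem fibMax_generization {R : Type u} [CommRing R] [IsDomain R] [ValuationRing R] {X : Scheme.{u}}
    (f : X ⟶ Spec (CommRingCat.of R)) [Flat f] [LocallyOfFinitePresentation f] {x x' : X} (h : x' ⤳ x)
    (hx : FibDim.FibMax f x) : FibDim.FibMax f x' := by
  intro y hy hfy
  by_contra hne
  have h1 := FibDim.rd_le_fibreDimAt f hy hfy
  rw [Triage.FibMaxFlat.fibreDimAt_eq_of_specializes f h hx, FibDim.fibreDimAt_eq_rd f hx] at h1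
  have h2 : FibDim.rd f y ≤ FibDim.rd f x := by exact_mod_cast h1
  have h3 := FibDim.rd_lt f hy hne hfy
  have h4 := rd_le f h
  omega

end Groth.Agent.FlatMisc.ValuationFibGeneric
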