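import Mathlib
import Groth.Agent.FlatMisc.ValuationFP

/-!
# Finite presentation over essentially finite type algebras over valuation rings
-/

universe u
set_option autoImplicit false

namespace Groth.Agent.FlatMisc.ValuationLocalFP

open MvPolynomial

variable {A B M : Type u} [CommRing A] [IsDomain A] [ValuationRing A] [CommRing B] [Algebra A B]
  [Algebra.EssFiniteType A B] [AddCommGroup M] [Module B M] [Module A M] [IsScalarTower A B M]
  [Module.Finite B M] [Module.Flat A M]

include A in
theorem finitePresentation : Module.FinitePresentation B M := by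
  obtain ⟨r, φ, hφ⟩ := Module.Finite.exists_fin' B M
  refine Module.finitePresentation_of_surjective φ hφ ?_
  let B₀ := Algebra.EssFiniteType.subalgebra A B
  obtain ⟨n, π, hπ⟩ := Algebra.FiniteType.iff_quotient_mvPolynomial''.mp (inferInstance : Algebra.FiniteType A B₀)
  let ι : MvPolynomial (Fin n) A →ₐ[A] B := B₀.val.comp π
  letI : Module (MvPolynomial (Fin n) A) M := Module.compHom M ι.toRingHom
  have hsm : ∀ (p : MvPolynomial (Fin n) A) (x : M), p • x = ι p • x := fun _ _ => rfl
  let ψ : (Fin r → MvPolynomial (Fin n) A) →ₗ[MvPolynomial (Fin n) A] M :=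
    { toFun := fun p => φ (fun i => ι (p i))
      map_add' := fun p q => by
        rw [← map_add]; congr 1; funext i; simp
      map_smul' := fun c p => by
        rw [RingHom.id_apply, hsm, ← map_smul]; congr 1; funext i; simp }
  obtain ⟨s, hs⟩ := ValuationFP.fg_ker_of_torsionFree ψ fun c x hc hx => by
    have h2 : c • x = 0 := by
      rw [← algebraMap_smul B c x, ← AlgHom.commutes ι c]
      exact hx
    by_contra hx0
    have h3 : x ∈ Submodule.torsion A M := ⟨⟨c, mem_nonZeroDivisors_of_ne_zero hc⟩, h2⟩
    rw [Module.Flat.torsion_eq_bot, Submodule.mem_bot] at h3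
    exact hx0 h3
  classical
  let img : (Fin r → MvPolynomial (Fin n) A) → Fin r → B := fun p i => ι (p i)
  refine ⟨s.image img, le_antisymm (Submodule.span_le.mpr ?_) fun v hv => ?_⟩
  · intro w hw
    obtain ⟨p, hp, rfl⟩ := Finset.mem_image.mp hw
    exact hs.le (Submodule.subset_span hp)
  obtain ⟨⟨t, ht⟩, hb⟩ := IsLocalization.exist_integer_multiples (Algebra.EssFiniteType.submonoid A B) Finset.univ v
  choose b hb using fun i => hb i (Finset.mem_univ i)
  choose p hp using fun i => hπ (b i)
  have htu : IsUnit (t : B) := ht
  have hpv : img p = (t : B) • v := by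
    funext i
    show ((π (p i) : B₀) : B) = _
    rw [hp]
    exact (hb i).trans (Algebra.smul_def t (v i))
  have hp0 : p ∈ LinearMap.ker ψ := by
    show φ (img p) = 0
    rw [hpv, map_smul, LinearMap.mem_ker.mp hv, smul_zero]
  rw [← hs] at hp0
  have hmem : img p ∈ Submodule.span B (↑(s.image img) : Set (Fin r → B)) := by
    clear hpv hp hb
    induction hp0 using Submodule.span_induction with
    | mem x hx => exact Submodule.subset_span (Finset.mem_image.mpr ⟨x, hx, rfl⟩)
    | zero => rw [show img 0 = 0 from funext fun i => map_zero ι]; exact Submodule.zero_mem _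
    | add x y _ _ hx hy => rw [show img (x + y) = img x + img y from funext fun i => map_add ι _ _]; exact Submodule.add_mem _ hx hy
    | smul c x _ hx => rw [show img (c • x) = ι c • img x from funext fun i => map_mul ι _ _]; exact Submodule.smul_mem _ _ hx
  rw [hpv] at hmem
  exact (Submodule.smul_mem_iff_of_isUnit _ htu).mp hmem

end Groth.Agent.FlatMisc.ValuationLocalFP
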