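import Groth.Agent.FibDim.Alg
import Groth.Agent.VarDim.Basic
import Mathlib

/-!
# Weak relative Noether normalisation
-/

set_option autoImplicit false

open TensorProduct Topology

namespace Groth.Agent.WeakNN

universe u

open MvPolynomial

section Subst

variable {R : Type u} [CommRing R] {n : ℕ}

/-- The Nagata substitution. -/
noncomputable def θ (N : ℕ) : MvPolynomial (Fin (n + 1)) R →ₐ[R] Polynomial (MvPolynomial (Fin n) R) :=
  aeval (Fin.cases Polynomial.X fun i => Polynomial.C (X i) + Polynomial.X ^ (N ^ (i.val + 1)))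

/-- The inverse substitution. -/
noncomputable def E (N : ℕ) : Polynomial (MvPolynomial (Fin n) R) →ₐ[R] MvPolynomial (Fin (n + 1)) R :=
  Polynomial.aevalTower (aeval (R := R) fun i : Fin n => (X i.succ - X 0 ^ (N ^ (i.val + 1)) : MvPolynomial (Fin (n + 1)) R)) (X 0)

theorem E_θ (N : ℕ) (x : MvPolynomial (Fin (n + 1)) R) : E N (θ N x) = x := by
  have : (E (R := R) (n := n) N).comp (θ N) = AlgHom.id R _ := MvPolynomial.algHom_ext fun i => by
    cases i using Fin.cases <;> simp [E, θ]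
  exact AlgHom.congr_fun this x

/-- The weight of an exponent. -/
def wt (N : ℕ) (v : Fin (n + 1) →₀ ℕ) : ℕ := ∑ i, N ^ i.val * v i

theorem wt_injOn {N : ℕ} (hN : 1 < N) {v w : Fin (n + 1) →₀ ℕ} (hv : ∀ i, v i < N) (hw : ∀ i, w i < N)
    (h : wt N v = wt N w) : v = w := by
  refine Finsupp.ext <| congrFun <| List.ofFn_inj.mp ?_
  refine Nat.ofDigits_inj_of_len_eq hN (by simp) (fun l hl => ?_) (fun l hl => ?_) ?_
  · obtain ⟨i, rfl⟩ := List.mem_ofFn.1 hl; exact hv i
  · obtain ⟨i, rfl⟩ := List.mem_ofFn.1 hl; exact hw i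
  · simpa only [Nat.ofDigits_eq_sum_mapIdx, List.mapIdx_eq_ofFn, List.get_ofFn, List.length_ofFn,
      Fin.val_cast, mul_comm, List.sum_ofFn, wt, Fin.cast_cast, Fin.cast_eq_self] using h

theorem θ_monomial [Nontrivial R] {N : ℕ} (hN : 1 < N) (v : Fin (n + 1) →₀ ℕ) :
    (θ (R := R) N (monomial v 1)).Monic ∧ (θ (R := R) N (monomial v 1)).natDegree = wt N v := by
  classical
  have h : ∀ i : Fin (n + 1), (θ (R := R) N (X i)).Monic ∧ (θ (R := R) N (X i)).natDegree = N ^ i.val := by
    intro i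
    cases i using Fin.cases with
    | zero => simp [θ, Polynomial.monic_X]
    | succ i =>
      simp only [θ, aeval_X, Fin.cases_succ, Fin.val_succ]
      rw [add_comm]
      exact ⟨Polynomial.monic_X_pow_add_C _ (pow_ne_zero _ (by omega)), Polynomial.natDegree_X_pow_add_C⟩
  rw [monomial_eq, map_one, one_mul, Finsupp.prod_fintype _ _ (fun _ => pow_zero _), map_prod]
  simp only [map_pow]
  refine ⟨Polynomial.monic_prod_of_monic _ _ fun i _ => (h i).1.pow _, ?_⟩
  rw [Polynomial.natDegree_prod_of_monic _ _ fun i _ => (h i).1.pow _, wt]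
  exact Finset.sum_congr rfl fun i _ => by rw [(h i).1.natDegree_pow, (h i).2, mul_comm]

/-- A polynomial with a coefficient outside a prime becomes, after substitution, a polynomial with a
coefficient outside every prime above it. -/
theorem exists_coeff_notMem {N : ℕ} (hN : 1 < N) (F : MvPolynomial (Fin (n + 1)) R)
    (hF : ∀ v ∈ F.support, ∀ i, v i < N) (q : Ideal (MvPolynomial (Fin n) R)) [q.IsPrime]
    (h : ∃ v, C (F.coeff v) ∉ q) : ∃ j, (θ N F).coeff j ∉ q := by
  classical
  have : Nontrivial R := RingHom.domain_nontrivial ((Ideal.Quotient.mk q).comp C)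
  let T := F.support.filter fun v => C (F.coeff v) ∉ q
  obtain ⟨v₀, hv₀⟩ := h
  have hT : T.Nonempty := ⟨v₀, Finset.mem_filter.2 ⟨mem_support_iff.2 fun h0 => hv₀ (by rw [h0, map_zero]; exact q.zero_mem), hv₀⟩⟩
  obtain ⟨v, hv, hmax⟩ := T.exists_max_image (wt N) hT
  obtain ⟨hvs, hvq⟩ := Finset.mem_filter.1 hv
  refine ⟨wt N v, ?_⟩
  have hterm : ∀ w, θ N (monomial w (F.coeff w)) = Polynomial.C (C (F.coeff w)) * θ N (monomial w 1) := by
    intro w
    rw [show monomial w (F.coeff w) = C (F.coeff w) * monomial w 1 by rw [C_mul_monomial, mul_one], map_mul]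
    congr 1
    simp [θ, Polynomial.algebraMap_apply, MvPolynomial.algebraMap_eq]
  rw [F.as_sum, map_sum, Polynomial.finsetSum_coeff, ← Finset.add_sum_erase _ _ hvs]
  have hrest : ∑ w ∈ F.support.erase v, (θ N (monomial w (F.coeff w))).coeff (wt N v) ∈ q := by
    refine q.sum_mem fun w hw => ?_
    obtain ⟨hne, hws⟩ := Finset.mem_erase.1 hw
    rw [hterm, Polynomial.coeff_C_mul]
    by_cases hwq : C (F.coeff w) ∈ q
    · exact q.mul_mem_right _ hwq
    · have hlt : wt N w < wt N v := lt_of_le_of_ne (hmax w (Finset.mem_filter.2 ⟨hws, hwq⟩))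
        fun he => hne (wt_injOn hN (hF w hws) (hF v hvs) he)
      rw [Polynomial.coeff_eq_zero_of_natDegree_lt ((θ_monomial hN w).2.trans_lt hlt), mul_zero]
      exact q.zero_mem
  intro hmem
  rw [q.add_mem_iff_left hrest, hterm, Polynomial.coeff_C_mul, ← (θ_monomial (R := R) hN v).2,
    (θ_monomial (R := R) hN v).1.coeff_natDegree, mul_one] at hmem
  exact hvq hmem

end Subst

/-- Finitely many primes of a polynomial ring over a given prime contain a polynomial not vanishing
modulo that prime. -/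
theorem finite_primes_over {A : Type u} [CommRing A] (p : PrimeSpectrum A) (H : Polynomial A) (j : ℕ)
    (hj : H.coeff j ∉ p.asIdeal) :
    {q : PrimeSpectrum (Polynomial A) | PrimeSpectrum.comap Polynomial.C q = p ∧ H ∈ q.asIdeal}.Finite := by
  classical
  let K := p.asIdeal.ResidueField
  let Φ : K ⊗[A] Polynomial A ≃ₐ[A] Polynomial K := (polyEquivTensor A K).symm
  let H' : p.asIdeal.Fiber (Polynomial A) := 1 ⊗ₜ[A] H
  have hΦ : Φ H' = H.map (algebraMap A K) := by
    simp [Φ, H']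
  have hne : Φ H' ≠ 0 := by
    rw [hΦ]
    intro h0
    have := congrArg (fun P : Polynomial K => P.coeff j) h0
    simp only [Polynomial.coeff_map, Polynomial.coeff_zero] at this
    exact hj (Ideal.algebraMap_residueField_eq_zero.1 this)
  have hfin : {Q : PrimeSpectrum (Polynomial K) | Φ H' ∈ Q.asIdeal}.Finite := by
    refine Set.Finite.of_finite_image ((Ideal.span {Φ H'}).finite_minimalPrimes_of_isNoetherianRing.subset ?_)
      (fun _ _ _ _ h => PrimeSpectrum.ext h)
    rintro _ ⟨Q, hQ, rfl⟩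
    refine ⟨⟨Q.isPrime, (Ideal.span_singleton_le_iff_mem _).2 hQ⟩, fun J ⟨hJ, hJl⟩ hJQ => ?_⟩
    haveI := hJ
    have : J.IsMaximal := hJ.isMaximal fun h0 => hne (by
      have := hJl (Ideal.mem_span_singleton_self _)
      rw [h0] at this
      exact this)
    exact (this.eq_of_le Q.isPrime.ne_top hJQ).ge
  let e := PrimeSpectrum.preimageEquivFiber A (Polynomial A) p
  have hsub : {Q : PrimeSpectrum (p.asIdeal.Fiber (Polynomial A)) | H' ∈ Q.asIdeal}.Finite := by
    refine (hfin.image (fun Q => PrimeSpectrum.comap (Φ : K ⊗[A] Polynomial A →+* Polynomial K) Q)).subset ?_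
    intro Q hQ
    refine ⟨PrimeSpectrum.comap (Φ.symm : Polynomial K →+* K ⊗[A] Polynomial A) Q, ?_, ?_⟩
    · show (Φ.symm : Polynomial K →+* K ⊗[A] Polynomial A) (Φ H') ∈ Q.asIdeal
      have hmem : H' ∈ Q.asIdeal := hQ
      simpa using hmem
    · refine PrimeSpectrum.ext (Ideal.ext fun x => ?_)
      simp
  refine (hsub.image fun Q => (e.symm Q).1).subset ?_
  rintro q ⟨hq, hHq⟩
  refine ⟨e ⟨q, hq⟩, ?_, by simp⟩
  show H' ∈ (e ⟨q, hq⟩).asIdeal
  simp [e, H', PrimeSpectrum.preimageEquivFiber, hHq]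

/-- An element killed in a fibre is killed by a localised congruence. -/
theorem exists_smul_mem_of_tmul_eq_zero {A B : Type u} [CommRing A] [CommRing B] [Algebra A B] (p : Ideal A)
    [p.IsPrime] (x : B) (hx : (1 : p.ResidueField) ⊗ₜ[A] x = 0) :
    ∃ s ∉ p, algebraMap A B s * x ∈ p.map (algebraMap A B) := by
  let := Algebra.TensorProduct.rightAlgebra (R := A) (A := p.ResidueField) (B := B)
  have h := (Ideal.Fiber.algEquivAux₁ (S := B) p).commutes x
  rw [show algebraMap B (p.Fiber B) x = (1 : p.ResidueField) ⊗ₜ[A] x from rfl, hx, map_zero] at h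
  rw [IsScalarTower.algebraMap_apply B (Localization (Algebra.algebraMapSubmonoid B p.primeCompl)),
    eq_comm, Ideal.Quotient.algebraMap_eq, Ideal.Quotient.eq_zero_iff_mem,
    IsLocalization.algebraMap_mem_map_algebraMap_iff (Algebra.algebraMapSubmonoid B p.primeCompl)] at h
  obtain ⟨_, ⟨s, hs, rfl⟩, hsx⟩ := h
  exact ⟨s, hs, hsx⟩

section Main

variable {R S : Type u} [CommRing R] [CommRing S] [Algebra R S] [Algebra.FiniteType R S]

theorem exists_relation {m : ℕ} (φ : MvPolynomial (Fin m) R →ₐ[R] S) (p : PrimeSpectrum R) {d : ℕ}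
    (hd : ringKrullDim (p.asIdeal.Fiber S) ≤ d) (hdm : d < m) :
    ∃ (F : MvPolynomial (Fin m) R) (s : R) (J : Ideal R), J.FG ∧ J ≤ p.asIdeal ∧ s ∉ p.asIdeal ∧
      (∃ v, F.coeff v ∉ p.asIdeal) ∧ algebraMap R S s * φ F ∈ J.map (algebraMap R S) := by
  classical
  let K := p.asIdeal.ResidueField
  let ψ : MvPolynomial (Fin m) K →ₐ[K] p.asIdeal.Fiber S := aeval fun i => (1 : K) ⊗ₜ[R] φ (X i)
  have hψ : ∀ F : MvPolynomial (Fin m) R, ψ (F.map (algebraMap R K)) = (1 : K) ⊗ₜ[R] φ F := by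
    intro F
    induction F using MvPolynomial.induction_on with
    | C a =>
      rw [map_C, ← MvPolynomial.algebraMap_eq, ← MvPolynomial.algebraMap_eq, AlgHom.commutes, AlgHom.commutes,
        Algebra.TensorProduct.algebraMap_apply, Algebra.algebraMap_self_apply,
        Algebra.TensorProduct.tmul_one_eq_one_tmul]
    | add a b ha hb => rw [map_add, map_add, map_add, TensorProduct.tmul_add, ha, hb]
    | mul_X a i ha =>
      rw [map_mul, map_mul, map_mul, ha, map_X, show ψ (X i) = (1 : K) ⊗ₜ[R] φ (X i) from aeval_X _ _,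
        Algebra.TensorProduct.tmul_mul_tmul, one_mul]
  obtain ⟨G, hG, hG0⟩ : ∃ G, ψ G = 0 ∧ G ≠ 0 := by
    by_contra hno
    push Not at hno
    have hinj : Function.Injective ψ := (injective_iff_map_eq_zero _).2 hno
    obtain ⟨P, hP, hPc⟩ := Ideal.exists_comap_eq_of_mem_minimalPrimes (f := ψ.toRingHom)
      (⊥ : Ideal (MvPolynomial (Fin m) K))
      (by
        rw [show (⊥ : Ideal (p.asIdeal.Fiber S)).comap ψ.toRingHom = ⊥ from
          (RingHom.ker_eq_comap_bot _).symm.trans ((RingHom.injective_iff_ker_eq_bot _).1 hinj)]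
        rw [Ideal.minimalPrimes_eq_subsingleton_self]
        rfl)
    haveI : P.IsPrime := hP
    let L := p.asIdeal.Fiber S ⧸ P
    have hinj' : Function.Injective ((Ideal.Quotient.mkₐ K P).comp ψ) := (injective_iff_map_eq_zero _).2 fun x hx => by
      have : x ∈ P.comap ψ.toRingHom := (Ideal.Quotient.eq_zero_iff_mem (I := P)).1 hx
      rw [hPc.2] at this
      exact this
    obtain ⟨N, hN, hNt⟩ := Groth.Agent.VarDim.exists_dim_eq_trdeg K L
    have hai : AlgebraicIndependent K (((Ideal.Quotient.mkₐ K P).comp ψ) ∘ (X : Fin m → MvPolynomial (Fin m) K)) :=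
      AlgebraicIndependent.map' (MvPolynomial.algebraicIndependent_X (Fin m) K) hinj'
    have h1 : m ≤ N := by
      have h2 := hai.lift_cardinalMk_le_trdeg
      rw [hNt, Cardinal.mk_fin, Cardinal.lift_natCast, Cardinal.lift_natCast] at h2
      exact_mod_cast h2
    have h3 : ringKrullDim L ≤ d :=
      (ringKrullDim_le_of_surjective (Ideal.Quotient.mk P) Ideal.Quotient.mk_surjective).trans hd
    rw [hN] at h3
    have h4 : N ≤ d := by exact_mod_cast h3
    omega
  obtain ⟨t, ht, F, hF⟩ := Groth.Agent.FibDim.exists_C_mul_mem_range p.asIdeal G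
  have hcoeff : ∃ v, F.coeff v ∉ p.asIdeal := by
    obtain ⟨v, hv⟩ := exists_coeff_ne_zero hG0
    refine ⟨v, fun h => ?_⟩
    have h1 := congrArg (MvPolynomial.coeff v) hF
    rw [coeff_C_mul, coeff_map, Ideal.algebraMap_residueField_eq_zero.2 h] at h1
    exact mul_ne_zero (fun h0 => ht (Ideal.algebraMap_residueField_eq_zero.1 h0)) hv h1
  have h0 : (1 : K) ⊗ₜ[R] φ F = 0 := by rw [← hψ, ← hF, map_mul, hG, mul_zero]
  obtain ⟨s, hs, hmem⟩ := exists_smul_mem_of_tmul_eq_zero p.asIdeal (φ F) h0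
  obtain ⟨T, hT, hTm⟩ := Submodule.mem_span_finite_of_mem_span hmem
  choose c hc hc' using fun y : T => hT y.2
  refine ⟨F, s, Ideal.span (Set.range c), Submodule.fg_span (Set.finite_range c),
    Ideal.span_le.2 (Set.range_subset_iff.2 hc), hs, hcoeff, ?_⟩
  refine Submodule.span_le.2 (fun y hy => ?_) hTm
  have e := hc' ⟨y, hy⟩
  simp only at e
  rw [← e]
  exact Ideal.mem_map_of_mem _ (Ideal.subset_span ⟨_, rfl⟩)

/-- One step. -/
theorem step {n d : ℕ} (φ : MvPolynomial (Fin (n + 1)) R →ₐ[R] S) (hφ : φ.toRingHom.QuasiFinite)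
    (hd : ∀ p : PrimeSpectrum R, ringKrullDim (p.asIdeal.Fiber S) ≤ d) (hdn : d < n + 1) :
    ∃ φ' : MvPolynomial (Fin n) R →ₐ[R] S, φ'.toRingHom.QuasiFinite := by
  classical
  choose F s J hJfg hJp hsp hFp hmem using fun p => exists_relation φ p (hd p) hdn
  choose v hv using hFp
  let W : PrimeSpectrum R → Set (PrimeSpectrum R) := fun p =>
    ↑(PrimeSpectrum.basicOpen (s p * (F p).coeff (v p))) ∩ PrimeSpectrum.zeroLocus (J p : Set R)
  have hW : ∀ p, p ∈ W p := fun p =>
    ⟨fun h => (p.isPrime.mem_or_mem h).elim (hsp p) (hv p), fun _ h => hJp p h⟩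
  have hWo : ∀ p, IsOpen[constructibleTopology (PrimeSpectrum R)] (W p) := fun p => by
    refine @IsOpen.inter _ (constructibleTopology _) _ _
      ((PrimeSpectrum.isCompact_basicOpen _).isOpen_constructibleTopology_of_isOpen (PrimeSpectrum.basicOpen _).isOpen) ?_
    refine IsCompact.isOpen_constructibleTopology_of_isClosed ?_ (PrimeSpectrum.isClosed_zeroLocus _)
    obtain ⟨T, hT⟩ := hJfg p
    exact PrimeSpectrum.isCompact_isOpen_iff.2 ⟨T, by rw [← PrimeSpectrum.zeroLocus_span (T : Set R)]; exact congrArg (fun I : Ideal R => (PrimeSpectrum.zeroLocus (I : Set R))ᶜ) hT⟩ |>.1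
  obtain ⟨P, hP⟩ : ∃ P : Finset (PrimeSpectrum R), ∀ q, ∃ p ∈ P, q ∈ W p := by
    obtain ⟨P, hP⟩ := (CompactSpace.isCompact_univ (X := WithConstructibleTopology (PrimeSpectrum R))).elim_finite_subcover
      (fun p => WithTopology.ofTopology ⁻¹' W p) (fun p => @Continuous.isOpen_preimage _ _ _ (constructibleTopology (PrimeSpectrum R)) _ (WithTopology.continuous_ofTopology _) _ (hWo p))
      (fun q _ => Set.mem_iUnion.2 ⟨_, hW _⟩)
    refine ⟨P, fun q => ?_⟩
    obtain ⟨p, hp, hq⟩ := Set.mem_iUnion₂.1 (hP (Set.mem_univ (WithTopology.toTopology _ q)))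
    exact ⟨p, hp, hq⟩
  let N := (P.sup fun p => (F p).totalDegree) + 2
  have hN : 1 < N := by omega
  have hFN : ∀ p ∈ P, ∀ w ∈ (F p).support, ∀ i, w i < N := fun p hp w hw i => by
    have h1 := ((monomial_le_degreeOf i hw).trans (degreeOf_le_totalDegree _ i)).trans
      (Finset.le_sup (f := fun p => (F p).totalDegree) hp)
    omega
  let ι : MvPolynomial (Fin n) R →ₐ[R] MvPolynomial (Fin (n + 1)) R :=
    aeval fun i : Fin n => X i.succ - X 0 ^ (N ^ (i.val + 1))
  refine ⟨φ.comp ι, ?_⟩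
  have hEC : ∀ a, E N (Polynomial.C a) = ι a := fun a => by simp [E, ι]
  letI alg : Algebra (MvPolynomial (Fin n) R) S := (φ.comp ι).toRingHom.toAlgebra
  show Algebra.QuasiFinite (MvPolynomial (Fin n) R) S
  haveI : IsScalarTower R (MvPolynomial (Fin n) R) S :=
    IsScalarTower.of_algebraMap_eq fun r => ((φ.comp ι).commutes r).symm
  haveI : Algebra.FiniteType (MvPolynomial (Fin n) R) S :=
    Algebra.FiniteType.of_restrictScalars_finiteType R _ S
  rw [Algebra.QuasiFinite.iff_finite_comap_preimage_singleton]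
  intro q
  obtain ⟨p, hp, hq⟩ := hP (PrimeSpectrum.comap C q)
  obtain ⟨hq1, hq2⟩ := hq
  have hs' : s p ∉ q.asIdeal.comap C := fun h => hq1 (Ideal.mul_mem_right _ _ h)
  have hc' : (F p).coeff (v p) ∉ q.asIdeal.comap C := fun h => hq1 (Ideal.mul_mem_left _ _ h)
  obtain ⟨j, hj⟩ := exists_coeff_notMem hN (F p) (hFN p hp) q.asIdeal ⟨v p, hc'⟩
  have hfin := finite_primes_over q (θ N (F p)) j hj
  letI := φ.toRingHom.toAlgebra
  haveI : Algebra.QuasiFinite (MvPolynomial (Fin (n + 1)) R) S := hφ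
  refine (Algebra.QuasiFinite.finite_comap_preimage (R := MvPolynomial (Fin (n + 1)) R) (S := S)
    (hfin.preimage (f := PrimeSpectrum.comap (E (R := R) (n := n) N).toRingHom)
      (PrimeSpectrum.comap_injective_of_surjective _ fun x => ⟨θ N x, E_θ N x⟩).injOn)).subset ?_
  intro Q hQ
  refine ⟨?_, ?_⟩
  · rw [← show PrimeSpectrum.comap (φ.comp ι).toRingHom Q = q from hQ]
    refine PrimeSpectrum.ext (Ideal.ext fun a => ?_)
    show φ (E N (Polynomial.C a)) ∈ Q.asIdeal ↔ φ (ι a) ∈ Q.asIdeal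
    rw [hEC]
  · show φ (E N (θ N (F p))) ∈ Q.asIdeal
    rw [E_θ]
    have hqQ : ∀ r : R, r ∈ q.asIdeal.comap C ↔ algebraMap R S r ∈ Q.asIdeal := fun r => by
      rw [← show PrimeSpectrum.comap (φ.comp ι).toRingHom Q = q from hQ, ← (φ.comp ι).commutes r]
      rfl
    have hle : (J p).map (algebraMap R S) ≤ Q.asIdeal :=
      Ideal.map_le_iff_le_comap.2 fun r hr => (hqQ r).1 (hq2 hr)
    exact (Q.isPrime.mem_or_mem (hle (hmem p))).resolve_left fun h => hs' ((hqQ _).2 h)

theorem exists_quasiFinite (d : ℕ) (hd : ∀ p : PrimeSpectrum R, ringKrullDim (p.asIdeal.Fiber S) ≤ d) :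
    ∃ φ : MvPolynomial (Fin d) R →ₐ[R] S, φ.toRingHom.QuasiFinite := by
  classical
  obtain ⟨n, φ, hφ⟩ := Algebra.FiniteType.iff_quotient_mvPolynomial''.1 (inferInstance : Algebra.FiniteType R S)
  have key : ∀ k, (∃ φ : MvPolynomial (Fin (d + k)) R →ₐ[R] S, φ.toRingHom.QuasiFinite) →
      ∃ φ : MvPolynomial (Fin d) R →ₐ[R] S, φ.toRingHom.QuasiFinite := by
    intro k
    induction k with
    | zero => exact id
    | succ k ih => exact fun ⟨φ, hφ⟩ => ih (step φ hφ hd (by omega))
  let g : MvPolynomial (Fin (d + n)) R →ₐ[R] S := φ.comp (aeval (Fin.addCases 0 X))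
  refine key n ⟨g, RingHom.QuasiFinite.of_finite (RingHom.Finite.of_surjective _ fun x => ?_)⟩
  obtain ⟨y, rfl⟩ := hφ x
  refine ⟨rename (Fin.natAdd d) y, ?_⟩
  show φ (aeval _ (rename _ y)) = φ y
  rw [aeval_rename]
  congr 1
  exact (congrArg (fun f => aeval f y) (funext fun i => by simp)).trans (aeval_X_left_apply y)

end Main

end Groth.Agent.WeakNN
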